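import Cfsg.Agent.RegUnip.Flag

/-!
An element moving a regular unipotent element by a central element of degree `k` forces `d < 2k`.
-/

set_option autoImplicit false

namespace CfsgLib.RegUnip

variable {K V : Type*} [Field K] [AddCommGroup V] [Module K V]

theorem fil_zero_of_commute {N : Module.End K V} {d : ℕ} (h : Regular N d) {U : Module.End K V}
    (hU : Commute U N) : U ∈ fil N 0 := by
  obtain ⟨c, rfl⟩ := h.exists_eq_sum hU
  exact Submodule.sum_mem _ fun l _ => Submodule.smul_mem _ _ (fil_anti (by omega) (pow_self_mem_fil N l))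

theorem pow_sub_pow_mem_fil' {N A B : Module.End K V} {k : ℤ} (hA : A ∈ fil N 0) (hB : B ∈ fil N 0)
    (hAB : A - B ∈ fil N k) (l : ℕ) : A ^ l - B ^ l ∈ fil N k := by
  induction l with
  | zero => simp
  | succ l ih =>
    rw [show A ^ (l + 1) - B ^ (l + 1) = (A ^ l - B ^ l) * A + B ^ l * (A - B) by
      rw [pow_succ, pow_succ, sub_mul, mul_sub]; abel]
    refine add_mem (fil_anti (by omega) (mul_mem_fil ih hA)) ?_
    have := mul_mem_fil (pow_mem_fil hB l) hAB
    rwa [zero_mul, zero_add] at this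

/-- The binomial expansion to first order. -/
theorem add_pow_first_order {N M : Module.End K V} (hNM : Commute N M) {k : ℕ}
    (hk : 1 ≤ k) (hM : M ∈ fil N (k : ℤ)) : ∀ l : ℕ,
      (N + M) ^ (l + 1) - N ^ (l + 1) - ((l + 1 : ℕ) : K) • (N ^ l * M) ∈
        fil N ((l : ℤ) + 2 * (k : ℤ) - 1) := by
  intro l
  induction l with
  | zero => simp
  | succ l ih =>
    have hN1 : N ∈ fil N 1 := by simpa using pow_self_mem_fil N 1
    have key : (N + M) ^ (l + 1 + 1) - N ^ (l + 1 + 1) - ((l + 1 + 1 : ℕ) : K) • (N ^ (l + 1) * M) =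
        ((N + M) ^ (l + 1) - N ^ (l + 1) - ((l + 1 : ℕ) : K) • (N ^ l * M)) * N +
        ((N + M) ^ (l + 1) - N ^ (l + 1) - ((l + 1 : ℕ) : K) • (N ^ l * M)) * M +
        ((l + 1 : ℕ) : K) • (N ^ l * M * M) := by
      have hc : N ^ l * M * N = N ^ (l + 1) * M := by
        rw [mul_assoc, ← hNM.eq, ← mul_assoc, ← pow_succ]
      rw [pow_succ (N + M), pow_succ N (l + 1), Nat.cast_succ (l + 1), add_smul, one_smul, mul_add]
      simp only [sub_mul, smul_mul_assoc, hc]
      abel
    rw [key]
    refine add_mem (add_mem (fil_anti (by push_cast; omega) (mul_mem_fil ih hN1)) ?_) ?_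
    · exact fil_anti (by push_cast; omega) (mul_mem_fil ih hM)
    · exact Submodule.smul_mem _ _
        (fil_anti (by push_cast; omega) (mul_mem_fil (mul_mem_fil (pow_self_mem_fil N l) hM) hM))

/-- If conjugation multiplies `1 + N` by an element of degree `k` which it fixes, then `d < 2k`. -/
theorem lt_two_mul_of_conj {N : Module.End K V} {d : ℕ} (h : Regular N d) {k : ℕ} (hk : 2 ≤ k)
    (hkK : (k : K) ≠ 0) {c : K} (hc : c ≠ 0) {U : Module.End K V} (hU : Commute U N)
    (G : (Module.End K V)ˣ)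
    (hu : (G : Module.End K V) * (1 + N) * (↑G⁻¹ : Module.End K V) =
      (1 + c • N ^ k * (1 + N * U)) * (1 + N))
    (hz : (G : Module.End K V) * (c • N ^ k * (1 + N * U)) * (↑G⁻¹ : Module.End K V) =
      c • N ^ k * (1 + N * U)) : d < 2 * k := by
  by_contra hd
  push Not at hd
  set φ : Module.End K V → Module.End K V := fun A => (G : Module.End K V) * A * (↑G⁻¹ : Module.End K V)
  set E := 1 + N * U with hE
  set M := c • N ^ k * E * (1 + N) with hMdef
  have hN1 : N ∈ fil N 1 := by simpa using pow_self_mem_fil N 1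
  have hU0 := fil_zero_of_commute h hU
  have hEc : Commute E N := (Commute.one_left N).add_left ((Commute.refl N).mul_left hU)
  have hE0 := fil_zero_of_commute h hEc
  have hMc : Commute M N :=
    ((((Commute.pow_self N k).smul_left c).mul_left hEc).mul_left
      ((Commute.one_left N).add_left (Commute.refl N)))
  have hMfil : M ∈ fil N (k : ℤ) := by
    have := mul_mem_fil (mul_mem_fil (Submodule.smul_mem _ c (pow_self_mem_fil N k)) hE0)
      (fil_zero_of_commute h ((Commute.one_left N).add_left (Commute.refl N)))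
    rw [hMdef]; simpa using this
  have hφN : φ N = N + M := by
    have h1 : φ N = (G : Module.End K V) * (1 + N) * (↑G⁻¹ : Module.End K V) - 1 := by
      simp [φ, mul_add, add_mul]
    rw [h1, hu, add_mul, one_mul, hMdef]
    abel
  have hφsub : φ N - N ∈ fil N (k : ℤ) := by rw [hφN, add_sub_cancel_left]; exact hMfil
  have hφN1 : φ N ∈ fil N 1 := by
    rw [hφN]; exact add_mem hN1 (fil_anti (by omega) hMfil)
  have hφpow : ∀ l : ℕ, φ (N ^ l) = (φ N) ^ l := fun l => (Units.conj_pow G N l).symm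
  have hφU : φ U - U ∈ fil N (k : ℤ) := by
    obtain ⟨a, ha⟩ := h.exists_eq_sum hU
    rw [ha]
    simp only [φ, Finset.mul_sum, Finset.sum_mul, mul_smul_comm, smul_mul_assoc, ← Finset.sum_sub_distrib,
      ← smul_sub]
    refine Submodule.sum_mem _ fun l _ => Submodule.smul_mem _ _ ?_
    rw [show (G : Module.End K V) * N ^ (l : ℕ) * (↑G⁻¹ : Module.End K V) = (φ N) ^ (l : ℕ) from hφpow l]
    exact pow_sub_pow_mem_fil' (fil_anti (by omega) hφN1) (fil_anti (by omega) hN1) hφsub l
  have hφU0 : φ U ∈ fil N 0 := by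
    have := add_mem (fil_anti (show (0 : ℤ) ≤ k by omega) hφU) hU0
    rwa [sub_add_cancel] at this
  have hφE : φ E = 1 + φ N * φ U := by
    simp [φ, hE, mul_add, add_mul, mul_assoc]
  have hdiffE : φ E - E ∈ fil N (k : ℤ) := by
    rw [hφE, hE, show (1 + φ N * φ U) - (1 + N * U) = (φ N - N) * φ U + N * (φ U - U) by
      rw [sub_mul, mul_sub]; abel]
    exact add_mem (fil_anti (by omega) (mul_mem_fil hφsub hφU0))
      (fil_anti (by omega) (mul_mem_fil hN1 hφU))
  have hkey : c • ((φ N) ^ k * φ E) = c • (N ^ k * E) := by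
    rw [← hφpow]
    have : φ (c • N ^ k * E) = c • (φ (N ^ k) * φ E) := by simp [φ, smul_mul_assoc, mul_assoc]
    rw [← this, ← smul_mul_assoc]
    exact hz
  have hkey' : ((φ N) ^ k - N ^ k) * φ E ∈ fil N (2 * (k : ℤ)) := by
    have h1 : ((φ N) ^ k - N ^ k) * φ E = -(N ^ k * (φ E - E)) := by
      have := smul_right_injective (Module.End K V) hc hkey
      rw [sub_mul, mul_sub, this]
      abel
    rw [h1]
    exact neg_mem (fil_anti (by omega) (mul_mem_fil (pow_self_mem_fil N k) hdiffE))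
  obtain ⟨k', rfl⟩ : ∃ k', k = k' + 1 := ⟨k - 1, by omega⟩
  have hexp := add_pow_first_order hMc.symm (by omega) hMfil k'
  rw [← hφN] at hexp
  have hφE0 : φ E ∈ fil N 0 := by
    have := add_mem (fil_anti (show (0 : ℤ) ≤ ((k' + 1 : ℕ) : ℤ) by omega) hdiffE) hE0
    rwa [sub_add_cancel] at this
  have h2 : ((k' + 1 : ℕ) : K) • (N ^ k' * M * φ E) ∈ fil N (2 * ((k' + 1 : ℕ) : ℤ)) := by
    have h3 := sub_mem hkey' (fil_anti (show 2 * ((k' + 1 : ℕ) : ℤ) ≤
      (k' : ℤ) + 2 * ((k' + 1 : ℕ) : ℤ) - 1 + 0 by omega) (mul_mem_fil hexp hφE0))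
    convert h3 using 1
    simp only [sub_mul, smul_mul_assoc]
    abel
  have hlead : N ^ k' * M * φ E - c • N ^ (k' + (k' + 1)) ∈ fil N (2 * ((k' + 1 : ℕ) : ℤ)) := by
    have e1 : φ E - 1 ∈ fil N 1 := by
      rw [hφE, add_sub_cancel_left]
      exact fil_anti (by omega) (mul_mem_fil hφN1 hφU0)
    have e2 : M - c • N ^ (k' + 1) ∈ fil N (((k' + 1 : ℕ) : ℤ) + 1) := by
      have : M - c • N ^ (k' + 1) = c • (N ^ (k' + 1) * (N * U + E * N)) := by
        rw [hMdef, hE, smul_mul_assoc, smul_mul_assoc, ← smul_sub]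
        congr 1
        simp only [mul_add, add_mul, mul_one, one_mul, mul_assoc]
        abel
      rw [this]
      refine Submodule.smul_mem _ _ (mul_mem_fil (pow_self_mem_fil N _) (add_mem ?_ ?_))
      · exact fil_anti (by omega) (mul_mem_fil hN1 hU0)
      · exact fil_anti (by omega) (mul_mem_fil hE0 hN1)
    rw [show N ^ k' * M * φ E - c • N ^ (k' + (k' + 1)) =
      N ^ k' * (M - c • N ^ (k' + 1)) + N ^ k' * M * (φ E - 1) by
        rw [pow_add, mul_sub, mul_sub, mul_one, mul_smul_comm]; abel]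
    exact add_mem (fil_anti (by push_cast; omega) (mul_mem_fil (pow_self_mem_fil N k') e2))
      (fil_anti (by push_cast; omega) (mul_mem_fil (mul_mem_fil (pow_self_mem_fil N k') hMfil) e1))
  have h4 := sub_mem ((Submodule.smul_mem_iff _ hkK).1 h2) hlead
  rw [sub_sub_cancel, Submodule.smul_mem_iff _ hc] at h4
  exact h.pow_notMem_fil (show k' + (k' + 1) < d by omega) (fil_anti (by push_cast; omega) h4)

end CfsgLib.RegUnip
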