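import Cfsg.Agent.RegUnip.EssentialNormal
import Cfsg.Agent.Fus.EssentialSmall

/-!
An essential subgroup of index `p` of a `p`-group of maximal class which contains a good element has order
at most `p³`.
-/

set_option autoImplicit false

namespace CfsgLib.RegUnip

open scoped commutatorElement
open CfsgLib.PGroup.MaxClass

variable {G : Type*} [Group G]

theorem gam_characteristic (i : ℕ) : (gam G i).Characteristic :=
  Subgroup.characteristic_iff_map_eq.2 fun φ => gam_map φ.toMonoidHom φ.surjective i

theorem twoStep_characteristic (j : ℕ) : (twoStep G j).Characteristic := by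
  refine Subgroup.characteristic_iff_map_le.2 fun φ => ?_
  rintro _ ⟨g, hg, rfl⟩
  refine mem_twoStep.2 fun y hy => ?_
  rw [← gam_map φ.toMonoidHom φ.surjective] at hy ⊢
  obtain ⟨y', hy', rfl⟩ := hy
  exact ⟨_, mem_twoStep.1 hg y' hy', map_commutatorElement _ _ _⟩

/-- The relative index from the indices. -/
theorem relIndex_eq_of_index [Finite G] {A B : Subgroup G} (h : A ≤ B) {q : ℕ}
    (hq : A.index = q * B.index) : A.relIndex B = q := by
  have := Subgroup.relIndex_mul_index h
  rw [hq] at this
  exact Nat.eq_of_mul_eq_mul_right (Nat.pos_of_ne_zero Subgroup.index_ne_zero_of_finite) this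

/-- The index of a term of the series. -/
theorem index_gam [Finite G] {p : ℕ} [Fact p.Prime] {n : ℕ} (h : IsMaxCl p G n) {i : ℕ} (hi : 2 ≤ i)
    (hin : i ≤ n) : (gam G i).index = p ^ i := by
  have h1 := (gam G i).card_mul_index
  rw [h.card_gam i hi hin, h.card_eq,
    show p ^ n = p ^ (n - i) * p ^ i by rw [← pow_add, Nat.sub_add_cancel hin]] at h1
  exact Nat.eq_of_mul_eq_mul_left (pow_pos (Fact.out : p.Prime).pos _) h1

/-- A maximal subgroup containing a good element is of maximal class. -/
theorem isMaxCl_of_good [Finite G] {p : ℕ} [Fact p.Prime] {n : ℕ} (h : IsMaxCl p G n) (h5 : 5 ≤ n)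
    {M : Type*} [Group M] [Finite M] (ι : M →* G) (hι : Function.Injective ι)
    (hidx : ι.range.index = p) {x : G} (hx : Good G n x) (hxM : x ∈ ι.range) :
    IsMaxCl p M (n - 1) := by
  have hp : p.Prime := Fact.out
  have hcard : Nat.card M = p ^ (n - 1) := by
    have h1 := ι.range.card_mul_index
    rw [hidx, h.card_eq, show p ^ n = p ^ (n - 1) * p by rw [← pow_succ, Nat.sub_add_cancel (by omega)]] at h1
    rw [← Nat.eq_of_mul_eq_mul_right hp.pos h1]
    exact Nat.card_congr (MonoidHom.ofInjective hι).toEquiv
  refine isMaxCl_of_ne_bot hcard (by omega) fun hbot => ?_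
  obtain ⟨e, rfl⟩ := hxM
  have hle : gam G 2 ≤ ι.range := by
    rw [← h.frattini_eq]
    exact frattini_le_coatom (CfsgLib.PGroup.isCoatom_of_index_eq hidx)
  have hchain : ∀ j, j + 4 ≤ n → ∃ v ∈ gam M (j + 2), ι v ∈ gam G (j + 3) ∧ ι v ∉ gam G (j + 4) := by
    intro j
    induction j with
    | zero =>
      intro _
      obtain ⟨a, ha, ha'⟩ := h.exists_notMem_succ le_rfl (show 2 < n by omega)
      obtain ⟨b, rfl⟩ := hle ha
      refine ⟨⁅b, e⁆, comm_mem_gam_succ le_rfl (gam_one (G := M) ▸ Subgroup.mem_top b) e, ?_, ?_⟩
      · rw [map_commutatorElement]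
        exact comm_mem_gam_succ (by omega) ha (ι e)
      · rw [map_commutatorElement]
        exact h.comm_notMem hx le_rfl (by omega) ha ha'
    | succ j ih =>
      intro hj
      obtain ⟨v, hv, hv1, hv2⟩ := ih (by omega)
      refine ⟨⁅v, e⁆, comm_mem_gam_succ (by omega) hv e, ?_, ?_⟩
      · rw [map_commutatorElement]
        exact comm_mem_gam_succ (by omega) hv1 (ι e)
      · rw [map_commutatorElement]
        exact h.comm_notMem hx (by omega) (by omega) hv1 hv2
  obtain ⟨v, hv, -, hv2⟩ := hchain (n - 4) (by omega)
  rw [gam, show n - 4 + 2 - 1 = n - 1 - 2 by omega, hbot, Subgroup.mem_bot] at hv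
  rw [hv, map_one] at hv2
  exact hv2 (one_mem _)

variable {Ω : Type*} [Group Ω] {S : Subgroup Ω} [Finite S] {p : ℕ} [Fact p.Prime]

/-- An essential subgroup has no good element if its index is `p` and the order is at least `p⁴`. -/
theorem false_of_good_essential (hS : IsPGroup p S) {F : Cfsg.FusionSystem S} {n : ℕ}
    (h : IsMaxCl p S n) (h5 : 5 ≤ n) {E : Subgroup Ω} (hE : F.IsEssential p E)
    (hidx : (E.subgroupOf S).index = p) {x : S} (hx : Good S n x) (hxE : (x : Ω) ∈ E) : False := by
  haveI : Finite E := CfsgLib.Fus.finite_of_le hE.1.1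
  have hrange : (Subgroup.inclusion hE.1.1).range = E.subgroupOf S := Subgroup.inclusion_range hE.1.1
  have hM : IsMaxCl p E (n - 1) := isMaxCl_of_good h h5 (Subgroup.inclusion hE.1.1)
    (Subgroup.inclusion_injective _) (by rw [hrange]; exact hidx) hx
    (by rw [hrange]; exact Subgroup.mem_subgroupOf.2 hxE)
  let L : ℕ → Subgroup E := fun k =>
    if k + 3 ≤ n then gam E (n - 1 - k) else if k + 2 ≤ n then twoStep E 2 else ⊤
  refine CfsgLib.Fus.EssentialSmall.false_of_series hS hE (n - 1) L ?_ ?_ ?_ ?_ ?_
  · simp only [L]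
    rw [if_pos (by omega)]
    exact hM.gam_eq_bot (by omega)
  · simp only [L]
    rw [if_neg (by omega), if_neg (by omega)]
  · refine monotone_nat_of_le_succ fun k => ?_
    simp only [L]
    split_ifs with h1 h2 h3 h4 <;> first
      | exact gam_anti (by omega)
      | exact (gam_anti (show 2 ≤ n - 1 - k by omega)).trans (gam_two_le_twoStep (by norm_num))
      | exact le_top
      | exact le_rfl
      | omega
  · intro k
    simp only [L]
    split_ifs
    · exact gam_characteristic _
    · exact twoStep_characteristic _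
    · infer_instance
  · intro k hk
    refine (relIndex_eq_of_index ?_ (q := p) ?_).dvd
    · simp only [L]
      split_ifs with h1 h2 h3 h4 <;> first
        | exact gam_anti (by omega)
        | exact (gam_anti (show 2 ≤ n - 1 - k by omega)).trans (gam_two_le_twoStep (by norm_num))
        | exact le_top
        | omega
    · simp only [L]
      rcases (show k + 4 ≤ n ∨ k + 3 = n ∨ k + 2 = n by omega) with h1 | h1 | h1
      · rw [if_pos (by omega), if_pos (by omega), index_gam hM (by omega) (by omega),
          index_gam hM (by omega) (by omega), show n - 1 - k = n - 1 - (k + 1) + 1 by omega, pow_succ,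
          mul_comm]
      · rw [if_pos (by omega), if_neg (by omega), if_pos (by omega), show n - 1 - k = 2 by omega,
          hM.index_gam_two, hM.index_twoStep le_rfl (by omega), sq]
      · rw [if_neg (by omega), if_pos (by omega), if_neg (by omega), if_neg (by omega),
          Subgroup.index_top, mul_one, hM.index_twoStep le_rfl (by omega)]

end CfsgLib.RegUnip
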