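import Cfsg.Agent.RegUnip.Main
import Cfsg.Agent.PGroup.MaxClass.Power
import Cfsg.Agent.PGroup.MaxClass.Degree
import Cfsg.Agent.PGroup.Frattini
import Cfsg.Agent.Coprime.External
import Cfsg.Agent.Fus.Extension
import Cfsg.Agent.S5080

/-!
A normal essential subgroup of a `p`-group of maximal class, `p ≥ 5`, has index `p`.
-/

set_option autoImplicit false

namespace CfsgLib.RegUnip

open scoped commutatorElement
open CfsgLib.PGroup.MaxClass

universe v

/-- A normal subgroup of index at least `p²` of a group of maximal class is a term of the series. -/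
theorem normal_eq_gam {G : Type*} [Group G] [Finite G] {p : ℕ} [Fact p.Prime] {n : ℕ}
    (h : IsMaxCl p G n) (K : Subgroup G) [K.Normal] {j : ℕ} (hj2 : 2 ≤ j) (hK : K.index = p ^ j) :
    j ≤ n ∧ K = gam G j := by
  have hp : p.Prime := Fact.out
  have hjn : j ≤ n := by
    have h1 := K.index_dvd_card
    rw [hK, h.card_eq] at h1
    exact (Nat.pow_dvd_pow_iff_le_right hp.one_lt).1 h1
  have hle : gam G j ≤ K := by
    have h1 := CfsgLib.PGroup.card_lowerCentralSeries_le (G := G ⧸ K) (n := j) hK (j - 2)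
    rw [show j - (j - 2 + 2) = 0 by omega, pow_zero, show j - 2 + 1 = j - 1 by omega] at h1
    have h2 : gam (G ⧸ K) j = ⊥ :=
      Subgroup.card_eq_one.1 (le_antisymm h1 Nat.card_pos)
    rw [← gam_map (QuotientGroup.mk' K) (QuotientGroup.mk'_surjective K), Subgroup.map_eq_bot_iff,
      QuotientGroup.ker_mk'] at h2
    exact h2
  refine ⟨hjn, (Subgroup.eq_of_le_of_card_ge hle (le_of_eq ?_)).symm⟩
  have h1 := K.card_mul_index
  rw [hK, h.card_eq, show p ^ n = p ^ (n - j) * p ^ j by rw [← pow_add, Nat.sub_add_cancel hjn]] at h1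
  rw [h.card_gam j hj2 hjn]
  exact Nat.eq_of_mul_eq_mul_right (pow_pos hp.pos j) h1

variable {Ω : Type v} [Group Ω] {S : Subgroup Ω} [Finite S] {p : ℕ} [Fact p.Prime]

/-- An essential subgroup which is normal in `S` is not a term `γ_i`, `i ≥ 2`, of the series. -/
theorem false_of_essential_gam (hp : 5 ≤ p) (hS : IsPGroup p S) {F : Cfsg.FusionSystem S}
    (hF : F.IsSaturated p) {n : ℕ} (h : IsMaxCl p S n) {E : Subgroup Ω} (hE : F.IsEssential p E)
    {i : ℕ} (hi2 : 2 ≤ i) (hin : i ≤ n) (hEi : E.subgroupOf S = gam S i) : False := by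
  classical
  have hpp : p.Prime := Fact.out
  haveI : Finite E := CfsgLib.Fus.finite_of_le hE.1.1
  haveI : Finite (MulAut E) := CfsgLib.Fus.finite_mulAut E
  have hES : E ≤ S := hE.1.1
  set ι : E →* S := Subgroup.inclusion hES
  have hι : Function.Injective ι := Subgroup.inclusion_injective hES
  have hmem : ∀ y : S, y ∈ gam S i ↔ (y : Ω) ∈ E := fun y => by
    rw [← hEi]; exact Subgroup.mem_subgroupOf
  have hEn : (E.subgroupOf S).Normal := by rw [hEi]; infer_instance
  have hSN : S ≤ Subgroup.normalizer (E : Set Ω) := by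
    intro g hg
    refine Subgroup.mem_normalizer_iff.2 fun x => ⟨fun hx => ?_, fun hx => ?_⟩
    · exact Subgroup.mem_subgroupOf.1 (hEn.conj_mem ⟨x, hES hx⟩ (Subgroup.mem_subgroupOf.2 hx) ⟨g, hg⟩)
    · have h1 := Subgroup.mem_subgroupOf.1 (hEn.conj_mem ⟨g * x * g⁻¹, hES hx⟩
        (Subgroup.mem_subgroupOf.2 hx) ⟨g⁻¹, inv_mem hg⟩)
      simpa [mul_assoc] using h1
  -- conjugation
  let cj : S →* MulAut E := (Subgroup.normalizerMonoidHom E).comp (Subgroup.inclusion hSN)
  have hcj : ∀ (g : S) (v : E), ι (cj g v) = g * ι v * g⁻¹ := fun g v => Subtype.ext rfl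
  set A := F.autGroup E with hA
  let cjA : S →* A := cj.codRestrict A fun g =>
    CfsgLib.Fus.autInducedBy_le_autGroup F hES
      (CfsgLib.Fus.conjAut_mem_autInducedBy (hSN g.2) g.2)
  obtain ⟨hn, M, hM⟩ := hE.2.2
  set I := (Cfsg.Inn E).subgroupOf A
  haveI : I.Normal := hn
  let ψ : S →* A ⧸ I := (QuotientGroup.mk' I).comp cjA
  have hψ1 : ∀ g : S, ψ g = 1 ↔ g ∈ gam S i := by
    intro g
    show ((cjA g : A) : A ⧸ I) = 1 ↔ _
    rw [QuotientGroup.eq_one_iff, hmem]
    constructor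
    · intro hg
      exact CfsgLib.Fusion.Alperin.mem_of_conjAut_inn hE.1 g.2 (hSN g.2) (Subgroup.mem_subgroupOf.1 hg)
    · intro hg
      exact Subgroup.mem_subgroupOf.2 ⟨⟨g, hg⟩, MulEquiv.ext fun v => Subtype.ext rfl⟩
  have hψker : ψ.ker = gam S i := Subgroup.ext fun g => by rw [MonoidHom.mem_ker, hψ1]
  -- the Sylow subgroup
  obtain ⟨-, R, hR⟩ := (CfsgLib.Fus.fullyNormalized_props hS hF hE.2.1).1
  let T : Sylow p (A ⧸ I) := R.mapSurjective (QuotientGroup.mk'_surjective I)
  have hTeq : (T : Subgroup (A ⧸ I)) = ψ.range := by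
    rw [show ψ.range = cjA.range.map (QuotientGroup.mk' I) from MonoidHom.range_comp _ _]
    show (R : Subgroup A).map (QuotientGroup.mk' I) = _
    congr 1
    rw [hR]
    ext a
    rw [Subgroup.mem_subgroupOf]
    constructor
    · intro ha
      obtain ⟨g, hg, hga⟩ := CfsgLib.Fus.mem_autInducedBy_iff.1 ha
      exact ⟨⟨g, hg⟩, Subtype.ext (MulEquiv.ext fun v => Subtype.ext (hga v).symm)⟩
    · rintro ⟨g, rfl⟩
      exact CfsgLib.Fus.conjAut_mem_autInducedBy (hSN g.2) g.2
  -- the Frattini subgroup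
  have hEp : IsPGroup p E := hS.to_le hES
  haveI : Nontrivial E := by
    rw [Subgroup.nontrivial_iff_ne_bot]
    intro hb
    have htop : Subgroup.centralizer ((⊥ : Subgroup Ω) : Set Ω) = ⊤ := by
      refine (Subgroup.eq_top_iff' _).2 fun x y hy => ?_
      rw [SetLike.mem_coe, Subgroup.mem_bot] at hy
      simp [hy]
    have h1 := hE.1.2 E ⟨E.subtype, CfsgLib.Fus.subtype_mem F hES, Subgroup.range_subtype E⟩
    rw [Cfsg.FusionSystem.centralizerIn, hb, htop, inf_top_eq, le_bot_iff] at h1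
    have h2 := h.card_eq
    rw [h1, Subgroup.card_bot] at h2
    have h4 := h.four_le
    exact absurd h2 (Nat.one_lt_pow (by omega) hpp.one_lt).ne
  haveI : ((frattini E).map ι).Normal := ⟨fun y hy g => by
    obtain ⟨v, hv, rfl⟩ := hy
    refine ⟨cj g v, ?_, hcj g v⟩
    have h1 := Subgroup.characteristic_iff_comap_eq.1 (frattini_characteristic (G := E)) (cj g)
    rw [← h1] at hv
    exact hv⟩
  have hΦle : ∀ y ∈ (frattini E).map ι, y ∈ gam S i := by
    rintro _ ⟨v, -, rfl⟩
    exact (hmem _).2 v.2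
  obtain ⟨d, hd1, hdn, hΦ⟩ : ∃ d, 1 ≤ d ∧ i + d ≤ n ∧ (frattini E).map ι = gam S (i + d) := by
    obtain ⟨j, hj⟩ := h.isPGroup.index ((frattini E).map ι)
    have hlt : (frattini E).map ι < gam S i := by
      refine lt_of_le_of_ne hΦle fun he => CfsgLib.PGroup.frattini_ne_top (P := E) ?_
      refine (Subgroup.eq_top_iff' _).2 fun v => ?_
      obtain ⟨w, hw, hwv⟩ := he.ge ((hmem (ι v)).2 v.2)
      exact hι hwv ▸ hw
    have hij : i < j := by
      have h1 := Subgroup.index_strictAnti hlt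
      have h2 := (gam S i).card_mul_index
      rw [h.card_gam i hi2 hin, h.card_eq,
        show p ^ n = p ^ (n - i) * p ^ i by rw [← pow_add, Nat.sub_add_cancel hin]] at h2
      rw [Nat.eq_of_mul_eq_mul_left (pow_pos hpp.pos _) h2, hj, Nat.pow_lt_pow_iff_right hpp.one_lt] at h1
      exact h1
    obtain ⟨hjn, he⟩ := normal_eq_gam h _ (by omega) hj
    exact ⟨j - i, by omega, by omega, by rw [he, show i + (j - i) = j by omega]⟩
  have hΦmem : ∀ v : E, v ∈ frattini E ↔ ι v ∈ gam S (i + d) := fun v => by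
    rw [← hΦ]; exact (Subgroup.mem_map_iff_mem hι).symm
  obtain ⟨x, hx⟩ := h.exists_good
  have hdp : d ≤ p - 1 := by
    by_contra hlt
    have hip : i + p ≤ n := by omega
    obtain ⟨a, ha, ha'⟩ := h.exists_notMem_succ hi2 (by omega)
    refine h.pow_notMem_gam hx hi2 ha ha' hip ?_
    have h1 : (⟨a, (hmem a).1 ha⟩ : E) ^ p ∈ frattini E := CfsgLib.PGroup.pow_prime_mem_frattini hEp _
    rw [hΦmem, map_pow] at h1
    exact gam_anti (show i + p ≤ i + d by omega) h1
  -- the module
  letI : CommGroup (E ⧸ frattini E) :=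
    { (inferInstance : Group (E ⧸ frattini E)) with mul_comm := CfsgLib.PGroup.frattini_quotient_comm hEp }
  have hz0 : ∀ w : Additive (E ⧸ frattini E), p • w = 0 := fun w =>
    Additive.toMul.injective (CfsgLib.PGroup.frattini_quotient_pow hEp (Additive.toMul w))
  letI : Module (ZMod p) (Additive (E ⧸ frattini E)) :=
    AddCommGroup.zmodModule (n := p) (G := Additive (E ⧸ frattini E)) hz0
  let cls : E → Additive (E ⧸ frattini E) := fun v => Additive.ofMul (v : E ⧸ frattini E)
  have hcls : Function.Surjective cls := fun w => by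
    obtain ⟨v, hv⟩ := QuotientGroup.mk_surjective (Additive.toMul w)
    exact ⟨v, congrArg Additive.ofMul hv⟩
  have hcls_eq : ∀ v w : E, cls v = cls w ↔ v⁻¹ * w ∈ frattini E := fun v w =>
    Additive.ofMul.injective.eq_iff.trans QuotientGroup.eq
  let act : MulAut E → Module.End (ZMod p) (Additive (E ⧸ frattini E)) := fun φ =>
    AddMonoidHom.toZModLinearMap p (MonoidHom.toAdditive
      (QuotientGroup.map (frattini E) (frattini E) φ.toMonoidHom
        (Subgroup.characteristic_iff_comap_eq.1 (frattini_characteristic (G := E)) φ).ge))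
  have hact : ∀ φ v, act φ (cls v) = cls (φ v) := fun _ _ => rfl
  let ρ0 : A →* Module.End (ZMod p) (Additive (E ⧸ frattini E)) :=
    { toFun := fun a => act a
      map_one' := LinearMap.ext fun w => by obtain ⟨v, rfl⟩ := hcls w; rfl
      map_mul' := fun a b => LinearMap.ext fun w => by obtain ⟨v, rfl⟩ := hcls w; rfl }
  have hρ0 : ∀ (a : A) (v : E), ρ0 a (cls v) = cls ((a : MulAut E) v) := fun _ _ => rfl
  have hIker : I ≤ ρ0.ker := by
    intro a ha
    obtain ⟨q, hq⟩ := Subgroup.mem_subgroupOf.1 ha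
    refine MonoidHom.mem_ker.2 (LinearMap.ext fun w => ?_)
    obtain ⟨v, rfl⟩ := hcls w
    rw [hρ0, Module.End.one_apply, ← hq]
    show Additive.ofMul ((q * v * q⁻¹ : E) : E ⧸ frattini E) = _
    rw [QuotientGroup.mk_mul, QuotientGroup.mk_mul, mul_comm (q : E ⧸ frattini E), QuotientGroup.mk_inv,
      mul_inv_cancel_right]
  have hkerI : ρ0.ker ≤ I := by
    have hKp : IsPGroup p ρ0.ker := by
      refine IsPGroup.of_card (n := (Nat.card ρ0.ker).primeFactorsList.length)
        (Nat.eq_prime_pow_of_unique_prime_dvd Nat.card_pos.ne' fun {r} hr hrd => ?_)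
      by_contra hrp
      haveI := Fact.mk hr
      obtain ⟨φ, hφ⟩ := exists_prime_orderOf_dvd_card' r hrd
      set a : MulAut E := ((φ : A) : MulAut E) with ha
      have hord : orderOf a = r := by rw [ha, Subgroup.orderOf_coe, Subgroup.orderOf_coe, hφ]
      have hcop : (Nat.card (Subgroup.zpowers a)).Coprime (Nat.card E) := by
        obtain ⟨k, hk⟩ := IsPGroup.iff_card.1 hEp
        rw [Nat.card_zpowers, hord, hk]
        exact Nat.Coprime.pow_right _ ((Nat.coprime_primes hr hpp).2 hrp)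
      have hfix := CfsgLib.Coprime.aut_eq_one_of_frattini_quotient
        (φ := (Subgroup.zpowers a).subtype) hcop (fun b g => by
          have hle : Subgroup.zpowers a ≤ ρ0.ker.map A.subtype :=
            Subgroup.zpowers_le.2 ⟨(φ : A), φ.2, rfl⟩
          obtain ⟨b', hb', hbe⟩ := hle b.2
          have h1 := DFunLike.congr_fun (MonoidHom.mem_ker.1 hb') (cls g)
          rw [hρ0, Module.End.one_apply, eq_comm, hcls_eq] at h1
          show g⁻¹ * (b : MulAut E) g ∈ _
          rwa [← hbe])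
      have h1 : a = 1 := MulEquiv.ext fun g => hfix ⟨a, Subgroup.mem_zpowers _⟩ g
      rw [h1, orderOf_one] at hord
      exact hr.one_lt.ne hord
    intro a ha
    have h1 := CfsgLib.CharP.le_pCore (inferInstance : ρ0.ker.Normal) hKp ha
    have h2 := (Cfsg.Agent.S5080.result p hS F hF E hE).2
    exact Subgroup.mem_subgroupOf.2 (h2.le ⟨a, h1, rfl⟩)
  let ρ : A ⧸ I →* Module.End (ZMod p) (Additive (E ⧸ frattini E)) := QuotientGroup.lift I ρ0 hIker
  have hρinj : Function.Injective ρ := by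
    rw [← MonoidHom.ker_eq_bot_iff, Subgroup.eq_bot_iff_forall]
    intro b hb
    obtain ⟨a, rfl⟩ := QuotientGroup.mk'_surjective I b
    exact (QuotientGroup.eq_one_iff _).2 (hkerI hb)
  have hρψ : ∀ (g : S) (v : E), ρ (ψ g) (cls v) = cls (cj g v) := fun g v => rfl
  have hsub : ∀ (g : S) (v : E), (ρ (ψ g) - 1) (cls v) = cls (cj g v * v⁻¹) := by
    intro g v
    rw [LinearMap.sub_apply, Module.End.one_apply, hρψ]
    show Additive.ofMul ((cj g v : E) : E ⧸ frattini E) - Additive.ofMul (v : E ⧸ frattini E) = _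
    rw [← ofMul_div, ← QuotientGroup.mk_div, div_eq_mul_inv]
  have hcomm : ∀ (g : S) (v : E), ι (cj g v * v⁻¹) = ⁅g, ι v⁆ := fun g v => by
    rw [map_mul, hcj, map_inv, commutatorElement_def]
  -- the filtration
  let Fl : ℕ → Submodule (ZMod p) (Additive (E ⧸ frattini E)) := fun l =>
    AddSubgroup.toZModSubmodule p
      (Subgroup.toAddSubgroup (((gam S (i + l)).comap ι).map (QuotientGroup.mk' (frattini E))))
  have hFl : ∀ l w, w ∈ Fl l ↔ ∃ v : E, ι v ∈ gam S (i + l) ∧ cls v = w := by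
    intro l w
    constructor
    · rintro ⟨v, hv, hvw⟩
      exact ⟨v, hv, congrArg Additive.ofMul hvw⟩
    · rintro ⟨v, hv, rfl⟩
      exact ⟨v, hv, rfl⟩
  have hFl0 : ∀ w, w ∈ Fl 0 := fun w => by
    obtain ⟨v, rfl⟩ := hcls w
    exact (hFl 0 _).2 ⟨v, (hmem _).2 v.2, rfl⟩
  have hFlbot : ∀ l, d ≤ l → ∀ w ∈ Fl l, w = 0 := by
    intro l hl w hw
    obtain ⟨v, hv, rfl⟩ := (hFl l w).1 hw
    have h1 : v ∈ frattini E := (hΦmem v).2 (gam_anti (by omega) hv)
    show Additive.ofMul (v : E ⧸ frattini E) = 0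
    rw [(QuotientGroup.eq_one_iff v).2 h1, ofMul_one]
  have hdeg : ∀ (g : S) (l : ℕ), ∀ w ∈ Fl l, (ρ (ψ g) - 1) w ∈ Fl (l + 1) := by
    intro g l w hw
    obtain ⟨v, hv, rfl⟩ := (hFl l w).1 hw
    refine (hFl (l + 1) _).2 ⟨cj g v * v⁻¹, ?_, (hsub g v).symm⟩
    rw [hcomm, ← commutatorElement_inv, ← add_assoc]
    exact inv_mem (comm_mem_gam_succ (by omega) hv g)
  set N := ρ (ψ x) - 1 with hN
  obtain ⟨a0, ha0, ha0'⟩ := h.exists_notMem_succ hi2 (by omega)
  set v0 : E := ⟨a0, (hmem a0).1 ha0⟩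
  have hchain : ∀ l, l + 1 ≤ d → ∃ v : E, ι v ∈ gam S (i + l) ∧ ι v ∉ gam S (i + l + 1) ∧
      (N ^ l) (cls v0) = cls v := by
    intro l
    induction l with
    | zero => exact fun _ => ⟨v0, ha0, ha0', by simp⟩
    | succ l ih =>
      intro hl
      obtain ⟨v, hv, hv', he⟩ := ih (by omega)
      refine ⟨cj x v * v⁻¹, ?_, ?_, ?_⟩
      · rw [hcomm, ← commutatorElement_inv, ← add_assoc]
        exact inv_mem (comm_mem_gam_succ (by omega) hv x)
      · rw [hcomm, ← commutatorElement_inv, inv_mem_iff, ← add_assoc]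
        exact h.comm_notMem hx (by omega) (by omega) hv hv'
      · rw [pow_succ', Module.End.mul_apply, he, hN, hsub]
  have hNFl : ∀ l w, (N ^ l) w ∈ Fl l := by
    intro l
    induction l with
    | zero => intro w; exact hFl0 _
    | succ l ih => intro w; rw [pow_succ', Module.End.mul_apply]; exact hdeg x l _ (ih w)
  have hcard : Nat.card (Additive (E ⧸ frattini E)) = p ^ d := by
    have h1 := (frattini E).card_mul_index
    have h2 : Nat.card (frattini E) = p ^ (n - (i + d)) := by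
      rw [← h.card_gam (i + d) (by omega) hdn, ← hΦ, Subgroup.card_map_of_injective hι]
    have h3 : Nat.card E = p ^ (n - i) := by
      rw [← h.card_gam i hi2 hin, ← hEi]
      exact (Nat.card_congr (Subgroup.subgroupOfEquivOfLe hES).toEquiv).symm
    rw [h2, h3, show p ^ (n - i) = p ^ (n - (i + d)) * p ^ d by rw [← pow_add]; congr 1; omega] at h1
    exact Nat.eq_of_mul_eq_mul_left (pow_pos hpp.pos _) h1
  have hfin : Module.finrank (ZMod p) (Additive (E ⧸ frattini E)) = d := by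
    have h1 := Module.natCard_eq_pow_finrank (K := ZMod p) (V := Additive (E ⧸ frattini E))
    rw [hcard, Nat.card_zmod] at h1
    exact (Nat.pow_right_injective hpp.two_le h1).symm
  have hreg : Regular N d := by
    refine ⟨hfin, LinearMap.ext fun w => hFlbot d le_rfl _ (hNFl d w), fun h0 => ?_, hd1⟩
    obtain ⟨v, hv, hv', he⟩ := hchain (d - 1) (by omega)
    rw [h0, LinearMap.zero_apply, eq_comm] at he
    have hv0 : v ∈ frattini E := by
      rw [← QuotientGroup.eq_one_iff]
      exact congrArg Additive.toMul he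
    rw [show i + (d - 1) + 1 = i + d by omega] at hv'
    exact hv' ((hΦmem v).1 hv0)
  have hflag : ∀ l, flag N l = Fl l := by
    intro l
    have hle : flag N l ≤ Fl l := by rintro _ ⟨w, rfl⟩; exact hNFl l w
    refine le_antisymm hle ?_
    rcases Nat.lt_or_ge l d with hl | hl
    · obtain ⟨l', hl'd, hl'⟩ := hreg.exists_eq_flag (U := Fl l) fun w hw => by
        obtain ⟨v, hv, rfl⟩ := (hFl l w).1 hw
        refine (hFl l _).2 ⟨cj x v * v⁻¹, ?_, (hsub x v).symm⟩
        rw [hcomm, ← commutatorElement_inv]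
        exact inv_mem (gam_anti (by omega) (comm_mem_gam_succ (by omega) hv x))
      rw [hl']
      refine flag_anti N ?_
      by_contra hlt
      obtain ⟨v, hv, hv', he⟩ := hchain l' (by omega)
      have h1 : (N ^ l') (cls v0) ∈ Fl l := hl' ▸ LinearMap.mem_range_self _ _
      obtain ⟨w, hw, hwe⟩ := (hFl l _).1 h1
      rw [he, hcls_eq] at hwe
      have h2 : ι (w⁻¹ * v) ∈ gam S (i + l) := gam_anti (by omega) ((hΦmem _).1 hwe)
      rw [map_mul, map_inv, Subgroup.mul_mem_cancel_left _ (inv_mem hw)] at h2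
      exact hv' (gam_anti (by omega) h2)
    · intro w hw
      rw [hFlbot l hl w hw]
      exact zero_mem _
  have hfil1 : ∀ g : S, ρ (ψ g) - 1 ∈ fil N 1 := by
    intro g j w hw
    rw [hflag] at hw ⊢
    rw [show ((j : ℤ) + 1).toNat = j + 1 by omega]
    exact hdeg g j w hw
  -- the decomposition along `x` and the first two-step centraliser
  have h4 := h.four_le
  have hidx := h.index_twoStep (j := 2) le_rfl (by omega)
  haveI : (twoStep S 2).Normal :=
    CfsgLib.PGroup.normal_of_coatom h.isPGroup (CfsgLib.PGroup.isCoatom_of_index_eq hidx)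
  have hgen : Subgroup.zpowers x ⊔ twoStep S 2 = ⊤ :=
    (CfsgLib.PGroup.isCoatom_of_index_eq (p := p) hidx).2 _ (right_lt_sup.2
      fun hle => hx.2 2 le_rfl (by omega) (hle (Subgroup.mem_zpowers x)))
  have hun : ∀ m : ℕ, ρ (ψ (x ^ m)) - 1 - (m : ZMod p) • N ∈ fil N 2 := by
    intro m
    induction m with
    | zero => simp
    | succ m ih =>
      rw [show ρ (ψ (x ^ (m + 1))) - 1 - ((m + 1 : ℕ) : ZMod p) • N =
        (ρ (ψ (x ^ m)) - 1 - (m : ZMod p) • N) + (ρ (ψ (x ^ m)) - 1) * N by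
        rw [pow_succ, map_mul, map_mul, hN, Nat.cast_succ, add_smul, one_smul, sub_mul, one_mul,
          mul_sub, mul_one]
        abel]
      exact add_mem ih (fil_anti (show (2 : ℤ) ≤ 1 + 1 by norm_num) (mul_mem_fil (hfil1 (x ^ m))
        (by simpa using pow_self_mem_fil N 1)))
  have hTprop : ∀ t ∈ (T : Subgroup (A ⧸ I)), ρ t - 1 ∈ fil N 1 ∧ ∃ α : ZMod p, ∀ j, j + 2 < d →
      ∀ w ∈ flag N j, (ρ t - 1 - α • N) w ∈ flag N (j + 2) := by
    intro t ht
    rw [hTeq] at ht
    obtain ⟨g, rfl⟩ := ht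
    refine ⟨hfil1 g, ?_⟩
    obtain ⟨y, hy, s, hs, rfl⟩ := Subgroup.mem_sup_of_normal_right.1 (hgen ▸ Subgroup.mem_top g)
    obtain ⟨m, rfl⟩ := mem_powers_iff_mem_zpowers.2 hy
    refine ⟨m, fun j hj w hw => ?_⟩
    have hs2 : (ρ (ψ s) - 1) w ∈ flag N (j + 2) := by
      rw [hflag] at hw ⊢
      obtain ⟨v, hv, rfl⟩ := (hFl j w).1 hw
      refine (hFl (j + 2) _).2 ⟨cj s v * v⁻¹, ?_, (hsub s v).symm⟩
      rw [hcomm, ← add_assoc]
      refine mem_twoStep.1 ?_ _ hv
      rw [h.stepsAgree (i + j) (by omega) (by omega)]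
      exact hs
    have h1 := hun m j w hw
    rw [show ((j : ℤ) + 2).toNat = j + 2 by omega] at h1
    have h2 := hfil1 (x ^ m) (j + 2) _ hs2
    have e : ρ (ψ (x ^ m * s)) - 1 - (m : ZMod p) • N = (ρ (ψ (x ^ m)) - 1 - (m : ZMod p) • N) +
        (ρ (ψ s) - 1) + (ρ (ψ (x ^ m)) - 1) * (ρ (ψ s) - 1) := by
      rw [map_mul, map_mul, sub_mul, mul_sub, one_mul, mul_one]
      abel
    show (ρ (ψ (x ^ m * s)) - 1 - (m : ZMod p) • N) w ∈ _
    rw [e, LinearMap.add_apply, LinearMap.add_apply, Module.End.mul_apply]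
    exact add_mem (add_mem h1 hs2) (flag_anti N (by omega) h2)
  have huT : ψ x ∈ (T : Subgroup (A ⧸ I)) := by rw [hTeq]; exact ⟨x, rfl⟩
  have hd2 : 2 ≤ d := by
    by_contra hlt
    have hd' : d = 1 := by omega
    have hN0 : N = 0 := by
      have h2 := hreg.pow_eq
      rwa [hd', pow_one] at h2
    have h3 : ψ x = 1 := hρinj (by rw [map_one]; exact sub_eq_zero.1 hN0)
    exact hx.1 (gam_anti hi2 ((hψ1 x).1 h3))
  refine false_of_regular hp ρ hρinj hM T hreg hd2 hdp hTprop huT rfl ?_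
  rcases eq_or_lt_of_le hi2 with hi | hi
  · left
    rw [show Nat.card T = Nat.card ψ.range from congrArg (fun K : Subgroup (A ⧸ I) => Nat.card K) hTeq,
      ← Subgroup.index_ker, hψker, ← hi, h.index_gam_two]
  · right
    obtain ⟨w, hw, hw'⟩ : ∃ w : S, ⁅w, x⁆ ∈ gam S (i - 1) ∧ ⁅w, x⁆ ∉ gam S i := by
      rcases Nat.lt_or_ge i 4 with hi4 | hi4
      · obtain rfl : i = 3 := by omega
        obtain ⟨s, hs, hs'⟩ := h.exists_twoStep_notMem
        exact ⟨s, comm_mem_gam_succ le_rfl (gam_one (G := S) ▸ Subgroup.mem_top s) x,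
          h.comm_notMem_one hx hs hs'⟩
      · obtain ⟨a, ha, ha'⟩ := h.exists_notMem_succ (i := i - 2) (by omega) (by omega)
        refine ⟨a, ?_, ?_⟩
        · have h1 := comm_mem_gam_succ (by omega) ha x
          rwa [show i - 2 + 1 = i - 1 by omega] at h1
        · have h1 := h.comm_notMem hx (by omega) (by omega) ha ha'
          rwa [show i - 2 + 2 = i by omega] at h1
    refine ⟨ψ w, by rw [hTeq]; exact ⟨w, rfl⟩, ψ ⁅w, x⁆, by rw [hTeq]; exact ⟨_, rfl⟩,
      fun h1 => hw' ((hψ1 _).1 h1), fun t ht => ?_, ?_⟩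
    · rw [hTeq] at ht
      obtain ⟨g, rfl⟩ := ht
      have h1 : ψ ⁅⁅w, x⁆, g⁆ = 1 := (hψ1 _).2 (by
        have h2 := comm_mem_gam_succ (by omega) hw g
        rwa [show i - 1 + 1 = i by omega] at h2)
      rw [map_commutatorElement, commutatorElement_eq_one_iff_commute] at h1
      exact h1.symm
    · rw [← map_inv, ← map_mul, ← map_mul, ← map_mul]
      congr 1
      rw [commutatorElement_def]
      group

end CfsgLib.RegUnip
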