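import Mathlib

/-!
The flag of a regular nilpotent endomorphism and the filtration it gives on endomorphisms.
-/

set_option autoImplicit false

namespace CfsgLib.RegUnip

variable {K V : Type*} [Field K] [AddCommGroup V] [Module K V]

/-- The flag term of index `l`. -/
def flag (N : Module.End K V) (l : ℕ) : Submodule K V := LinearMap.range (N ^ l)

theorem flag_anti (N : Module.End K V) {a b : ℕ} (h : a ≤ b) : flag N b ≤ flag N a := by
  rintro _ ⟨v, rfl⟩
  exact ⟨(N ^ (b - a)) v, by rw [← Module.End.mul_apply, ← pow_add, Nat.add_sub_cancel' h]⟩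

theorem flag_zero (N : Module.End K V) : flag N 0 = ⊤ := by
  rw [flag, pow_zero, Module.End.one_eq_id, LinearMap.range_id]

theorem pow_apply_mem_flag (N : Module.End K V) {a j : ℕ} {v : V} (hv : v ∈ flag N j) :
    (N ^ a) v ∈ flag N (j + a) := by
  obtain ⟨w, rfl⟩ := hv
  exact ⟨w, by rw [← Module.End.mul_apply, ← pow_add, add_comm a j]⟩

/-- The endomorphisms of degree at least `m`. -/
def fil (N : Module.End K V) (m : ℤ) : Submodule K (Module.End K V) where
  carrier := {A | ∀ j : ℕ, ∀ v ∈ flag N j, A v ∈ flag N ((j : ℤ) + m).toNat}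
  add_mem' := fun ha hb j v hv => add_mem (ha j v hv) (hb j v hv)
  zero_mem' := fun _ _ _ => zero_mem _
  smul_mem' := fun c _ ha j v hv => Submodule.smul_mem _ c (ha j v hv)

theorem mem_fil {N A : Module.End K V} {m : ℤ} :
    A ∈ fil N m ↔ ∀ j : ℕ, ∀ v ∈ flag N j, A v ∈ flag N ((j : ℤ) + m).toNat := Iff.rfl

theorem fil_anti {N : Module.End K V} {a b : ℤ} (h : a ≤ b) : fil N b ≤ fil N a :=
  fun _ hA j v hv => flag_anti N (by omega) (hA j v hv)

theorem mul_mem_fil {N A B : Module.End K V} {a b : ℤ} (hA : A ∈ fil N a) (hB : B ∈ fil N b) :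
    A * B ∈ fil N (a + b) := fun j v hv =>
  flag_anti N (by omega) (hA _ _ (hB j v hv))

theorem one_mem_fil (N : Module.End K V) : (1 : Module.End K V) ∈ fil N 0 :=
  fun j v hv => by simpa using hv

theorem pow_self_mem_fil (N : Module.End K V) (a : ℕ) : N ^ a ∈ fil N (a : ℤ) := fun j v hv => by
  have h := pow_apply_mem_flag N (a := a) hv
  rwa [show ((j : ℤ) + (a : ℤ)).toNat = j + a by omega]

theorem pow_mem_fil {N A : Module.End K V} {a : ℤ} (hA : A ∈ fil N a) (l : ℕ) :
    A ^ l ∈ fil N (a * l) := by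
  induction l with
  | zero => simpa using one_mem_fil N
  | succ l ih =>
    rw [pow_succ, show a * ((l + 1 : ℕ) : ℤ) = a * l + a by push_cast; ring]
    exact mul_mem_fil ih hA

/-- An endomorphism of degree `a` times a higher congruence. -/
theorem pow_sub_pow_mem_fil {N A B : Module.End K V} {a : ℤ} (hA : A ∈ fil N a) (hB : B ∈ fil N a)
    (hAB : A - B ∈ fil N (a + 1)) (l : ℕ) : A ^ l - B ^ l ∈ fil N (a * l + 1) := by
  induction l with
  | zero => simp
  | succ l ih =>
    have h1 := mul_mem_fil ih hA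
    have h2 := mul_mem_fil (pow_mem_fil hB l) hAB
    have h3 : A ^ (l + 1) - B ^ (l + 1) = (A ^ l - B ^ l) * A + B ^ l * (A - B) := by
      rw [pow_succ, pow_succ]; noncomm_ring
    rw [h3]
    refine add_mem ?_ ?_
    · exact fil_anti (le_of_eq (by push_cast; ring)) h1
    · exact fil_anti (le_of_eq (by push_cast; ring)) h2

/-- A regular nilpotent endomorphism: a single Jordan block of size `d`. -/
structure Regular (N : Module.End K V) (d : ℕ) : Prop where
  finrank_eq : Module.finrank K V = d
  pow_eq : N ^ d = 0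
  pow_ne : N ^ (d - 1) ≠ 0
  pos : 0 < d

namespace Regular

variable {N : Module.End K V} {d : ℕ} (h : Regular N d)
include h

theorem exists_cyclic : ∃ v : V, (N ^ (d - 1)) v ≠ 0 := by
  by_contra hne
  push Not at hne
  exact h.pow_ne (LinearMap.ext fun v => hne v)

/-- A generator of the flag. -/
noncomputable def gen : V := h.exists_cyclic.choose

theorem gen_spec : (N ^ (d - 1)) h.gen ≠ 0 := h.exists_cyclic.choose_spec

theorem linearIndependent : LinearIndependent K (fun j : Fin d => (N ^ (j : ℕ)) h.gen) := by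
  rw [Fintype.linearIndependent_iff]
  intro g hg
  classical
  by_contra hne
  push Not at hne
  let s := Finset.univ.filter (fun j : Fin d => g j ≠ 0)
  have hs : s.Nonempty := by
    obtain ⟨j, hj⟩ := hne
    exact ⟨j, by simp [s, hj]⟩
  set i := s.min' hs
  have hi : g i ≠ 0 := (Finset.mem_filter.1 (s.min'_mem hs)).2
  have key := congrArg (N ^ (d - 1 - (i : ℕ))) hg
  rw [map_sum, map_zero, Finset.sum_eq_single i] at key
  · rw [map_smul, ← Module.End.mul_apply, ← pow_add, show d - 1 - (i : ℕ) + (i : ℕ) = d - 1 by omega,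
      smul_eq_zero] at key
    exact key.elim hi h.gen_spec
  · intro j _ hji
    rw [map_smul]
    by_cases hgj : g j = 0
    · rw [hgj, zero_smul]
    · have hij : i ≤ j := s.min'_le j (Finset.mem_filter.2 ⟨Finset.mem_univ _, hgj⟩)
      have hlt : (i : ℕ) < (j : ℕ) := lt_of_le_of_ne hij fun he => hji (Fin.ext he.symm)
      rw [← Module.End.mul_apply, ← pow_add,
        pow_eq_zero_of_le (show d ≤ d - 1 - (i : ℕ) + (j : ℕ) by omega) h.pow_eq,
        LinearMap.zero_apply, smul_zero]
  · exact fun hh => absurd (Finset.mem_univ i) hh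

/-- The basis of the flag. -/
noncomputable def basis : Module.Basis (Fin d) K V :=
  have : Nonempty (Fin d) := ⟨⟨0, h.pos⟩⟩
  basisOfLinearIndependentOfCardEqFinrank h.linearIndependent (by rw [Fintype.card_fin, h.finrank_eq])

theorem basis_apply (j : Fin d) : h.basis j = (N ^ (j : ℕ)) h.gen := by
  have : Nonempty (Fin d) := ⟨⟨0, h.pos⟩⟩
  rw [basis, coe_basisOfLinearIndependentOfCardEqFinrank]

theorem finiteDimensional : FiniteDimensional K V := Module.Basis.finiteDimensional_of_finite h.basis

theorem pow_apply_basis (a : ℕ) (j : Fin d) :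
    (N ^ a) (h.basis j) = if hh : a + (j : ℕ) < d then h.basis ⟨a + j, hh⟩ else 0 := by
  rw [h.basis_apply, ← Module.End.mul_apply, ← pow_add]
  split_ifs with hh
  · rw [h.basis_apply]
  · rw [pow_eq_zero_of_le (Nat.le_of_not_lt hh) h.pow_eq, LinearMap.zero_apply]

theorem flag_eq_bot {l : ℕ} (hl : d ≤ l) : flag N l = ⊥ := by
  rw [flag, pow_eq_zero_of_le hl h.pow_eq, LinearMap.range_zero]

theorem mem_flag {l : ℕ} {v : V} : v ∈ flag N l ↔ ∀ j : Fin d, (j : ℕ) < l → h.basis.repr v j = 0 := by
  constructor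
  · rintro ⟨w, rfl⟩ j hj
    have : ((Finsupp.lapply j).comp (h.basis.repr.toLinearMap)).comp (N ^ l) = 0 := by
      refine h.basis.ext fun i => ?_
      rw [LinearMap.comp_apply, h.pow_apply_basis]
      split_ifs with hh
      · simp only [LinearMap.comp_apply, LinearEquiv.coe_coe, Module.Basis.repr_self,
          Finsupp.lapply_apply, LinearMap.zero_apply]
        rw [Finsupp.single_eq_of_ne]
        intro he
        have := congrArg (fun x : Fin d => (x : ℕ)) he
        simp only at this
        omega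
      · simp
    exact LinearMap.congr_fun this w
  · intro hv
    rw [← h.basis.sum_repr v]
    refine Submodule.sum_mem _ fun j _ => ?_
    by_cases hj : (j : ℕ) < l
    · rw [hv j hj, zero_smul]; exact zero_mem _
    · refine Submodule.smul_mem _ _ ⟨(N ^ ((j : ℕ) - l)) h.gen, ?_⟩
      rw [← Module.End.mul_apply, ← pow_add, Nat.add_sub_cancel' (Nat.le_of_not_lt hj), h.basis_apply]

theorem basis_notMem_flag {j : Fin d} {l : ℕ} (hl : (j : ℕ) < l) : h.basis j ∉ flag N l := by
  intro hm
  have := h.mem_flag.1 hm j hl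
  simp at this

theorem pow_notMem_fil {a : ℕ} (ha : a < d) : N ^ a ∉ fil N ((a : ℤ) + 1) := by
  intro hm
  have h1 := hm 0 (h.basis ⟨0, h.pos⟩) (by rw [flag_zero]; trivial)
  rw [h.pow_apply_basis, dif_pos (by simpa using ha)] at h1
  refine h.basis_notMem_flag ?_ h1
  simp

theorem fil_eq_bot {m : ℤ} (hm : (d : ℤ) ≤ m) : fil N m = ⊥ := by
  rw [eq_bot_iff]
  intro A hA
  rw [Submodule.mem_bot]
  refine LinearMap.ext fun v => ?_
  have := hA 0 v (by rw [flag_zero]; trivial)
  rw [h.flag_eq_bot (by omega), Submodule.mem_bot] at this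
  simpa using this

theorem mem_fil_neg (A : Module.End K V) : A ∈ fil N (-((d : ℤ) - 1)) := fun j v hv => by
  rcases Nat.lt_or_ge j d with hj | hj
  · rw [show ((j : ℤ) + -((d : ℤ) - 1)).toNat = 0 by omega, flag_zero]
    trivial
  · rw [h.flag_eq_bot hj, Submodule.mem_bot] at hv
    rw [hv, map_zero]
    exact zero_mem _

theorem trace_eq_zero {A : Module.End K V} {m : ℤ} (hm : 1 ≤ m) (hA : A ∈ fil N m) :
    LinearMap.trace K V A = 0 := by
  have := h.finiteDimensional
  refine IsReduced.eq_zero _ (LinearMap.isNilpotent_trace_of_isNilpotent ⟨d, ?_⟩)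
  have h1 := pow_mem_fil hA d
  have h2 := fil_anti (show (d : ℤ) ≤ m * (d : ℤ) by nlinarith) h1
  rwa [h.fil_eq_bot le_rfl, Submodule.mem_bot] at h2

/-- A dual element of `N ^ a` for the trace form. -/
theorem exists_dual {a : ℕ} (ha : a < d) :
    ∃ B ∈ fil N (-(a : ℤ)), LinearMap.trace K V (B * N ^ a) = 1 := by
  have := h.finiteDimensional
  refine ⟨((Finsupp.lapply ⟨a, ha⟩).comp h.basis.repr.toLinearMap).smulRight
      (h.basis ⟨0, h.pos⟩), ?_, ?_⟩
  · intro j v hv
    rw [LinearMap.smulRight_apply]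
    rcases Nat.lt_or_ge a j with hj | hj
    · simp only [LinearMap.comp_apply, Finsupp.lapply_apply, LinearEquiv.coe_coe,
        h.mem_flag.1 hv ⟨a, ha⟩ hj, zero_smul]
      exact zero_mem _
    · refine Submodule.smul_mem _ _ ?_
      rw [show ((j : ℤ) + -(a : ℤ)).toNat = 0 by omega, flag_zero]
      trivial
  · have hmul : ((Finsupp.lapply ⟨a, ha⟩).comp h.basis.repr.toLinearMap).smulRight
        (h.basis ⟨0, h.pos⟩) * N ^ a =
        (((Finsupp.lapply ⟨a, ha⟩).comp h.basis.repr.toLinearMap).comp (N ^ a)).smulRight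
        (h.basis ⟨0, h.pos⟩) := by
      ext v; simp
    rw [hmul, LinearMap.trace_smulRight, LinearMap.comp_apply, h.pow_apply_basis,
      dif_pos (by simpa using ha)]
    simp

/-- An endomorphism commuting with `N` is a polynomial in `N`. -/
theorem exists_eq_sum {A : Module.End K V} (hA : Commute A N) :
    ∃ c : Fin d → K, A = ∑ l : Fin d, c l • N ^ (l : ℕ) := by
  refine ⟨fun l => h.basis.repr (A h.gen) l, h.basis.ext fun j => ?_⟩
  have h1 : A (h.basis j) = (N ^ (j : ℕ)) (A h.gen) := by
    rw [h.basis_apply, ← Module.End.mul_apply, (hA.pow_right _).eq, Module.End.mul_apply]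
  rw [h1]
  conv_lhs => rw [← h.basis.sum_repr (A h.gen), map_sum]
  rw [LinearMap.sum_apply]
  refine Finset.sum_congr rfl fun l _ => ?_
  rw [map_smul, LinearMap.smul_apply, h.basis_apply, h.basis_apply, ← Module.End.mul_apply,
    ← Module.End.mul_apply, ← pow_add, ← pow_add, add_comm]

theorem commute_of_commute {A B : Module.End K V} (hA : Commute A N) (hB : Commute B N) :
    Commute A B := by
  obtain ⟨c, rfl⟩ := h.exists_eq_sum hA
  exact Commute.sum_left _ _ _ fun l _ => ((hB.pow_right _).symm).smul_left _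

/-- A polynomial in `N` has an exact degree. -/
theorem exists_lead {A : Module.End K V} (hA : Commute A N) (h0 : A ≠ 0) :
    ∃ (k : ℕ) (c : K) (U : Module.End K V), k < d ∧ c ≠ 0 ∧ Commute U N ∧
      A = c • N ^ k * (1 + N * U) := by
  classical
  obtain ⟨c, rfl⟩ := h.exists_eq_sum hA
  let s := Finset.univ.filter (fun j : Fin d => c j ≠ 0)
  have hs : s.Nonempty := by
    by_contra hne
    rw [Finset.not_nonempty_iff_eq_empty] at hne
    refine h0 (Finset.sum_eq_zero fun j _ => ?_)
    by_cases hc : c j = 0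
    · rw [hc, zero_smul]
    · have : j ∈ s := Finset.mem_filter.2 ⟨Finset.mem_univ _, hc⟩
      rw [hne] at this
      exact absurd this (Finset.notMem_empty _)
  set i := s.min' hs
  have hi : c i ≠ 0 := (Finset.mem_filter.1 (s.min'_mem hs)).2
  refine ⟨i, c i, ∑ l : Fin d, (if i < l then (c i)⁻¹ * c l else 0) • N ^ ((l : ℕ) - i - 1),
    i.isLt, hi, Commute.sum_left _ _ _ fun l _ => (Commute.pow_self N _).smul_left _, ?_⟩
  rw [mul_add, mul_one, Finset.mul_sum, Finset.mul_sum, ← Finset.add_sum_erase _ _ (Finset.mem_univ i)]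
  congr 1
  conv_rhs => rw [← Finset.add_sum_erase _ _ (Finset.mem_univ i)]
  rw [if_neg (lt_irrefl i), zero_smul, mul_zero, mul_zero, zero_add]
  refine Finset.sum_congr rfl fun l hl => ?_
  by_cases hil : i < l
  · have hil' : (i : ℕ) < (l : ℕ) := hil
    rw [if_pos hil, mul_smul_comm, mul_smul_comm, smul_mul_assoc, smul_smul, ← pow_succ', ← pow_add,
      mul_right_comm, inv_mul_cancel₀ hi, one_mul,
      show (i : ℕ) + ((l : ℕ) - i - 1 + 1) = (l : ℕ) by omega]
  · have hc : c l = 0 := by
      by_contra hc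
      have hle : i ≤ l := s.min'_le l (Finset.mem_filter.2 ⟨Finset.mem_univ _, hc⟩)
      exact (Finset.mem_erase.1 hl).1 (le_antisymm (not_lt.1 hil) hle)
    rw [if_neg hil, hc, zero_smul, zero_smul, mul_zero, mul_zero]

/-- A subspace invariant under `N` is a term of the flag. -/
theorem exists_eq_flag {U : Submodule K V} (hU : ∀ v ∈ U, N v ∈ U) : ∃ l, l ≤ d ∧ U = flag N l := by
  classical
  by_cases hbot : U = ⊥
  · exact ⟨d, le_rfl, by rw [h.flag_eq_bot le_rfl, hbot]⟩
  obtain ⟨v0, hv0, hv0'⟩ := Submodule.exists_mem_ne_zero_of_ne_bot hbot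
  have hex : ∃ l, ∃ v ∈ U, ∃ hl : l < d, h.basis.repr v ⟨l, hl⟩ ≠ 0 := by
    by_contra hne
    push Not at hne
    refine hv0' ?_
    rw [← h.basis.sum_repr v0]
    exact Finset.sum_eq_zero fun j _ => by rw [hne j v0 hv0 j.isLt, zero_smul]
  obtain ⟨v, hv, hl, hne⟩ := Nat.find_spec hex
  set l := Nat.find hex
  have hle : U ≤ flag N l := fun w hw => h.mem_flag.2 fun j hj => by
    by_contra hc
    exact Nat.find_min hex hj ⟨w, hw, j.isLt, hc⟩
  refine ⟨l, hl.le, le_antisymm hle ?_⟩
  have hpow : ∀ (a : ℕ) (w : V), w ∈ U → (N ^ a) w ∈ U := by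
    intro a
    induction a with
    | zero => intro w hw; simpa using hw
    | succ a ih => intro w hw; rw [pow_succ, Module.End.mul_apply]; exact ih _ (hU _ hw)
  -- downward induction on the index of the flag
  suffices hind : ∀ m a : ℕ, l ≤ a → d ≤ a + m → flag N a ≤ U from hind d l le_rfl (by omega)
  intro m
  induction m with
  | zero => intro a _ ha; rw [h.flag_eq_bot (by omega)]; exact bot_le
  | succ m ih =>
    intro a hla ha w hw
    rcases Nat.lt_or_ge a d with had | had
    · have hnext := ih (a + 1) (by omega) (by omega)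
      set v' := (N ^ (a - l)) v
      have hv' : v' ∈ flag N a := by
        have h1 := pow_apply_mem_flag N (a := a - l) (hle hv)
        rwa [Nat.add_sub_cancel' hla] at h1
      have hcoef : h.basis.repr v' ⟨a, had⟩ = h.basis.repr v ⟨l, hl⟩ := by
        show h.basis.repr ((N ^ (a - l)) v) ⟨a, had⟩ = _
        conv_lhs => rw [← h.basis.sum_repr v]
        rw [map_sum, map_sum, Finset.sum_apply', Finset.sum_eq_single ⟨l, hl⟩]
        · rw [map_smul, h.pow_apply_basis, dif_pos (by simp only; omega), map_smul,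
            Module.Basis.repr_self, Finsupp.smul_apply,
            show (⟨a - l + l, by omega⟩ : Fin d) = ⟨a, had⟩ from Fin.ext (by simp only; omega),
            Finsupp.single_eq_same]
          simp
        · intro j _ hj
          rw [map_smul, h.pow_apply_basis]
          split_ifs with hh
          · rw [map_smul, Module.Basis.repr_self, Finsupp.smul_apply, Finsupp.single_eq_of_ne, smul_zero]
            intro he
            refine hj (Fin.ext ?_)
            have := congrArg (fun x : Fin d => (x : ℕ)) he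
            simp only at this ⊢
            omega
          · simp
        · exact fun hh => absurd (Finset.mem_univ _) hh
      set t := h.basis.repr w ⟨a, had⟩ / h.basis.repr v' ⟨a, had⟩
      have hdiff : w - t • v' ∈ flag N (a + 1) := by
        refine h.mem_flag.2 fun j hj => ?_
        rcases Nat.lt_or_ge (j : ℕ) a with hja | hja
        · simp [h.mem_flag.1 hw j hja, h.mem_flag.1 hv' j hja]
        · have : j = ⟨a, had⟩ := Fin.ext (by simp only; omega)
          subst this
          rw [map_sub, map_smul, Finsupp.sub_apply, Finsupp.smul_apply, smul_eq_mul, sub_eq_zero]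
          exact (div_mul_cancel₀ _ (hcoef ▸ hne)).symm
      have := add_mem (hnext hdiff) (Submodule.smul_mem U t (hpow _ v hv : v' ∈ U))
      rwa [sub_add_cancel] at this
    · rw [h.flag_eq_bot had, Submodule.mem_bot] at hw
      rw [hw]
      exact zero_mem _

theorem flag_injective {a b : ℕ} (ha : a ≤ d) (hb : b ≤ d) (hab : flag N a = flag N b) : a = b := by
  by_contra hne
  wlog hlt : a < b generalizing a b with H
  · exact H hb ha hab.symm (Ne.symm hne) (by omega)
  refine h.basis_notMem_flag (j := ⟨a, by omega⟩) (l := b) hlt ?_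
  rw [← hab, h.basis_apply]
  exact ⟨h.gen, rfl⟩

end Regular

end CfsgLib.RegUnip
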