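import Cfsg.Agent.RegUnip.Flag

/-!
Multilinear trace forms with values in endomorphisms, filtered by degree, and the conjugation action.
-/

set_option autoImplicit false

namespace CfsgLib.RegUnip

variable {K V : Type*} [Field K] [AddCommGroup V] [Module K V]

/-- Functions from tuples of endomorphisms to endomorphisms. -/
abbrev Form (K V : Type*) [Field K] [AddCommGroup V] [Module K V] (r : ℕ) : Type _ :=
  (Fin r → Module.End K V) → Module.End K V

/-- The product of the traces, as a multilinear map. -/
noncomputable def traceProd {r : ℕ} (A : Fin r → Module.End K V) :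
    MultilinearMap K (fun _ : Fin r => Module.End K V) K :=
  (MultilinearMap.mkPiAlgebra K (Fin r) K).compLinearMap
    fun l => (LinearMap.trace K V).comp (LinearMap.mulLeft K (A l))

theorem traceProd_apply {r : ℕ} (A f : Fin r → Module.End K V) :
    traceProd A f = ∏ l, LinearMap.trace K V (A l * f l) := by
  simp [traceProd]

/-- The form `A ↦ (∏ tr (A l * f (l+1))) • f 0`, multilinear in `f`. -/
noncomputable def pureForm (r : ℕ) :
    MultilinearMap K (fun _ : Fin (r + 1) => Module.End K V) (Form K V r) :=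
  MultilinearMap.pi fun A : Fin r → Module.End K V =>
    LinearMap.uncurryLeft (M := fun _ : Fin (r + 1) => Module.End K V)
      { toFun := fun f0 => (traceProd A).smulRight f0
        map_add' := fun x y => by ext f; simp [smul_add]
        map_smul' := fun c x => by ext f; simp [smul_comm c] }

theorem pureForm_apply {r : ℕ} (f : Fin (r + 1) → Module.End K V) (A : Fin r → Module.End K V) :
    pureForm r f A = (∏ l, LinearMap.trace K V (A l * f l.succ)) • f 0 := by
  simp [pureForm, traceProd_apply, Fin.tail]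

/-- The span of the pure forms of degree at least `m` whose output has degree at least `e`. -/
def filForm (N : Module.End K V) (r : ℕ) (e m : ℤ) : Submodule K (Form K V r) :=
  Submodule.span K {Φ | ∃ (f : Fin (r + 1) → Module.End K V) (a : Fin (r + 1) → ℤ),
    (∀ l, f l ∈ fil N (a l)) ∧ e ≤ a 0 ∧ m ≤ ∑ l, a l ∧ Φ = pureForm r f}

theorem pureForm_mem {N : Module.End K V} {r : ℕ} {e m : ℤ} {f : Fin (r + 1) → Module.End K V}
    (a : Fin (r + 1) → ℤ) (hf : ∀ l, f l ∈ fil N (a l)) (he : e ≤ a 0) (hm : m ≤ ∑ l, a l) :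
    pureForm r f ∈ filForm N r e m :=
  Submodule.subset_span ⟨f, a, hf, he, hm, rfl⟩

theorem filForm_anti {N : Module.End K V} {r : ℕ} {e e' m m' : ℤ} (he : e' ≤ e) (hm : m' ≤ m) :
    filForm N r e m ≤ filForm N r e' m' :=
  Submodule.span_mono fun _ ⟨f, a, hf, h1, h2, h3⟩ => ⟨f, a, hf, he.trans h1, hm.trans h2, h3⟩

/-- Changing each entry by terms of higher degree changes a pure form by a form of higher degree. -/
theorem pureForm_sub_mem {N : Module.End K V} {r : ℕ} {δ e : ℤ} (hδ : 0 ≤ δ)
    {f g : Fin (r + 1) → Module.End K V} (a : Fin (r + 1) → ℤ) (hg : ∀ l, g l ∈ fil N (a l))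
    (he : e ≤ a 0) (hd : ∀ l, f l - g l ∈ fil N (a l + δ)) :
    pureForm r f - pureForm r g ∈ filForm N r e ((∑ l, a l) + δ) := by
  classical
  have hf : f = (f - g) + g := (sub_add_cancel f g).symm
  conv => congr; · skip
          rw [hf, MultilinearMap.map_add_univ]
  rw [← Finset.add_sum_erase _ _ (Finset.mem_univ (∅ : Finset (Fin (r + 1)))), Finset.piecewise_empty,
    add_sub_cancel_left]
  refine Submodule.sum_mem _ fun s hs => ?_
  have hne : s.Nonempty := Finset.nonempty_iff_ne_empty.2 (Finset.mem_erase.1 hs).1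
  refine pureForm_mem (fun l => a l + if l ∈ s then δ else 0) (fun l => ?_) ?_ ?_
  · by_cases hl : l ∈ s
    · rw [Finset.piecewise_eq_of_mem _ _ _ hl, if_pos hl]
      exact hd l
    · rw [Finset.piecewise_eq_of_notMem _ _ _ hl, if_neg hl, add_zero]
      exact hg l
  · split_ifs <;> omega
  · rw [Finset.sum_add_distrib, Finset.sum_ite_mem, Finset.univ_inter, Finset.sum_const, nsmul_eq_mul]
    have h1 : (1 : ℤ) ≤ (s.card : ℤ) := by exact_mod_cast hne.card_pos
    nlinarith

theorem pureForm_smul {r : ℕ} (c : Fin (r + 1) → K) (f : Fin (r + 1) → Module.End K V) :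
    pureForm r (fun l => c l • f l) = (∏ l, c l) • pureForm r f :=
  (pureForm r).map_smul_univ c f

section Eval

variable {N : Module.End K V} {d : ℕ}

/-- Evaluation raises the degree of the output. -/
theorem eval_mem_fil (h : Regular N d) {r : ℕ} {e m : ℤ} {Φ : Form K V r}
    (hΦ : Φ ∈ filForm N r e m) {A : Fin r → Module.End K V} {c : Fin r → ℤ}
    (hA : ∀ l, A l ∈ fil N (c l)) :
    Φ A ∈ fil N (max e (m + ∑ l, c l)) := by
  induction hΦ using Submodule.span_induction with
  | zero => exact zero_mem _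
  | add x y _ _ hx hy => exact add_mem hx hy
  | smul t x _ hx => exact Submodule.smul_mem _ t hx
  | mem x hx =>
    obtain ⟨f, a, hf, he, hm, rfl⟩ := hx
    rw [pureForm_apply]
    by_cases hbad : ∃ l : Fin r, 1 ≤ c l + a l.succ
    · obtain ⟨l, hl⟩ := hbad
      rw [Finset.prod_eq_zero (Finset.mem_univ l) (h.trace_eq_zero hl (mul_mem_fil (hA l) (hf _))),
        zero_smul]
      exact zero_mem _
    · push Not at hbad
      refine Submodule.smul_mem _ _ (fil_anti (max_le he ?_) (hf 0))
      rw [Fin.sum_univ_succ] at hm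
      have h2 : ∑ l : Fin r, a l.succ + ∑ l, c l ≤ 0 := by
        rw [← Finset.sum_add_distrib]
        exact Finset.sum_nonpos fun l _ => by have := hbad l; omega
      omega

theorem eval_mem_fil_all (h : Regular N d) {r : ℕ} {e m : ℤ} {Φ : Form K V r}
    (hΦ : Φ ∈ filForm N r e m) (A : Fin r → Module.End K V) :
    Φ A ∈ fil N (max e (m - r * ((d : ℤ) - 1))) := by
  have h1 := eval_mem_fil h hΦ (A := A) (c := fun _ => -((d : ℤ) - 1)) fun l => h.mem_fil_neg _
  simp only [Finset.sum_const, Finset.card_univ, Fintype.card_fin, nsmul_eq_mul] at h1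
  rwa [show m - (r : ℤ) * ((d : ℤ) - 1) = m + (r : ℤ) * -((d : ℤ) - 1) by ring]

end Eval

/-- Conjugation of forms. -/
noncomputable def act (r : ℕ) : (Module.End K V)ˣ →* Module.End K (Form K V r) where
  toFun g :=
    { toFun := fun Φ A => (g : Module.End K V) *
        Φ (fun l => (↑g⁻¹ : Module.End K V) * A l * g) * (↑g⁻¹ : Module.End K V)
      map_add' := fun Φ Ψ => by
        funext A
        simp [mul_add, add_mul]
      map_smul' := fun c Φ => by
        funext A
        simp [mul_smul_comm, smul_mul_assoc] }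
  map_one' := by
    refine LinearMap.ext fun Φ => funext fun A => ?_
    simp
  map_mul' g g' := by
    refine LinearMap.ext fun Φ => funext fun A => ?_
    simp [mul_assoc]

theorem act_apply {r : ℕ} (g : (Module.End K V)ˣ) (Φ : Form K V r) (A : Fin r → Module.End K V) :
    act r g Φ A = (g : Module.End K V) *
      Φ (fun l => (↑g⁻¹ : Module.End K V) * A l * g) * (↑g⁻¹ : Module.End K V) := rfl

theorem act_pureForm {r : ℕ} (g : (Module.End K V)ˣ) (f : Fin (r + 1) → Module.End K V) :
    act r g (pureForm r f) =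
      pureForm r (fun l => (g : Module.End K V) * f l * (↑g⁻¹ : Module.End K V)) := by
  funext A
  rw [act_apply, pureForm_apply, pureForm_apply, mul_smul_comm, smul_mul_assoc]
  congr 1
  refine Finset.prod_congr rfl fun l _ => ?_
  simp only [mul_assoc]
  rw [LinearMap.trace_mul_comm K (↑g⁻¹ : Module.End K V)]
  simp only [mul_assoc]

/-- A unit of positive degree raises the degree of every form. -/
theorem act_sub_mem {N : Module.End K V} {r : ℕ} {e m : ℤ} {δ : ℤ} (hδ : 0 ≤ δ)
    (g : (Module.End K V)ˣ) (h1 : (g : Module.End K V) - 1 ∈ fil N δ)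
    (h2 : (↑g⁻¹ : Module.End K V) ∈ fil N 0) {Φ : Form K V r} (hΦ : Φ ∈ filForm N r e m) :
    act r g Φ - Φ ∈ filForm N r e (m + δ) := by
  induction hΦ using Submodule.span_induction with
  | zero => simp
  | add x y _ _ hx hy =>
    rw [map_add, add_sub_add_comm]
    exact add_mem hx hy
  | smul t x _ hx =>
    rw [map_smul, ← smul_sub]
    exact Submodule.smul_mem _ t hx
  | mem x hx =>
    obtain ⟨f, a, hf, he, hm, rfl⟩ := hx
    rw [act_pureForm]
    refine filForm_anti le_rfl (add_le_add hm le_rfl) (pureForm_sub_mem hδ a hf he fun l => ?_)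
    have h3 : (g : Module.End K V) * f l * (↑g⁻¹ : Module.End K V) - f l =
        (((g : Module.End K V) - 1) * f l - f l * ((g : Module.End K V) - 1)) *
          (↑g⁻¹ : Module.End K V) := by
      simp only [sub_mul, mul_sub, one_mul, mul_one, mul_assoc, Units.mul_inv]
      abel
    rw [h3]
    have := mul_mem_fil (sub_mem (fil_anti (le_of_eq (by ring)) (mul_mem_fil h1 (hf l)))
      (mul_mem_fil (hf l) h1)) h2
    rwa [add_zero] at this

/-- The sum over the powers of an element of order `p` is a power of the difference operator. -/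
theorem sum_pow_eq {p : ℕ} [Fact p.Prime] {R : Type*} [Ring R] [Algebra (ZMod p) R] (x : R) :
    ∑ i ∈ Finset.range p, x ^ i = (x - 1) ^ (p - 1) := by
  have hp : p.Prime := Fact.out
  have key : ∑ i ∈ Finset.range p, (Polynomial.X : Polynomial (ZMod p)) ^ i =
      (Polynomial.X - 1) ^ (p - 1) := by
    refine mul_right_cancel₀ (Polynomial.X_sub_C_ne_zero (1 : ZMod p)) ?_
    rw [map_one, geom_sum_mul, ← pow_succ, Nat.sub_add_cancel hp.pos,
      sub_pow_char, one_pow]
  have h := congrArg (Polynomial.aeval x) key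
  simpa only [map_sum, map_pow, map_sub, map_one, Polynomial.aeval_X] using h

theorem act_sum_pow_mem {p : ℕ} [Fact p.Prime] {V : Type*} [AddCommGroup V] [Module (ZMod p) V]
    {N : Module.End (ZMod p) V} {r : ℕ} {e m δ : ℤ} (hδ : 0 ≤ δ) (g : (Module.End (ZMod p) V)ˣ)
    (h1 : (g : Module.End (ZMod p) V) - 1 ∈ fil N δ)
    (h2 : (↑g⁻¹ : Module.End (ZMod p) V) ∈ fil N 0) {Φ : Form (ZMod p) V r}
    (hΦ : Φ ∈ filForm N r e m) :
    ∑ i ∈ Finset.range p, act r (g ^ i) Φ ∈ filForm N r e (m + ((p : ℤ) - 1) * δ) := by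
  have hp : p.Prime := Fact.out
  have key : ∀ j : ℕ, ((act r g - 1) ^ j) Φ ∈ filForm N r e (m + (j : ℤ) * δ) := by
    intro j
    induction j with
    | zero => simpa using hΦ
    | succ j ih =>
      rw [pow_succ', Module.End.mul_apply, LinearMap.sub_apply, Module.End.one_apply]
      refine filForm_anti le_rfl (le_of_eq ?_) (act_sub_mem hδ g h1 h2 ih)
      push_cast
      ring
  have h3 := key (p - 1)
  rw [← sum_pow_eq] at h3
  simp only [LinearMap.sum_apply, ← map_pow] at h3
  rwa [show ((p - 1 : ℕ) : ℤ) = (p : ℤ) - 1 by have := hp.pos; omega] at h3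

end CfsgLib.RegUnip
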