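import Cfsg.Agent.RegUnip.Section
import Cfsg.Agent.QdSection.Main
import Cfsg.Agent.BaerSuzuki.Basic
import Cfsg.Agent.Constrained.Basic
import Cfsg.Agent.LocalCharP.StronglyEmbedded

/-!
A quadratic element of a group with a strongly `p`-embedded subgroup commutes with an involution which
inverts the commutator space.
-/

set_option autoImplicit false

namespace CfsgLib.RegUnip

open scoped commutatorElement

universe v

variable {p : ℕ} [Fact p.Prime] {X : Type*} [Group X] [Finite X] {V : Type v} [AddCommGroup V]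
  [Module (ZMod p) V] [Finite V]

/-- A quadratic element normalizing a subgroup of order prime to `p` centralizes it. -/
theorem commute_of_quadratic (hp : 5 ≤ p) (ρ : X →* Module.End (ZMod p) V) (hρ : Function.Injective ρ)
    {z : X} (hz : (ρ z - 1) * (ρ z - 1) = 0) {K : Subgroup X} (hK : ¬ p ∣ Nat.card K)
    (hn : z ∈ Subgroup.normalizer (K : Set X)) {k : X} (hk : k ∈ K) : Commute z k := by
  have hpp : p.Prime := Fact.out
  set H := K ⊔ Subgroup.zpowers z with hH
  have hzH : z ∈ H := Subgroup.mem_sup_right (Subgroup.mem_zpowers z)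
  have hKH : K ≤ H := le_sup_left
  have hHn : H ≤ Subgroup.normalizer (K : Set X) := sup_le Subgroup.le_normalizer (Subgroup.zpowers_le.2 hn)
  let Kn : Subgroup H := K.subgroupOf H
  haveI hKn : Kn.Normal := (Subgroup.normal_subgroupOf_iff_le_normalizer hKH).2 hHn
  let zH : H := ⟨z, hzH⟩
  have htop : Kn ⊔ Subgroup.zpowers zH = ⊤ := by
    apply Subgroup.map_injective H.subtype_injective
    rw [Subgroup.map_sup, Subgroup.map_subgroupOf_eq_of_le hKH, MonoidHom.map_zpowers,
      ← MonoidHom.range_eq_map, Subgroup.range_subtype]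
    rfl
  have hq : ∀ x : H, ∃ i : ℤ, (QuotientGroup.mk x : H ⧸ Kn) = (QuotientGroup.mk zH) ^ i := by
    intro x
    obtain ⟨k', hk', _, ⟨i, rfl⟩, rfl⟩ :=
      (Subgroup.mem_sup_of_normal_left (s := Kn) (t := Subgroup.zpowers zH)).1 (htop ▸ Subgroup.mem_top x)
    exact ⟨i, by
      rw [QuotientGroup.mk_mul, (QuotientGroup.eq_one_iff k').2 hk', one_mul, QuotientGroup.mk_zpow]⟩
  have hcomm : ∀ x y : H, ⁅x, y⁆ ∈ Kn := by
    intro x y
    obtain ⟨i, hi⟩ := hq x
    obtain ⟨j, hj⟩ := hq y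
    rw [← QuotientGroup.eq_one_iff, ← QuotientGroup.mk'_apply, map_commutatorElement,
      commutatorElement_eq_one_iff_commute]
    show Commute (QuotientGroup.mk x : H ⧸ Kn) (QuotientGroup.mk y)
    rw [hi, hj]
    exact Commute.zpow_zpow_self _ _ _
  have hKcard : ¬ p ∣ Nat.card Kn := by
    rw [Nat.card_congr (Subgroup.subgroupOfEquivOfLe hKH).toEquiv]
    exact hK
  -- no pair generates a group with a section `SL(2, p)`
  have hmem : zH ∈ Cfsg.pCore p H := by
    refine CfsgLib.BaerSuzuki.mem_pCore _ fun g => ?_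
    by_contra hnp
    obtain ⟨s⟩ := CfsgLib.QdSection.exists_natural (by omega) (ρ.comp H.subtype) (a := zH)
      (b := g * zH * g⁻¹) hz (CfsgLib.QdSection.conj_quadratic (ρ.comp H.subtype) hz g) (fun hall => hnp (by
        intro x
        obtain ⟨j, hj⟩ := hall x.1 x.2
        refine ⟨j, Subtype.ext (Subtype.ext (hρ ?_))⟩
        rw [show ((((1 : Subgroup.closure ({zH, g * zH * g⁻¹} : Set H)) : H) : X)) = 1 from rfl, map_one]
        exact hj))
    obtain ⟨x, hx⟩ := s.surj ⟨!![2, 0; 0, 2⁻¹], by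
      have h20 : (2 : ZMod p) ≠ 0 := by
        intro h
        have h2' : ((2 : ℕ) : ZMod p) = 0 := by exact_mod_cast h
        rw [ZMod.natCast_eq_zero_iff] at h2'
        have := Nat.le_of_dvd (by norm_num) h2'
        omega
      simp [Matrix.det_fin_two, h20]⟩
    obtain ⟨y, hy⟩ := s.surj ⟨!![1, 1; 0, 1], by simp [Matrix.det_fin_two]⟩
    have hxy : ((⁅x, y⁆ : s.sub) : H) ∈ Kn := by
      have := hcomm (x : H) (y : H)
      simpa [commutatorElement_def] using this
    have hmapmul : (⁅x, y⁆ : s.sub) ^ Nat.card Kn = 1 := Subtype.ext (by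
      rw [Subgroup.coe_pow, Subgroup.coe_one]
      exact congrArg Subtype.val (pow_card_eq_one' (G := Kn) (x := ⟨_, hxy⟩)))
    have h1 := congrArg s.toSL hmapmul
    rw [map_pow, map_commutatorElement, hx, hy, map_one] at h1
    set A : Matrix.SpecialLinearGroup (Fin 2) (ZMod p) := ⟨!![2, 0; 0, 2⁻¹], _⟩ with hA
    set B : Matrix.SpecialLinearGroup (Fin 2) (ZMod p) := ⟨!![1, 1; 0, 1], _⟩ with hB
    have hAm : A.1 = !![2, 0; 0, 2⁻¹] := rfl
    have hBm : B.1 = !![1, 1; 0, 1] := rfl
    have h20 : (2 : ZMod p) ≠ 0 := by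
      intro h
      have h2' : ((2 : ℕ) : ZMod p) = 0 := by exact_mod_cast h
      rw [ZMod.natCast_eq_zero_iff] at h2'
      have := Nat.le_of_dvd (by norm_num) h2'
      omega
    have hc : (⁅A, B⁆).1 = !![1, 3; 0, 1] := by
      rw [commutatorElement_def, val_mul, val_mul, val_mul, val_inv, val_inv, hAm, hBm,
        Matrix.adjugate_fin_two_of, Matrix.adjugate_fin_two_of]
      ext i j
      fin_cases i <;> fin_cases j <;> simp [Matrix.mul_apply, Fin.sum_univ_two, h20]
      all_goals (field_simp; ring)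
    have hpow : ∀ n : ℕ, ((⁅A, B⁆).1) ^ n = !![1, (n : ZMod p) * 3; 0, 1] := by
      intro n
      induction n with
      | zero => ext i j; fin_cases i <;> fin_cases j <;> simp
      | succ n ih =>
        rw [pow_succ, ih, hc]
        ext i j
        fin_cases i <;> fin_cases j <;> simp [Matrix.mul_apply, Fin.sum_univ_two] <;> ring
    have h2 := congrFun (congrFun (congrArg Subtype.val h1) 0) 1
    rw [val_pow, hpow, val_one] at h2
    simp at h2
    rcases h2 with h2 | h2
    · exact hKcard ((ZMod.natCast_eq_zero_iff _ p).1 h2)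
    · have h3 : ((3 : ℕ) : ZMod p) = 0 := by exact_mod_cast h2
      rw [ZMod.natCast_eq_zero_iff] at h3
      have := Nat.le_of_dvd (by norm_num) h3
      omega
  let kH : H := ⟨k, hKH hk⟩
  haveI : (Cfsg.pCore p H).Normal := CfsgLib.Constrained.instNormalPCore p
  have h1 : ⁅zH, kH⁆ ∈ Cfsg.pCore p H := by
    rw [commutatorElement_def, mul_assoc zH kH, mul_assoc zH]
    exact mul_mem hmem (Subgroup.Normal.conj_mem inferInstance _ (inv_mem hmem) kH)
  have h2 : ⁅zH, kH⁆ ∈ Kn := hcomm zH kH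
  obtain ⟨j, hj⟩ := CfsgLib.Constrained.isPGroup_pCore (G := H) (p := p) ⟨_, h1⟩
  have ho1 : orderOf ⁅zH, kH⁆ ∣ p ^ j := orderOf_dvd_of_pow_eq_one (congrArg Subtype.val hj)
  have ho2 : orderOf ⁅zH, kH⁆ ∣ Nat.card Kn := Subgroup.orderOf_dvd_natCard _ h2
  obtain ⟨i, -, hi⟩ := (Nat.dvd_prime_pow hpp).1 ho1
  have hi0 : i = 0 := by
    by_contra hi0
    exact hKcard ((dvd_pow_self p hi0).trans (hi ▸ ho2))
  have h3 : ⁅zH, kH⁆ = 1 := orderOf_eq_one_iff.1 (by rw [hi, hi0, pow_zero])
  have h4 := (commutatorElement_eq_one_iff_commute.1 h3).map H.subtype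
  exact h4

/-- A subspace is minimal over another among the invariant ones. -/
structure Covers {G : Type*} (σ : G → Module.End (ZMod p) V) (A B : Submodule (ZMod p) V) : Prop where
  lt : A < B
  inv_low : ∀ g, ∀ v ∈ A, σ g v ∈ A
  inv_high : ∀ g, ∀ v ∈ B, σ g v ∈ B
  eq_or_eq : ∀ C, (∀ g, ∀ v ∈ C, σ g v ∈ C) → A ≤ C → C ≤ B → C = A ∨ C = B

/-- Every nonzero invariant subspace covers some invariant subspace. -/
theorem exists_covers {G : Type*} (σ : G → Module.End (ZMod p) V) {W : Submodule (ZMod p) V}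
    (hW : ∀ g, ∀ v ∈ W, σ g v ∈ W) (hne : W ≠ ⊥) : ∃ A, Covers σ A W := by
  let S : Set (Submodule (ZMod p) V) := {A | A < W ∧ ∀ g, ∀ v ∈ A, σ g v ∈ A}
  haveI : Finite (Submodule (ZMod p) V) := Finite.of_injective _ SetLike.coe_injective
  obtain ⟨A, hAS, hmax⟩ := Set.Finite.exists_maximalFor id S (Set.toFinite S)
    ⟨⊥, bot_lt_iff_ne_bot.2 hne, fun g v hv => by
      rw [Submodule.mem_bot] at hv ⊢; rw [hv, map_zero]⟩
  refine ⟨A, hAS.1, hAS.2, hW, fun C hC hAC hCW => ?_⟩
  by_cases hCeq : C = W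
  · exact Or.inr hCeq
  · exact Or.inl (le_antisymm (hmax ⟨lt_of_le_of_ne hCW hCeq, hC⟩ hAC) hAC)

/-- Induction along a series with minimal steps. -/
theorem covers_induction {G : Type*} (σ : G → Module.End (ZMod p) V) (P : Submodule (ZMod p) V → Prop)
    (W : Submodule (ZMod p) V) (hW : ∀ g, ∀ v ∈ W, σ g v ∈ W) (h0 : P ⊥)
    (hstep : ∀ A B, B ≤ W → Covers σ A B → P A → P B) : P W := by
  induction hn : Module.finrank (ZMod p) W using Nat.strong_induction_on generalizing W with
  | _ n ih =>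
  by_cases hne : W = ⊥
  · rw [hne]; exact h0
  obtain ⟨A, hA⟩ := exists_covers σ hW hne
  exact hstep A W le_rfl hA (ih _ (hn ▸ Submodule.finrank_lt_finrank_of_lt hA.lt) A hA.inv_low
    (fun A' B' hB' => hstep A' B' (hB'.trans hA.lt.le)) rfl)

/-- The properties of a minimal step for a group generated by two quadratic elements. -/
theorem covers_props (hp : 5 ≤ p) {Y : Type*} [Group Y] [Finite Y] (σ : Y →* Module.End (ZMod p) V)
    {z w : Y} (hgen : Subgroup.closure ({z, w} : Set Y) = ⊤) (hz : (σ z - 1) * (σ z - 1) = 0)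
    (hw : (σ w - 1) * (σ w - 1) = 0) {A B : Submodule (ZMod p) V} (hAB : Covers (fun y => σ y) A B) :
    (∀ y : Y, ∀ v ∈ B, σ y v - v ∈ A) ∨
    ∃ (U : Type v) (_ : AddCommGroup U) (_ : Module (ZMod p) U) (π : B →ₗ[ZMod p] U)
      (τ : Y →* Module.End (ZMod p) U),
        Function.Surjective π ∧ (∀ v : B, π v = 0 ↔ (v : V) ∈ A) ∧
        (∀ (y : Y) (v : B), π ⟨σ y v, hAB.inv_high y v v.2⟩ = τ y (π v)) ∧
        SectionProps p τ z w := by
  let A' := A.comap B.subtype
  let τ : Y →* Module.End (ZMod p) (B ⧸ A') :=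
    { toFun := fun y => Submodule.mapQ A' A' ((σ y).restrict (hAB.inv_high y))
        fun v hv => hAB.inv_low y _ hv
      map_one' := Submodule.linearMap_qext _ (LinearMap.ext fun v => by simp [LinearMap.restrict_apply])
      map_mul' := fun x y => Submodule.linearMap_qext _ (LinearMap.ext fun v => by
        simp [LinearMap.restrict_apply]; rfl) }
  have hτ : ∀ (y : Y) (v : B),
      τ y (Submodule.Quotient.mk v) = Submodule.Quotient.mk ⟨σ y v, hAB.inv_high y v v.2⟩ := fun _ _ => rfl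
  by_cases htriv : τ z = 1 ∧ τ w = 1
  · left
    have hall : ∀ y : Y, τ y = 1 := fun y => CfsgLib.GlaubermanZJ.mem_of_closure_pair hgen
      (P := fun y => τ y = 1) (map_one τ) (fun x x' hx hx' => by rw [map_mul, hx, hx', one_mul])
      htriv.1 htriv.2 y
    intro y v hv
    have := LinearMap.congr_fun (hall y) (Submodule.Quotient.mk ⟨v, hv⟩)
    rw [hτ, Module.End.one_apply, Submodule.Quotient.eq] at this
    exact this
  · right
    obtain ⟨v, hv, hvA⟩ := SetLike.exists_of_lt hAB.lt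
    haveI : Nontrivial (B ⧸ A') := ⟨⟨Submodule.Quotient.mk ⟨v, hv⟩, 0, fun h => hvA
      ((Submodule.Quotient.mk_eq_zero A').1 h)⟩⟩
    haveI : Finite (B ⧸ A') := Finite.of_surjective _ (Submodule.Quotient.mk_surjective A')
    have hquad : ∀ x : Y, (σ x - 1) * (σ x - 1) = 0 → (τ x - 1) * (τ x - 1) = 0 := by
      intro x hx
      refine Submodule.linearMap_qext _ (LinearMap.ext fun u => ?_)
      have e : (((τ x - 1) * (τ x - 1)) (Submodule.Quotient.mk u)) =
          Submodule.Quotient.mk (p := A') ⟨σ x (σ x u - u) - (σ x u - u),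
            sub_mem (hAB.inv_high x _ (sub_mem (hAB.inv_high x _ u.2) u.2))
              (sub_mem (hAB.inv_high x _ u.2) u.2)⟩ := by
        simp only [Module.End.mul_apply, LinearMap.sub_apply, Module.End.one_apply, hτ,
          ← Submodule.Quotient.mk_sub]
        rfl
      rw [LinearMap.comp_apply, Submodule.mkQ_apply, e]
      have h0 := LinearMap.congr_fun hx (u : V)
      simp only [Module.End.mul_apply, LinearMap.sub_apply, Module.End.one_apply, LinearMap.zero_apply] at h0
      rw [show ∀ h, (⟨σ x (σ x u - u) - (σ x u - u), h⟩ : B) = 0 from fun h => Subtype.ext h0]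
      simp
    refine ⟨B ⧸ A', inferInstance, inferInstance, A'.mkQ, τ, Submodule.mkQ_surjective A',
      fun u => Submodule.Quotient.mk_eq_zero A', fun y u => rfl,
      sectionProps hp τ hgen (fun W hW => ?_) (hquad z hz) (hquad w hw) htriv⟩
    let C : Submodule (ZMod p) V := (W.comap A'.mkQ).map B.subtype
    have hAC : A ≤ C := fun a ha => ⟨⟨a, hAB.lt.le ha⟩, by
      show Submodule.Quotient.mk _ ∈ W
      rw [(Submodule.Quotient.mk_eq_zero A').2 ha]
      exact zero_mem W, rfl⟩
    rcases hAB.eq_or_eq C (fun y => by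
        rintro _ ⟨u, hu, rfl⟩
        exact ⟨⟨σ y u, hAB.inv_high y _ u.2⟩, by
          show Submodule.Quotient.mk _ ∈ W
          rw [← hτ]
          exact hW y _ hu, rfl⟩) hAC (Submodule.map_subtype_le _ _) with h | h
    · left
      rw [eq_bot_iff]
      intro u hu
      obtain ⟨u, rfl⟩ := Submodule.mkQ_surjective A' u
      rw [Submodule.mem_bot, Submodule.mkQ_apply, Submodule.Quotient.mk_eq_zero]
      show (u : V) ∈ A
      rw [← h]
      exact ⟨u, hu, rfl⟩
    · right
      rw [eq_top_iff]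
      intro u _
      obtain ⟨u, rfl⟩ := Submodule.mkQ_surjective A' u
      have : (u : V) ∈ C := by rw [h]; exact u.2
      obtain ⟨u', hu', he⟩ := this
      rwa [show u' = u from Subtype.ext he] at hu'

/-- The involution attached to a quadratic element of a group with a strongly `p`-embedded subgroup. -/
theorem exists_involution (hp : 5 ≤ p) (ρ : X →* Module.End (ZMod p) V) (hρ : Function.Injective ρ)
    {M : Subgroup X} (hM : Cfsg.IsStronglyPEmbedded p M) {z : X} (hzM : z ∈ M) (hzp : orderOf z = p)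
    (hz : (ρ z - 1) * (ρ z - 1) = 0) :
    ∃ c : X, Commute c z ∧
      (∀ v, ρ c v + v ∈ LinearMap.ker (ρ z - 1)) ∧
      (∀ v ∈ LinearMap.ker (ρ z - 1), ρ c v - v ∈ LinearMap.range (ρ z - 1)) ∧
      (∀ v ∈ LinearMap.range (ρ z - 1), ρ c v = -v) := by
  classical
  have hpp : p.Prime := Fact.out
  have hMtop : M ≠ ⊤ := hM.2.1
  obtain ⟨g0, hg0⟩ : ∃ g, g ∉ M := by
    by_contra hall
    push Not at hall
    exact hMtop ((Subgroup.eq_top_iff' M).2 hall)
  let C : X → Subgroup X := fun g => Subgroup.closure {z, g * z * g⁻¹}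
  obtain ⟨g, hgM, hmin⟩ := Set.Finite.exists_minimalFor (fun g => Nat.card (C g)) {g : X | g ∉ M}
    (Set.toFinite _) ⟨g0, hg0⟩
  set z' := g * z * g⁻¹ with hz'
  have hz'M : z' ∉ M := fun h => hgM (CfsgLib.LocalCharP.mem_of_conj_mem hM hzM hzp h)
  set Y := C g with hY
  let zY : Y := ⟨z, Subgroup.subset_closure (Set.mem_insert _ _)⟩
  let wY : Y := ⟨z', Subgroup.subset_closure (Set.mem_insert_of_mem _ rfl)⟩
  have hgen : Subgroup.closure ({zY, wY} : Set Y) = ⊤ := by
    apply Subgroup.map_injective Y.subtype_injective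
    rw [MonoidHom.map_closure, Set.image_pair, ← MonoidHom.range_eq_map, Subgroup.range_subtype]
    rfl
  let σ : Y →* Module.End (ZMod p) V := ρ.comp Y.subtype
  have hσ : Function.Injective σ := hρ.comp Y.subtype_injective
  have hzq : (σ zY - 1) * (σ zY - 1) = 0 := hz
  have hwq : (σ wY - 1) * (σ wY - 1) = 0 := CfsgLib.QdSection.conj_quadratic ρ hz g
  -- `p`-subgroups containing `z` lie in `M`
  have hpM : ∀ P : Subgroup X, IsPGroup p P → z ∈ P → P ≤ M := by
    intro P hP hzP
    obtain ⟨x, hxP, hxo, hxc⟩ := CfsgLib.LocalCharP.exists_central_orderOf_eq hP (fun h => by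
      rw [h, Subgroup.mem_bot] at hzP
      rw [hzP, orderOf_one] at hzp
      exact hpp.one_lt.ne hzp)
    have hxM : x ∈ M := CfsgLib.LocalCharP.centralizer_le hM hzM hzp
      (Subgroup.mem_centralizer_singleton_iff.2 (hxc z hzP).symm)
    exact fun q hq => CfsgLib.LocalCharP.centralizer_le hM hxM hxo
      (Subgroup.mem_centralizer_singleton_iff.2 (hxc q hq))
  have hnp : ¬ IsPGroup p Y := fun h => hz'M (hpM Y h zY.2 wY.2)
  -- kernels of sections have order prime to `p`
  have hker : ∀ {U : Type v} [AddCommGroup U] [Module (ZMod p) U] (τ : Y →* Module.End (ZMod p) U),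
      SectionProps p τ zY wY → ∀ x : Y, τ x = 1 → orderOf x ≠ p := by
    intro U _ _ τ hτ x hx hxo
    let K : Subgroup Y :=
      { carrier := {y | τ y = 1}
        one_mem' := map_one τ
        mul_mem' := fun {a b} ha hb => by rw [Set.mem_setOf_eq, map_mul, ha, hb, one_mul]
        inv_mem' := fun {a} (ha : τ a = 1) => by
          have : τ a⁻¹ * τ a = 1 := by rw [← map_mul, inv_mul_cancel, map_one]
          rwa [ha, mul_one] at this }
    haveI hKn : K.Normal := ⟨fun n (hn : τ n = 1) y => by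
      show τ (y * n * y⁻¹) = 1
      rw [map_mul, map_mul, hn, mul_one, ← map_mul, mul_inv_cancel, map_one]⟩
    obtain ⟨Q, hQ⟩ := (IsPGroup.of_card (n := 1) (p := p) (G := Subgroup.zpowers zY) (by
      rw [Nat.card_zpowers, pow_one]
      exact (Subgroup.orderOf_coe zY).symm.trans hzp)).exists_le_sylow
    obtain ⟨R, hR⟩ := (CfsgLib.LocalCharP.isPGroup_zpowers_of_orderOf hxo).exists_le_sylow
    obtain ⟨h, hh⟩ := MulAction.exists_smul_eq Y R Q
    have hx' : h * x * h⁻¹ ∈ (Q : Subgroup Y) ⊓ K := ⟨by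
      rw [← hh, Sylow.coe_subgroup_smul]
      exact ⟨x, hR (Subgroup.mem_zpowers x), rfl⟩, hKn.conj_mem x hx h⟩
    set P := ((Q : Subgroup Y) ⊓ K).map Y.subtype with hP
    have hQM : ((Q : Subgroup Y).map Y.subtype) ≤ M :=
      hpM _ (Q.isPGroup'.map _) ⟨zY, hQ (Subgroup.mem_zpowers zY), rfl⟩
    have hPM : P ≤ M := (Subgroup.map_mono inf_le_left).trans hQM
    have hPp : IsPGroup p P := (Q.isPGroup'.to_le inf_le_left).map _
    have hPne : P ≠ ⊥ := by
      rw [hP, Ne, Subgroup.map_eq_bot_iff_of_injective _ Y.subtype_injective]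
      intro hb
      rw [hb, Subgroup.mem_bot, conj_eq_one_iff] at hx'
      rw [hx', orderOf_one] at hxo
      exact hpp.one_lt.ne hxo
    have hN := CfsgLib.LocalCharP.normalizer_le hM hPM hPp hPne
    -- Frattini
    obtain ⟨PK, hPK⟩ := ((Q.isPGroup'.to_le inf_le_left : IsPGroup p ((Q : Subgroup Y) ⊓ K : Subgroup Y))
      ).comap_of_injective K.subtype K.subtype_injective |>.exists_le_sylow
    have hsup := Sylow.normalizer_sup_eq_top PK
    have hPKim : (PK : Subgroup K).map K.subtype = (Q : Subgroup Y) ⊓ K := by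
      refine (Subgroup.eq_of_le_of_card_ge ?_ ?_).symm
      · intro t ht
        exact ⟨⟨t, ht.2⟩, hPK ht, rfl⟩
      · obtain ⟨R', hR'⟩ := (PK.isPGroup'.map K.subtype).exists_le_sylow
        obtain ⟨h', hh'⟩ := MulAction.exists_smul_eq Y R' Q
        have hsub : ((PK : Subgroup K).map K.subtype).map (MulAut.conj h').toMonoidHom ≤
            (Q : Subgroup Y) ⊓ K := by
          rintro _ ⟨_, ⟨t, ht, rfl⟩, rfl⟩
          refine ⟨?_, hKn.conj_mem _ t.2 h'⟩
          rw [← hh', Sylow.coe_subgroup_smul]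
          exact ⟨t, hR' ⟨t, ht, rfl⟩, rfl⟩
        refine le_trans ?_ (Subgroup.card_le_of_le hsub)
        exact (Nat.card_congr (Subgroup.equivMapOfInjective _ _ (MulAut.conj h').injective).toEquiv).le
    rw [hPKim] at hsup
    obtain ⟨k, hkK, hkM⟩ : ∃ k ∈ K, (k : X) ∉ M := by
      by_contra hall
      push Not at hall
      refine hz'M ?_
      have : (⊤ : Subgroup Y) ≤ M.comap Y.subtype := by
        rw [← hsup]
        refine sup_le (fun n hn => hN (Subgroup.mem_normalizer_iff.2 fun y => ?_)) hall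
        constructor
        · rintro ⟨q, hq, rfl⟩
          exact ⟨n * q * n⁻¹, (Subgroup.mem_normalizer_iff.1 hn q).1 hq, rfl⟩
        · rintro ⟨q, hq, he⟩
          refine ⟨n⁻¹ * q * n, ?_, ?_⟩
          · exact (Subgroup.mem_normalizer_iff.1 hn _).2 (by rw [show n * (n⁻¹ * q * n) * n⁻¹ = q by group]; exact hq)
          · have e : (q : X) = n * y * (n : X)⁻¹ := he
            simp [e, mul_assoc]
      exact this (Subgroup.mem_top wY)
    have hle : C (k : X) ≤ Y := by
      refine (Subgroup.closure_le _).2 ?_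
      rintro t (rfl | rfl)
      · exact zY.2
      · exact mul_mem (mul_mem k.2 zY.2) (inv_mem k.2)
    have heq : C (k : X) = Y := Subgroup.eq_of_le_of_card_ge hle (hmin hkM (Subgroup.card_le_of_le hle))
    have hsub : ∀ y : Y, Commute (τ y) (τ zY) := by
      intro y
      have htop : Subgroup.closure ({zY, k * zY * k⁻¹} : Set Y) = ⊤ := by
        apply Subgroup.map_injective Y.subtype_injective
        rw [MonoidHom.map_closure, Set.image_pair, ← MonoidHom.range_eq_map, Subgroup.range_subtype]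
        exact heq
      refine CfsgLib.GlaubermanZJ.mem_of_closure_pair htop (P := fun y => Commute (τ y) (τ zY))
        (by simp) (fun a b ha hb => by rw [map_mul]; exact ha.mul_left hb) (Commute.refl _) ?_ y
      rw [map_mul, map_mul, show τ k = 1 from hkK, one_mul,
        show τ k⁻¹ = 1 from K.inv_mem hkK, mul_one]
    exact hτ.noncomm (hsub wY).symm
  -- a section exists
  obtain ⟨A0, B0, hAB0, U0, _, _, π0, τ0, -, -, -, hτ0⟩ :
      ∃ (A B : Submodule (ZMod p) V) (_ : Covers (fun y => σ y) A B) (U : Type v) (_ : AddCommGroup U)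
        (_ : Module (ZMod p) U) (π : B →ₗ[ZMod p] U) (τ : Y →* Module.End (ZMod p) U),
        Function.Surjective π ∧ (∀ v : B, π v = 0 ↔ (v : V) ∈ A) ∧ True ∧ SectionProps p τ zY wY := by
    by_contra hnone
    refine hnp fun y => ?_
    obtain ⟨n, hn⟩ : ∃ n : ℕ, ∀ v : V, ((σ y - 1) ^ n) v = 0 := by
      have := covers_induction (fun y => σ y) (fun W => ∃ n : ℕ, ∀ v ∈ W, ((σ y - 1) ^ n) v = 0)
        ⊤ (fun _ _ _ => trivial) ⟨0, fun v hv => by simpa using hv⟩ (fun A B _ hAB ⟨n, hn⟩ => by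
          rcases covers_props hp σ hgen hzq hwq hAB with h | ⟨U, i1, i2, π, τ, h1, h2, h3, h4⟩
          · refine ⟨n + 1, fun v hv => ?_⟩
            rw [pow_succ, Module.End.mul_apply, LinearMap.sub_apply, Module.End.one_apply]
            exact hn _ (h y v hv)
          · exact absurd ⟨A, B, hAB, U, i1, i2, π, τ, h1, h2, trivial, h4⟩ hnone)
      obtain ⟨n, hn⟩ := this
      exact ⟨n, fun v => hn v trivial⟩
    refine ⟨n, hσ ?_⟩
    haveI : Nontrivial V := by
      by_contra hns
      rw [not_nontrivial_iff_subsingleton] at hns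
      have h1 : z = 1 := hρ (LinearMap.ext fun v => Subsingleton.elim _ _)
      rw [h1, orderOf_one] at hzp
      exact hpp.one_lt.ne hzp
    haveI : CharP (Module.End (ZMod p) V) p :=
      charP_of_injective_algebraMap (algebraMap (ZMod p) _).injective p
    have h1 : (σ y - 1) ^ p ^ n = 0 :=
      pow_eq_zero_of_le (Nat.lt_pow_self hpp.one_lt).le (LinearMap.ext hn)
    rw [sub_pow_char_pow_of_commute p n (Commute.one_right _), one_pow, sub_eq_zero] at h1
    rw [map_pow, map_one, h1]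
  -- the central elements
  have hZ : ∀ {U : Type v} [AddCommGroup U] [Module (ZMod p) U] (τ : Y →* Module.End (ZMod p) U),
      SectionProps p τ zY wY → ∀ x : Y, (τ x = 1 ∨ τ x = -1) → (∀ y, Commute x y) ∧ ¬ p ∣ orderOf x := by
    intro U _ _ τ hτ x hx
    let Z : Subgroup Y :=
      { carrier := {y | τ y = 1 ∨ τ y = -1}
        one_mem' := Or.inl (map_one τ)
        mul_mem' := fun {a b} ha hb => by
          rcases ha with ha | ha <;> rcases hb with hb | hb <;> simp [ha, hb]
        inv_mem' := fun {a} ha => by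
          have h1 : τ a⁻¹ * τ a = 1 := by rw [← map_mul, inv_mul_cancel, map_one]
          rcases ha with ha | ha
          · left; rwa [ha, mul_one] at h1
          · right; rw [ha, mul_neg_one, neg_eq_iff_eq_neg] at h1; exact h1 }
    haveI : Z.Normal := ⟨fun n hn y => by
      have h1 : τ y * τ y⁻¹ = 1 := by rw [← map_mul, mul_inv_cancel, map_one]
      rcases hn with hn | hn
      · exact Or.inl (by simp [hn, h1])
      · exact Or.inr (by simp [hn, h1])⟩
    have hZp : ¬ p ∣ Nat.card Z := by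
      intro hd
      obtain ⟨t, ht⟩ := exists_prime_orderOf_dvd_card' p hd
      rw [← Subgroup.orderOf_coe] at ht
      refine hker τ hτ (t : Y) ?_ ht
      rcases t.2 with h | h
      · exact h
      · exfalso
        have hpow : τ ((t : Y) ^ p) = 1 := by
          rw [orderOf_dvd_iff_pow_eq_one.1 (dvd_of_eq ht), map_one]
        rw [map_pow, h, (hpp.odd_of_ne_two (by omega)).neg_one_pow] at hpow
        exact hτ.neg_ne hpow
    have hc : ∀ t : Y, (σ t - 1) * (σ t - 1) = 0 → Commute t x := fun t ht =>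
      commute_of_quadratic hp σ hσ ht hZp (by rw [Subgroup.normalizer_eq_top]; trivial) hx
    refine ⟨fun y => ?_, fun hd => hZp (hd.trans (Subgroup.orderOf_dvd_natCard _ hx))⟩
    exact CfsgLib.GlaubermanZJ.mem_of_closure_pair hgen (P := fun y => Commute x y) (Commute.one_right x)
      (fun a b ha hb => ha.mul_right hb) (hc zY hzq).symm (hc wY hwq).symm y
  obtain ⟨y0, hy0⟩ := hτ0.exists_four
  set c := y0 * y0 with hcdef
  have hc0 : τ0 c = -1 := by rw [hcdef, map_mul]; exact hy0
  obtain ⟨hccent, hcord⟩ := hZ τ0 hτ0 c (Or.inr hc0)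
  have hneg : ∀ {U : Type v} [AddCommGroup U] [Module (ZMod p) U] (τ : Y →* Module.End (ZMod p) U),
      SectionProps p τ zY wY → τ c = -1 := by
    intro U _ _ τ hτ
    have hnc : ¬ (τ y0 = 1 ∨ τ y0 = -1) := by
      intro h
      have h1 := (hZ τ hτ y0 h).1
      rcases hτ0.scalar y0 ((h1 zY).map τ0) ((h1 wY).map τ0) with h2 | h2
      · rw [h2, one_mul] at hy0; exact hτ0.neg_ne hy0.symm
      · rw [h2, neg_one_mul, neg_neg] at hy0; exact hτ0.neg_ne hy0.symm
    rcases hτ.scalar c ((hccent zY).map τ) ((hccent wY).map τ) with h | h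
    · exact absurd (hτ.involution y0 (by rw [← map_mul]; exact h)) hnc
    · exact h
  -- on a section, `c` is `1` or `-1`
  have hcases : ∀ A B, Covers (fun y => σ y) A B →
      (∀ y : Y, ∀ v ∈ B, σ y v - v ∈ A) ∨
      ((∀ v ∈ B, σ c v + v ∈ A) ∧
        (∀ v ∈ B, σ zY v - v ∈ A → ∃ u ∈ B, v - (σ zY u - u) ∈ A) ∧
        ∃ (h : Y) (r : ℕ), (r : ZMod p) ≠ 1 ∧ ∀ v ∈ B, σ (h * zY * h⁻¹) v - σ (zY ^ r) v ∈ A) := by
    intro A B hAB
    rcases covers_props hp σ hgen hzq hwq hAB with h | ⟨U, _, _, π, τ, hsurj, hπ, hτe, hτ⟩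
    · exact Or.inl h
    · right
      have key : ∀ (y : Y) (v : V) (hv : v ∈ B), π ⟨σ y v, hAB.inv_high y v hv⟩ = τ y (π ⟨v, hv⟩) :=
        fun y v hv => hτe y ⟨v, hv⟩
      refine ⟨fun v hv => ?_, fun v hv hva => ?_, ?_⟩
      · refine (hπ ⟨σ c v + v, add_mem (hAB.inv_high c v hv) hv⟩).1 ?_
        rw [show (⟨σ c v + v, add_mem (hAB.inv_high c v hv) hv⟩ : B) =
          ⟨σ c v, hAB.inv_high c v hv⟩ + ⟨v, hv⟩ from rfl, map_add, key c v hv, hneg τ hτ]
        simp
      · have h1 : π ⟨v, hv⟩ ∈ LinearMap.ker (τ zY - 1) := by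
          rw [LinearMap.mem_ker, LinearMap.sub_apply, Module.End.one_apply, ← key zY v hv, ← map_sub]
          exact (hπ _).2 hva
        obtain ⟨u', hu'⟩ := hτ.ker_le h1
        obtain ⟨⟨u, hu⟩, rfl⟩ := hsurj u'
        rw [LinearMap.sub_apply, Module.End.one_apply, ← key zY u hu, ← map_sub, eq_comm, ← sub_eq_zero,
          ← map_sub] at hu'
        exact ⟨u, hu, (hπ _).1 hu'⟩
      · obtain ⟨h, r, hr, hhr⟩ := hτ.exists_scaling
        refine ⟨h, r, hr, fun v hv => ?_⟩
        refine (hπ ⟨_, sub_mem (hAB.inv_high (h * zY * h⁻¹) v hv) (hAB.inv_high (zY ^ r) v hv)⟩).1 ?_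
        rw [show (⟨σ (h * zY * h⁻¹) v - σ (zY ^ r) v, _⟩ : B) =
          ⟨σ (h * zY * h⁻¹) v, hAB.inv_high _ v hv⟩ - ⟨σ (zY ^ r) v, hAB.inv_high _ v hv⟩ from rfl,
          map_sub, key _ v hv, key _ v hv, hhr, sub_self]
  have hfix : ∀ A B, Covers (fun y => σ y) A B → ∀ v ∈ B, σ (c * c) v - v ∈ A := by
    intro A B hAB v hv
    rcases hcases A B hAB with h | ⟨h, -, -⟩
    · exact h _ v hv
    · have h1 := sub_mem (h _ (hAB.inv_high c v hv)) (h v hv)
      rw [map_mul, Module.End.mul_apply]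
      convert h1 using 1
      abel
  haveI : Nontrivial V := by
    by_contra hns
    rw [not_nontrivial_iff_subsingleton] at hns
    have h1 : z = 1 := hρ (LinearMap.ext fun v => Subsingleton.elim _ _)
    rw [h1, orderOf_one] at hzp
    exact hpp.one_lt.ne hzp
  haveI : CharP (Module.End (ZMod p) V) p :=
    charP_of_injective_algebraMap (algebraMap (ZMod p) _).injective p
  -- unipotent elements act with `p`-power order
  have hpower : ∀ (W : Submodule (ZMod p) V) (x : Y) (n : ℕ), (∀ v ∈ W, ((σ x - 1) ^ n) v = 0) →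
      ∀ v ∈ W, σ (x ^ p ^ n) v = v := by
    intro W x n hn v hv
    have h1 : ((σ x - 1) ^ p ^ n) v = 0 := by
      have h2 := hn v hv
      rw [← Nat.sub_add_cancel (Nat.lt_pow_self hpp.one_lt).le (m := n), pow_add, Module.End.mul_apply,
        h2, map_zero]
    rwa [sub_pow_char_pow_of_commute p n (Commute.one_right _), one_pow,
      LinearMap.sub_apply, Module.End.one_apply, sub_eq_zero, ← map_pow] at h1
  have hc2 : σ c * σ c = 1 := by
    obtain ⟨n, hn⟩ := covers_induction (fun y => σ y)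
      (fun W => ∃ n : ℕ, ∀ v ∈ W, ((σ (c * c) - 1) ^ n) v = 0)
      ⊤ (fun _ _ _ => trivial) ⟨0, fun v hv => by simpa using hv⟩
      (fun A B _ hAB ⟨n, hn⟩ => ⟨n + 1, fun v hv => by
        rw [pow_succ, Module.End.mul_apply, LinearMap.sub_apply, Module.End.one_apply]
        exact hn _ (hfix A B hAB v hv)⟩)
    have h1 : (c * c) ^ p ^ n = 1 := hσ (LinearMap.ext fun v => by
      rw [map_one, Module.End.one_apply]; exact hpower ⊤ (c * c) n hn v trivial)
    have h2 : c * c = 1 := by
      rw [← pow_two, ← pow_mul] at h1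
      have hdvd := orderOf_dvd_of_pow_eq_one h1
      have hcop : (orderOf c).Coprime (p ^ n) :=
        Nat.Coprime.pow_right _ (((Nat.Prime.coprime_iff_not_dvd hpp).2 hcord).symm)
      rw [← pow_two]
      exact orderOf_dvd_iff_pow_eq_one.1 (hcop.dvd_of_dvd_mul_right hdvd)
    rw [← map_mul, h2, map_one]
  have h2 : (2 : ZMod p) ≠ 0 := by
    intro h
    have h2' : ((2 : ℕ) : ZMod p) = 0 := by exact_mod_cast h
    rw [ZMod.natCast_eq_zero_iff] at h2'
    have := Nat.le_of_dvd (by norm_num) h2'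
    omega
  have hcY : ∀ (y : Y) (v : V), σ c (σ y v) = σ y (σ c v) := fun y v =>
    LinearMap.congr_fun ((hccent y).map σ).eq v
  set Vp := LinearMap.ker (σ c - 1) with hVp
  set Vm := LinearMap.ker (σ c + 1) with hVm
  have hmemp : ∀ v, v ∈ Vp ↔ σ c v = v := fun v => by simp [Vp, sub_eq_zero]
  have hmemm : ∀ v, v ∈ Vm ↔ σ c v = -v := fun v => by simp [Vm, add_eq_zero_iff_eq_neg]
  have hVpinv : ∀ y : Y, ∀ v ∈ Vp, σ y v ∈ Vp := fun y v hv => by
    rw [hmemp, hcY, (hmemp v).1 hv]
  have hVminv : ∀ y : Y, ∀ v ∈ Vm, σ y v ∈ Vm := fun y v hv => by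
    rw [hmemm, hcY, (hmemm v).1 hv, map_neg]
  -- `Y` is unipotent on `Vp`
  have hunip : ∀ y : Y, ∃ n : ℕ, ∀ v ∈ Vp, ((σ y - 1) ^ n) v = 0 := fun y =>
    covers_induction (fun y => σ y) (fun W => ∃ n : ℕ, ∀ v ∈ W, ((σ y - 1) ^ n) v = 0)
      Vp hVpinv ⟨0, fun v hv => by simpa using hv⟩ (fun A B hBW hAB ⟨n, hn⟩ => by
        rcases hcases A B hAB with h | ⟨h, -, -⟩
        · refine ⟨n + 1, fun v hv => ?_⟩
          rw [pow_succ, Module.End.mul_apply, LinearMap.sub_apply, Module.End.one_apply]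
          exact hn _ (h y v hv)
        · exfalso
          refine hAB.lt.not_ge fun v hv => ?_
          have h1 := h v hv
          rw [(hmemp v).1 (hBW hv), ← two_smul (ZMod p)] at h1
          exact (Submodule.smul_mem_iff _ h2).1 h1)
  -- `z` is trivial on `Vp`
  have hzVp : ∀ v ∈ Vp, σ zY v = v := by
    obtain ⟨h, r, hr, hhr⟩ := hτ0.exists_scaling
    have hk : τ0 ((h * zY * h⁻¹) * (zY ^ r)⁻¹) = 1 := by
      rw [map_mul, hhr, ← map_mul, mul_inv_cancel, map_one]
    set k := (h * zY * h⁻¹) * (zY ^ r)⁻¹ with hkdef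
    have hkord := (hZ τ0 hτ0 k (Or.inl hk)).2
    have hktriv : ∀ v ∈ Vp, σ k v = v := by
      obtain ⟨n, hn⟩ := hunip k
      have h1 := hpower Vp k n hn
      intro v hv
      obtain ⟨b, hb⟩ := exists_pow_eq_self_of_coprime (x := k) (n := p ^ n)
        (Nat.Coprime.pow_left _ ((Nat.Prime.coprime_iff_not_dvd hpp).2 hkord))
      rw [← hb]
      clear hb
      induction b with
      | zero => simp
      | succ b ihb => rw [pow_succ, map_mul, Module.End.mul_apply, h1 v hv, ihb]
    have hrel : ∀ v ∈ Vp, σ (h * zY * h⁻¹) v = σ (zY ^ r) v := by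
      intro v hv
      rw [show h * zY * h⁻¹ = k * zY ^ r by rw [hkdef, inv_mul_cancel_right], map_mul, Module.End.mul_apply,
        hktriv _ (hVpinv _ v hv)]
    have hpowrel : ∀ (i : ℕ), ∀ v ∈ Vp, σ (h * zY ^ i * h⁻¹) v = σ (zY ^ (r * i)) v := by
      intro i
      induction i with
      | zero => simp
      | succ i ih =>
        intro v hv
        rw [pow_succ, show h * (zY ^ i * zY) * h⁻¹ = (h * zY ^ i * h⁻¹) * (h * zY * h⁻¹) by group,
          map_mul, Module.End.mul_apply, hrel v hv, ih _ (hVpinv _ v hv), ← Module.End.mul_apply, ← map_mul,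
          ← pow_add, Nat.mul_succ]
    have hiter : ∀ (j : ℕ), ∀ v ∈ Vp, σ (h ^ j * zY * (h ^ j)⁻¹) v = σ (zY ^ r ^ j) v := by
      intro j
      induction j with
      | zero => simp
      | succ j ih =>
        intro v hv
        have e1 : h ^ (j + 1) * zY * (h ^ (j + 1))⁻¹ = h * (h ^ j * zY * (h ^ j)⁻¹) * h⁻¹ := by
          rw [pow_succ']; group
        rw [e1, map_mul, map_mul, Module.End.mul_apply, Module.End.mul_apply, ih _ (hVpinv _ v hv),
          ← Module.End.mul_apply, ← Module.End.mul_apply, ← map_mul, ← map_mul, pow_succ', hpowrel _ v hv]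
    obtain ⟨n, hn⟩ := hunip h
    intro v hv
    have h3 := hiter (p ^ n) v hv
    have h4 : ∀ u ∈ Vp, σ ((h ^ p ^ n)⁻¹) u = u := by
      intro u hu
      have := hpower Vp h n hn u hu
      conv_lhs => rw [← this]
      rw [← Module.End.mul_apply, ← map_mul, inv_mul_cancel, map_one, Module.End.one_apply]
    rw [map_mul, map_mul, Module.End.mul_apply, Module.End.mul_apply, h4 v hv,
      hpower Vp h n hn _ (hVpinv _ v hv)] at h3
    -- `h3 : σ zY v = σ (zY ^ r ^ (p ^ n)) v`
    have hzp' : zY ^ p = 1 := Subtype.ext (by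
      rw [Subgroup.coe_pow, Subgroup.coe_one, ← hzp]; exact pow_orderOf_eq_one z)
    have hmod : (((r ^ p ^ n : ℕ)) : ZMod p) = (r : ZMod p) := by
      push_cast
      exact ZMod.pow_card_pow _
    have hpowr : zY ^ r ^ p ^ n = zY ^ (r % p) := by
      rw [← pow_eq_pow_mod r hzp', pow_eq_pow_mod (r ^ p ^ n) hzp',
        (ZMod.natCast_eq_natCast_iff' _ _ p).1 hmod, ← pow_eq_pow_mod r hzp']
    rw [hpowr, ← pow_eq_pow_mod r hzp'] at h3
    -- `σ zY ^ (r - 1)` fixes `v`
    have hzpow : ∀ i : ℕ, σ (zY ^ i) v = v + (i : ZMod p) • (σ zY v - v) := by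
      intro i
      rw [map_pow, CfsgLib.GlaubermanZJ.pow_eq_of_sq_eq_zero hzq, LinearMap.add_apply,
        Module.End.one_apply, ← Nat.cast_smul_eq_nsmul (ZMod p), LinearMap.smul_apply, LinearMap.sub_apply,
        Module.End.one_apply]
    rw [hzpow r, ← sub_eq_iff_eq_add'] at h3
    have h5 : ((r : ZMod p) - 1) • (σ zY v - v) = 0 := by
      rw [sub_smul, one_smul, ← h3, sub_self]
    exact sub_eq_zero.1 ((smul_eq_zero.1 h5).resolve_left (sub_ne_zero.2 hr))
  -- the kernel on `Vm`
  have hkerm : ∀ v ∈ Vm, σ zY v = v → ∃ u ∈ Vm, σ zY u - u = v := by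
    refine covers_induction (fun y => σ y) (fun W => ∀ v ∈ W, σ zY v = v → ∃ u ∈ W, σ zY u - u = v)
      Vm hVminv (fun v hv _ => ⟨0, zero_mem _, by rw [Submodule.mem_bot] at hv; simp [hv]⟩) ?_
    intro A B hBW hAB ih v hv hfixv
    rcases hcases A B hAB with h | ⟨-, h, -⟩
    · exfalso
      refine hAB.lt.not_ge fun u hu => ?_
      have h1 := h c u hu
      rw [(hmemm u).1 (hBW hu), ← neg_add', neg_mem_iff, ← two_smul (ZMod p)] at h1
      exact (Submodule.smul_mem_iff _ h2).1 h1
    · obtain ⟨u, hu, hua⟩ := h v hv (by rw [hfixv, sub_self]; exact zero_mem _)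
      have hfix2 : σ zY (v - (σ zY u - u)) = v - (σ zY u - u) := by
        have h0 := LinearMap.congr_fun hzq u
        simp only [Module.End.mul_apply, LinearMap.sub_apply, Module.End.one_apply, LinearMap.zero_apply] at h0
        rw [sub_eq_zero] at h0
        rw [map_sub, hfixv, h0]
      obtain ⟨u', hu', he⟩ := ih _ hua hfix2
      refine ⟨u + u', add_mem hu (hAB.lt.le hu'), ?_⟩
      rw [map_add, add_sub_add_comm, he]
      abel
  -- the conclusion
  have hsplit : ∀ v : V, ∃ v1 ∈ Vp, ∃ v2 ∈ Vm, v1 + v2 = v := by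
    intro v
    have hcc : σ c (σ c v) = v := LinearMap.congr_fun hc2 v
    refine ⟨(2 : ZMod p)⁻¹ • (v + σ c v), ?_, (2 : ZMod p)⁻¹ • (v - σ c v), ?_, ?_⟩
    · rw [hmemp, map_smul, map_add, hcc, add_comm]
    · rw [hmemm, map_smul, map_sub, hcc, ← smul_neg, neg_sub]
    · rw [← smul_add, show v + σ c v + (v - σ c v) = (2 : ZMod p) • v by rw [two_smul]; abel,
        smul_smul, inv_mul_cancel₀ h2, one_smul]
  have hrange : ∀ v ∈ LinearMap.range (ρ z - 1), v ∈ Vm := by
    rintro _ ⟨u, rfl⟩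
    obtain ⟨u1, hu1, u2, hu2, rfl⟩ := hsplit u
    show σ zY (u1 + u2) - (u1 + u2) ∈ Vm
    rw [map_add, hzVp u1 hu1, show u1 + σ zY u2 - (u1 + u2) = σ zY u2 - u2 by abel]
    exact sub_mem (hVminv _ _ hu2) hu2
  refine ⟨(c : X), (hccent zY).map Y.subtype, fun v => ?_, fun v hv => ?_, fun v hv => ?_⟩
  · obtain ⟨v1, hv1, v2, hv2, rfl⟩ := hsplit v
    have e : ρ (c : X) (v1 + v2) + (v1 + v2) = v1 + v1 := by
      show σ c (v1 + v2) + (v1 + v2) = _
      rw [map_add, (hmemp v1).1 hv1, (hmemm v2).1 hv2]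
      abel
    rw [e, LinearMap.mem_ker, LinearMap.sub_apply, Module.End.one_apply, map_add,
      show ρ z v1 = v1 from hzVp v1 hv1, sub_self]
  · obtain ⟨v1, hv1, v2, hv2, rfl⟩ := hsplit v
    have hv2' : σ zY v2 = v2 := by
      have h1 : σ zY (v1 + v2) - (v1 + v2) = 0 := hv
      rw [map_add, hzVp v1 hv1] at h1
      rw [← sub_eq_zero, ← h1]
      abel
    obtain ⟨u, -, hu⟩ := hkerm v2 hv2 hv2'
    refine ⟨-(2 : ZMod p) • u, ?_⟩
    show σ zY (-(2 : ZMod p) • u) - -(2 : ZMod p) • u = σ c (v1 + v2) - (v1 + v2)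
    rw [map_smul, ← smul_sub, hu, map_add, (hmemp v1).1 hv1, (hmemm v2).1 hv2, neg_smul, two_smul]
    abel
  · exact (hmemm v).1 (hrange v hv)

end CfsgLib.RegUnip
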