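import Cfsg.Agent.RegUnip.Flag
import Cfsg.Agent.RegUnip.Pair

/-!
A quadratic central element of a Sylow `p`-subgroup containing a regular unipotent element.
-/

set_option autoImplicit false

namespace CfsgLib.RegUnip

open scoped commutatorElement

universe v

variable {p : ℕ} [Fact p.Prime] {X : Type*} [Group X] [Finite X] {V : Type v} [AddCommGroup V]
  [Module (ZMod p) V] [Finite V]

/-- The range and the kernel of an element of degree `k`. -/
theorem range_ker_lead {N : Module.End (ZMod p) V} {d k : ℕ} (h : Regular N d) (hk : k ≤ d)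
    {c : ZMod p} (hc : c ≠ 0) {U : Module.End (ZMod p) V} (hU : Commute U N) :
    LinearMap.range (c • N ^ k * (1 + N * U)) = flag N k ∧
      LinearMap.ker (c • N ^ k * (1 + N * U)) = flag N (d - k) := by
  have hnil : IsNilpotent (N * U) := hU.symm.isNilpotent_mul_right ⟨d, h.pow_eq⟩
  obtain ⟨E, hE⟩ := hnil.isUnit_one_add
  have hEN : Commute (E : Module.End (ZMod p) V) N := by
    rw [hE]; exact (Commute.one_left N).add_left ((Commute.refl N).mul_left hU)
  have hE' : Commute (↑E⁻¹ : Module.End (ZMod p) V) N := hEN.units_inv_left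
  rw [← hE]
  constructor
  · refine le_antisymm ?_ ?_
    · rintro _ ⟨v, rfl⟩
      exact ⟨c • (E : Module.End (ZMod p) V) v, by simp⟩
    · rintro _ ⟨v, rfl⟩
      refine ⟨(↑E⁻¹ : Module.End (ZMod p) V) (c⁻¹ • v), ?_⟩
      rw [← Module.End.mul_apply, mul_assoc, Units.mul_inv, mul_one, LinearMap.smul_apply, map_smul,
        smul_smul, mul_inv_cancel₀ hc, one_smul]
  · have hker : ∀ v, (N ^ k) v = 0 ↔ v ∈ flag N (d - k) := by
      intro v
      constructor
      · intro hv
        have hU' : ∀ w ∈ LinearMap.ker (N ^ k), N w ∈ LinearMap.ker (N ^ k) := fun w hw => by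
          rw [LinearMap.mem_ker] at hw ⊢
          rw [← Module.End.mul_apply, (Commute.pow_self N k).eq, Module.End.mul_apply, hw, map_zero]
        obtain ⟨l, hl, hle⟩ := h.exists_eq_flag hU'
        have hge : d - k ≤ l := by
          by_contra hlt
          have h1 : h.basis ⟨l, by omega⟩ ∈ LinearMap.ker (N ^ k) := by
            rw [hle, h.basis_apply]; exact ⟨h.gen, rfl⟩
          rw [LinearMap.mem_ker, h.pow_apply_basis, dif_pos (by simp only; omega)] at h1
          exact h.basis.ne_zero _ h1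
        exact flag_anti N hge (hle ▸ LinearMap.mem_ker.2 hv)
      · intro hv
        have h1 := pow_apply_mem_flag N (a := k) hv
        rwa [h.flag_eq_bot (by omega), Submodule.mem_bot] at h1
    refine le_antisymm ?_ ?_
    · intro v hv
      rw [LinearMap.mem_ker, Module.End.mul_apply, LinearMap.smul_apply, smul_eq_zero] at hv
      have h1 := (hker _).1 (hv.resolve_left hc)
      obtain ⟨w, hw⟩ := h1
      refine ⟨(↑E⁻¹ : Module.End (ZMod p) V) w, ?_⟩
      rw [← Module.End.mul_apply, ← (hE'.pow_right _).eq, Module.End.mul_apply, hw,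
        ← Module.End.mul_apply, Units.inv_mul, Module.End.one_apply]
    · rintro _ ⟨w, rfl⟩
      rw [LinearMap.mem_ker, Module.End.mul_apply, LinearMap.smul_apply, smul_eq_zero]
      refine Or.inr ((hker _).2 ⟨(E : Module.End (ZMod p) V) w, ?_⟩)
      rw [← Module.End.mul_apply, ← (hEN.pow_right _).eq, Module.End.mul_apply]

/-- In dimension `3` a nonabelian `p`-group of degree one contains every transvection of centre
`flag 2`. -/
theorem exists_transvection {N : Module.End (ZMod p) V} (h : Regular N 3) (ρ : X →* Module.End (ZMod p) V)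
    (hρ : Function.Injective ρ) (T : Subgroup X) (hT : ∀ t ∈ T, ρ t - 1 ∈ fil N 1) {u z w : X}
    (huT : u ∈ T) (hu : ρ u - 1 = N) (hzT : z ∈ T) {c : ZMod p} (hc : c ≠ 0)
    (hzc : ρ z - 1 = c • N ^ 2) (hwT : w ∈ T) (hw : ¬ Commute w u)
    (f : V →ₗ[ZMod p] ZMod p) (hf : f (h.basis 2) = 0) :
    ∃ t ∈ T, ρ t = 1 + f.smulRight (h.basis 2) := by
  have h0' : ∀ v, v ∈ flag N 0 := fun v => by rw [flag_zero]; trivial
  have hb : ∀ j : Fin 3, h.basis j ∈ flag N (j : ℕ) := fun j => ⟨h.gen, (h.basis_apply j).symm⟩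
  have hd3 : ∀ {l : ℕ}, 3 ≤ l → flag N l = ⊥ := fun hl => h.flag_eq_bot hl
  have hline : ∀ v ∈ flag N 2, ∃ a : ZMod p, v = a • h.basis 2 := by
    intro v hv
    refine ⟨h.basis.repr v 2, ?_⟩
    conv_lhs => rw [← h.basis.sum_repr v]
    rw [Fin.sum_univ_three, h.mem_flag.1 hv 0 (by simp), h.mem_flag.1 hv 1 (by simp)]
    simp
  have hN0 : N (h.basis 0) = h.basis 1 := by
    have := h.pow_apply_basis 1 0
    rw [pow_one, dif_pos (by simp)] at this
    exact this.trans (congrArg h.basis (Fin.ext (by simp)))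
  have hN1 : N (h.basis 1) = h.basis 2 := by
    have := h.pow_apply_basis 1 1
    rw [pow_one, dif_pos (by simp)] at this
    exact this.trans (congrArg h.basis (Fin.ext (by simp)))
  have hN2 : N (h.basis 2) = 0 := by
    have := h.pow_apply_basis 1 2
    rwa [pow_one, dif_neg (by simp)] at this
  -- the coordinates of an element of degree one
  have hcoord : ∀ A ∈ fil N 1, ∃ a a' b : ZMod p, A (h.basis 0) = a • h.basis 1 + a' • h.basis 2 ∧
      A (h.basis 1) = b • h.basis 2 ∧ A (h.basis 2) = 0 := by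
    intro A hA
    obtain ⟨b, hb1⟩ := hline _ (by simpa using hA 1 _ (hb 1))
    have h2 : A (h.basis 2) = 0 := by
      have := hA 2 _ (hb 2)
      rw [hd3 (by simp)] at this
      simpa using this
    refine ⟨h.basis.repr (A (h.basis 0)) 1, h.basis.repr (A (h.basis 0)) 2, b, ?_, hb1, h2⟩
    conv_lhs => rw [← h.basis.sum_repr (A (h.basis 0))]
    rw [Fin.sum_univ_three, h.mem_flag.1 (by simpa using hA 0 _ (h0' (h.basis 0))) 0 (by simp), zero_smul,
      zero_add]
  obtain ⟨a, a', b, hw0, hw1, hw2⟩ := hcoord _ (hT w hwT)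
  have hab : a ≠ b := by
    intro hab
    refine hw (hρ ?_)
    have hA : ρ w - 1 = a • N + a' • N ^ 2 := by
      refine h.basis.ext fun j => ?_
      fin_cases j
      · show (ρ w - 1) (h.basis 0) = (a • N + a' • N ^ 2) (h.basis 0)
        rw [hw0, LinearMap.add_apply, LinearMap.smul_apply, LinearMap.smul_apply, pow_two,
          Module.End.mul_apply, hN0, hN1]
      · show (ρ w - 1) (h.basis 1) = (a • N + a' • N ^ 2) (h.basis 1)
        rw [hw1, LinearMap.add_apply, LinearMap.smul_apply, LinearMap.smul_apply, pow_two,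
          Module.End.mul_apply, hN1, hN2, smul_zero, add_zero, hab]
      · show (ρ w - 1) (h.basis 2) = (a • N + a' • N ^ 2) (h.basis 2)
        rw [hw2, LinearMap.add_apply, LinearMap.smul_apply, LinearMap.smul_apply, pow_two,
          Module.End.mul_apply, hN2, map_zero, smul_zero, smul_zero, add_zero]
    rw [map_mul, map_mul, sub_eq_iff_eq_add.1 hA, sub_eq_iff_eq_add.1 hu]
    refine (((Commute.refl N).smul_left a).add_left ((Commute.pow_self N 2).smul_left a')).add_left
      (Commute.one_left N) |>.add_right (Commute.one_right _) |>.eq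
  -- kill the first coordinate
  set n := (-a).val
  have hn : (n : ZMod p) = -a := ZMod.natCast_zmod_val _
  have hfil2 : ∀ A ∈ fil N 2, A (h.basis 1) = 0 ∧ A (h.basis 0) ∈ flag N 2 := fun A hA => by
    refine ⟨?_, by simpa using hA 0 _ (h0' (h.basis 0))⟩
    have := hA 1 _ (hb 1)
    rwa [hd3 (by simp), Submodule.mem_bot] at this
  have hprod : ∀ {A B : Module.End (ZMod p) V}, A ∈ fil N 1 → B ∈ fil N 1 → A * B ∈ fil N 2 :=
    fun hA hB => fil_anti (by norm_num) (mul_mem_fil hA hB)
  have hun : ∀ m : ℕ, ρ (u ^ m) - 1 - (m : ZMod p) • N ∈ fil N 2 := by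
    intro m
    induction m with
    | zero => simp
    | succ m ih =>
      have : ρ (u ^ (m + 1)) - 1 - ((m + 1 : ℕ) : ZMod p) • N =
          (ρ (u ^ m) - 1 - (m : ZMod p) • N) + (ρ (u ^ m) - 1) * N := by
        rw [pow_succ, map_mul, sub_eq_iff_eq_add.1 hu, Nat.cast_succ, add_smul, one_smul, mul_add, mul_one,
          sub_mul, one_mul]
        abel
      rw [this]
      exact add_mem ih (hprod (hT _ (pow_mem huT m)) (by simpa using pow_self_mem_fil N 1))
  set t0 := u ^ n * w
  have ht0 : t0 ∈ T := mul_mem (pow_mem huT n) hwT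
  set A0 := ρ t0 - 1 with hA0
  have hA0eq : A0 = (ρ (u ^ n) - 1 - (n : ZMod p) • N + (ρ (u ^ n) - 1) * (ρ w - 1)) +
      ((n : ZMod p) • N + (ρ w - 1)) := by
    rw [hA0, map_mul, sub_mul, mul_sub, mul_one, one_mul]
    abel
  obtain ⟨hR1, hR0⟩ := hfil2 _ (add_mem (hun n) (hprod (hT _ (pow_mem huT n)) (hT w hwT)))
  obtain ⟨q0, hq0⟩ := hline _ hR0
  have hA00 : A0 (h.basis 0) = (q0 + a') • h.basis 2 := by
    rw [hA0eq, LinearMap.add_apply, hq0, LinearMap.add_apply, LinearMap.smul_apply, hN0, hw0, hn,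
      neg_smul, neg_add_cancel_left, add_smul]
  have hA01 : A0 (h.basis 1) = (b - a) • h.basis 2 := by
    rw [hA0eq, LinearMap.add_apply, hR1, zero_add, LinearMap.add_apply, LinearMap.smul_apply, hN1, hw1,
      hn, ← add_smul, neg_add_eq_sub]
  have hA02 : A0 (h.basis 2) = 0 := by
    have := hT t0 ht0 2 _ (hb 2)
    rw [hd3 (by simp)] at this
    simpa [A0] using this
  set A1 := ρ z - 1 with hA1
  have hA10 : A1 (h.basis 0) = c • h.basis 2 := by
    rw [hzc, LinearMap.smul_apply, pow_two, Module.End.mul_apply, hN0, hN1]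
  have hA11 : A1 (h.basis 1) = 0 := by
    rw [hzc, LinearMap.smul_apply, pow_two, Module.End.mul_apply, hN1, hN2, smul_zero]
  have hA12 : A1 (h.basis 2) = 0 := by
    rw [hzc, LinearMap.smul_apply, pow_two, Module.End.mul_apply, hN2, map_zero, smul_zero]
  have h00 : A0 * A0 = 0 := h.basis.ext fun j => by
    fin_cases j <;> simp [Module.End.mul_apply, hA00, hA01, hA02]
  have h11 : A1 * A1 = 0 := h.basis.ext fun j => by
    fin_cases j <;> simp [Module.End.mul_apply, hA10, hA11, hA12]
  have h01 : A0 * A1 = 0 := h.basis.ext fun j => by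
    fin_cases j <;> simp [Module.End.mul_apply, hA10, hA11, hA12, hA02]
  have hpow : ∀ (t : X) (A : Module.End (ZMod p) V), ρ t = 1 + A → A * A = 0 → ∀ m : ℕ,
      ρ (t ^ m) = 1 + (m : ZMod p) • A := by
    intro t A htA hAA m
    induction m with
    | zero => simp
    | succ m ih =>
      rw [pow_succ, map_mul, ih, htA, Nat.cast_succ, add_smul, one_smul, mul_add, mul_one, add_mul,
        one_mul, smul_mul_assoc, hAA, smul_zero]
      abel
  set x := f (h.basis 1) / (b - a)
  set y := (f (h.basis 0) - x * (q0 + a')) / c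
  refine ⟨t0 ^ x.val * z ^ y.val, mul_mem (pow_mem ht0 _) (pow_mem hzT _), ?_⟩
  rw [map_mul, hpow t0 A0 (by rw [hA0]; abel) h00, hpow z A1 (by rw [hA1]; abel) h11,
    ZMod.natCast_zmod_val, ZMod.natCast_zmod_val, mul_add, mul_one, add_mul, one_mul, smul_mul_smul_comm,
    h01, smul_zero, add_zero, add_assoc]
  congr 1
  refine h.basis.ext fun j => ?_
  fin_cases j
  · simp only [Fin.zero_eta, LinearMap.add_apply, LinearMap.smul_apply, LinearMap.smulRight_apply, hA00, hA10,
      smul_smul, ← add_smul]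
    congr 1
    simp only [y]
    field_simp
    ring
  · simp only [Fin.mk_one, LinearMap.add_apply, LinearMap.smul_apply, LinearMap.smulRight_apply, hA01, hA11,
      smul_zero, add_zero, smul_smul]
    congr 1
    simp only [x]
    rw [div_mul_cancel₀ _ (sub_ne_zero.2 (Ne.symm hab))]
  · show (x • A0 + y • A1) (h.basis 2) = f.smulRight (h.basis 2) (h.basis 2)
    simp [hA02, hA12, hf]

/-- A strongly `p`-embedded subgroup containing a Sylow group of dimension `3` is everything. -/
theorem false_of_three {N : Module.End (ZMod p) V} (h : Regular N 3) (ρ : X →* Module.End (ZMod p) V)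
    (hρ : Function.Injective ρ) {M : Subgroup X} (hM : Cfsg.IsStronglyPEmbedded p M) (T : Subgroup X)
    (hTM : T ≤ M) (hTp : IsPGroup p T)
    (htrans : ∀ f : V →ₗ[ZMod p] ZMod p, f (h.basis 2) = 0 →
      ∃ t ∈ T, ρ t = 1 + f.smulRight (h.basis 2)) : False := by
  refine hM.2.1 ((Subgroup.eq_top_iff' M).2 fun g => ?_)
  have : FiniteDimensional (ZMod p) V := h.finiteDimensional
  set e := h.basis 2
  set W := Submodule.span (ZMod p) ({e, ρ g e} : Set V) with hW
  have hlt : W < ⊤ := lt_top_iff_ne_top.2 fun htop => by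
    classical
    have h1 := finrank_span_le_card (R := ZMod p) ({e, ρ g e} : Set V)
    rw [← hW, htop, finrank_top, h.finrank_eq, Set.toFinset_insert, Set.toFinset_singleton] at h1
    exact absurd (h1.trans (Finset.card_le_two)) (by norm_num)
  obtain ⟨f, hf0, hfW⟩ := Submodule.exists_le_ker_of_lt_top W hlt
  have hfe : f e = 0 := LinearMap.mem_ker.1 (hfW (Submodule.subset_span (Set.mem_insert _ _)))
  have hfge : f (ρ g e) = 0 :=
    LinearMap.mem_ker.1 (hfW (Submodule.subset_span (Set.mem_insert_of_mem _ rfl)))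
  obtain ⟨t, ht, htf⟩ := htrans f hfe
  obtain ⟨t', ht', htf'⟩ := htrans (f.comp (ρ g)) hfge
  have hginv : ρ g * ρ g⁻¹ = 1 := by rw [← map_mul, mul_inv_cancel, map_one]
  have hconj : ρ (g * t' * g⁻¹) = 1 + f.smulRight (ρ g e) := by
    have h1 : ρ g * (f.comp (ρ g)).smulRight e * ρ g⁻¹ = f.smulRight (ρ g e) := by
      refine LinearMap.ext fun v => ?_
      have h2 := LinearMap.congr_fun hginv v
      rw [Module.End.mul_apply, Module.End.one_apply] at h2
      simp [Module.End.mul_apply, h2]
    rw [map_mul, map_mul, htf', mul_add, add_mul, mul_one, hginv, h1]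
  have hcomm : Commute t (g * t' * g⁻¹) := by
    refine hρ ?_
    rw [map_mul ρ t, map_mul ρ (g * t' * g⁻¹) t, htf, hconj]
    refine LinearMap.ext fun v => ?_
    simp [Module.End.mul_apply, hfe, hfge]
    abel
  have hne : ∀ (f' : V →ₗ[ZMod p] ZMod p) (s : X), f' ≠ 0 → ρ s = 1 + f'.smulRight e → s ≠ 1 := by
    rintro f' s hf' hs rfl
    rw [map_one, left_eq_add] at hs
    refine hf' (LinearMap.ext fun v => ?_)
    have := LinearMap.congr_fun hs v
    simpa [smul_eq_zero, h.basis.ne_zero 2, e] using this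
  have hord : ∀ s ∈ T, s ≠ 1 → ∃ m : ℕ, orderOf (s ^ m) = p := fun s hs hs1 => by
    obtain ⟨k, hk⟩ := hTp ⟨s, hs⟩
    have hk' : s ^ p ^ k = 1 := congrArg Subtype.val hk
    obtain ⟨j, hj, hjk⟩ := (Nat.dvd_prime_pow Fact.out).1 (orderOf_dvd_of_pow_eq_one hk')
    have hj0 : j ≠ 0 := fun h0 => hs1 (orderOf_eq_one_iff.1 (by rw [hjk, h0, pow_zero]))
    refine ⟨p ^ (j - 1), ?_⟩
    rw [orderOf_pow, hjk, Nat.gcd_eq_right (pow_dvd_pow p (Nat.sub_le j 1)),
      Nat.pow_div (Nat.sub_le j 1) (Fact.out : p.Prime).pos, show j - (j - 1) = 1 by omega, pow_one]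
  have ht1 := hne f t hf0 htf
  have ht'1 := hne _ t' (fun h0 => hf0 (LinearMap.ext fun v => by
    have h2 := LinearMap.congr_fun hginv v
    rw [Module.End.mul_apply, Module.End.one_apply] at h2
    have := LinearMap.congr_fun h0 (ρ g⁻¹ v)
    rwa [LinearMap.comp_apply, h2] at this)) htf'
  obtain ⟨m, hm⟩ := hord t ht ht1
  obtain ⟨m', hm'⟩ := hord t' ht' ht'1
  have hin : g * t' * g⁻¹ ∈ M :=
    CfsgLib.LocalCharP.centralizer_le hM (hTM (pow_mem ht m)) hm
      (Subgroup.mem_centralizer_singleton_iff.2 (hcomm.symm.pow_right m).eq)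
  refine CfsgLib.LocalCharP.mem_of_conj_mem hM (hTM (pow_mem ht' m')) hm' ?_
  rw [← conj_pow]
  exact pow_mem hin m'

/-- A central quadratic element in a Sylow subgroup of degree one with a constant leading coefficient
cannot exist in dimension at least `4`. -/
theorem false_of_quadratic (hp : 5 ≤ p) {N : Module.End (ZMod p) V} {d k : ℕ} (h : Regular N d)
    (hk : k < d) (hdk : d < 2 * k) (hd4 : 4 ≤ d)
    (ρ : X →* Module.End (ZMod p) V) (hρ : Function.Injective ρ) {M : Subgroup X}
    (hM : Cfsg.IsStronglyPEmbedded p M) (T : Sylow p X)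
    (hT : ∀ t ∈ (T : Subgroup X), ρ t - 1 ∈ fil N 1 ∧
      ∃ α : ZMod p, ∀ j, j + 2 < d → ∀ v ∈ flag N j, (ρ t - 1 - α • N) v ∈ flag N (j + 2))
    {u z : X} (huT : u ∈ (T : Subgroup X)) (hu : ρ u - 1 = N) (hzT : z ∈ (T : Subgroup X))
    (hzM : z ∈ M) (hzp : orderOf z = p) (hcent : ∀ t ∈ (T : Subgroup X), Commute t z)
    {c₀ : ZMod p} (hc₀ : c₀ ≠ 0) {U : Module.End (ZMod p) V} (hU : Commute U N)
    (hzlead : ρ z - 1 = c₀ • N ^ k * (1 + N * U)) : False := by
  obtain ⟨hran, hker⟩ := range_ker_lead h hk.le hc₀ hU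
  rw [← hzlead] at hran hker
  set m := d - k with hm
  have hquad : (ρ z - 1) * (ρ z - 1) = 0 := by
    refine LinearMap.ext fun v => ?_
    have : (ρ z - 1) v ∈ LinearMap.ker (ρ z - 1) := by
      rw [hker]
      exact flag_anti N (by omega) (hran ▸ LinearMap.mem_range_self _ v)
    exact LinearMap.mem_ker.1 this
  obtain ⟨c, hcz, hc1, hc2, hc3⟩ := exists_involution hp ρ hρ hM hzM hzp hquad
  rw [hker] at hc1 hc2
  rw [hran] at hc2 hc3
  have hinv : ∀ (x : X), Commute x z → ∀ v ∈ flag N m, ρ x v ∈ flag N m := by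
    intro x hx v hv
    rw [← hker, LinearMap.mem_ker, LinearMap.sub_apply, Module.End.one_apply] at hv ⊢
    rw [← Module.End.mul_apply, ← map_mul, hx.symm.eq, map_mul, Module.End.mul_apply, ← map_sub, hv,
      map_zero]
  have hinvk : ∀ (x : X), Commute x z → ∀ v ∈ flag N k, ρ x v ∈ flag N k := by
    intro x hx v hv
    rw [← hran] at hv ⊢
    obtain ⟨w, rfl⟩ := hv
    refine ⟨ρ x w, ?_⟩
    rw [LinearMap.sub_apply, LinearMap.sub_apply, Module.End.one_apply, Module.End.one_apply, map_sub,
      ← Module.End.mul_apply, ← map_mul, ← Module.End.mul_apply, ← map_mul, hx.eq]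
  have hmul : ∀ a b : X, ∀ v, ρ (a * b) v = ρ a (ρ b v) := fun a b v => by
    rw [map_mul, Module.End.mul_apply]
  have hcancel : ∀ (a : X) (v : V), ρ a⁻¹ (ρ a v) = v := fun a v => by
    rw [← hmul, inv_mul_cancel, map_one, Module.End.one_apply]
  -- the elements trivial on the three pieces
  let R : Subgroup X :=
    { carrier := {x | Commute x z ∧ (∀ v, ρ x v - v ∈ flag N m) ∧
        (∀ v ∈ flag N m, ρ x v - v ∈ flag N k) ∧ ∀ v ∈ flag N k, ρ x v = v}
      one_mem' := ⟨Commute.one_left _, by simp, by simp, by simp⟩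
      mul_mem' := by
        rintro a b ⟨ha0, ha1, ha2, ha3⟩ ⟨hb0, hb1, hb2, hb3⟩
        refine ⟨ha0.mul_left hb0, fun v => ?_, fun v hv => ?_, fun v hv => ?_⟩
        · rw [hmul]
          simpa using add_mem (ha1 (ρ b v)) (hb1 v)
        · rw [hmul]
          simpa using add_mem (ha2 _ (hinv b hb0 v hv)) (hb2 v hv)
        · rw [hmul, hb3 v hv, ha3 v hv]
      inv_mem' := by
        rintro a ⟨ha0, ha1, ha2, ha3⟩
        have hcan : ∀ v, ρ a (ρ a⁻¹ v) = v := fun v => by
          rw [← hmul, mul_inv_cancel, map_one, Module.End.one_apply]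
        refine ⟨ha0.inv_left, fun v => ?_, fun v hv => ?_, fun v hv => ?_⟩
        · have := neg_mem (ha1 (ρ a⁻¹ v))
          rwa [hcan, neg_sub] at this
        · have := neg_mem (ha2 _ (hinv _ ha0.inv_left v hv))
          rwa [hcan, neg_sub] at this
        · have := ha3 _ (hinvk _ ha0.inv_left v hv)
          rw [hcan] at this
          exact this.symm }
  have hRp : IsPGroup p R := by
    rintro ⟨x, hx0, hx1, hx2, hx3⟩
    refine ⟨2, Subtype.ext (hρ ?_)⟩
    haveI : Nontrivial V := ⟨⟨h.gen, 0, fun h0 => h.gen_spec (by rw [h0, map_zero])⟩⟩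
    haveI : CharP (Module.End (ZMod p) V) p :=
      charP_of_injective_algebraMap (algebraMap (ZMod p) _).injective p
    have h3 : (ρ x - 1) ^ 3 = 0 := by
      refine LinearMap.ext fun v => ?_
      rw [pow_succ, pow_two, Module.End.mul_apply, Module.End.mul_apply, LinearMap.zero_apply]
      simp only [LinearMap.sub_apply, Module.End.one_apply]
      rw [hx3 _ (hx2 _ (hx1 v)), sub_self]
    have hle : 3 ≤ p ^ 2 := by nlinarith
    have h4 : (ρ x - 1) ^ p ^ 2 = 0 := pow_eq_zero_of_le hle h3
    rw [sub_pow_char_pow_of_commute p 2 (Commute.one_right _), one_pow, sub_eq_zero] at h4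
    show ρ (x ^ p ^ 2) = ρ 1
    rw [map_pow, h4, map_one]
  have hRT : R ≤ (T : Subgroup X) := by
    have hnorm : (T : Subgroup X) ≤ Subgroup.normalizer (R : Set X) := by
      refine Subgroup.le_normalizer_iff.2 fun t ht x hx => ?_
      obtain ⟨hx0, hx1, hx2, hx3⟩ := hx
      have htc := hcent t ht
      have hcan : ∀ v, ρ t (ρ t⁻¹ v) = v := fun v => by
        rw [← hmul, mul_inv_cancel, map_one, Module.End.one_apply]
      refine ⟨(htc.mul_left hx0).mul_left htc.inv_left, fun v => ?_, fun v hv => ?_, fun v hv => ?_⟩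
      · rw [hmul, hmul]
        have := hinv t htc _ (hx1 (ρ t⁻¹ v))
        rwa [map_sub, hcan] at this
      · rw [hmul, hmul]
        have := hinvk t htc _ (hx2 _ (hinv _ htc.inv_left v hv))
        rwa [map_sub, hcan] at this
      · rw [hmul, hmul, hx3 _ (hinvk _ htc.inv_left v hv), hcan]
    have := T.is_maximal' (T.isPGroup'.to_sup_of_normal_right' hRp hnorm) le_sup_left
    rw [← this]
    exact le_sup_right
  -- the involution normalizes `T`
  have hcT : ∀ t ∈ (T : Subgroup X), c * t * c⁻¹ ∈ (T : Subgroup X) := by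
    intro t ht
    have hmem : c * t * c⁻¹ * t⁻¹ ∈ R := by
      have htc := hcent t ht
      have hcan : ∀ (a : X) v, ρ a (ρ a⁻¹ v) = v := fun a v => by
        rw [← hmul, mul_inv_cancel, map_one, Module.End.one_apply]
      refine ⟨((hcz.mul_left htc).mul_left hcz.inv_left).mul_left htc.inv_left, fun v => ?_,
        fun v hv => ?_, fun v hv => ?_⟩
      · rw [hmul, hmul, hmul]
        set w := ρ c⁻¹ (ρ t⁻¹ v) with hw
        have e1 : ρ c w = ρ t⁻¹ v := hcan c _
        have a1 : ρ t w + v ∈ flag N m := by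
          have := hinv t htc _ (hc1 w)
          rw [map_add, e1, hcan] at this
          rwa [add_comm] at this
        convert sub_mem (hc1 (ρ t w)) a1 using 1
        abel
      · rw [hmul, hmul, hmul]
        set w := ρ c⁻¹ (ρ t⁻¹ v) with hw
        have hwm : w ∈ flag N m := hinv _ hcz.inv_left _ (hinv _ htc.inv_left v hv)
        have e1 : ρ c w = ρ t⁻¹ v := hcan c _
        have a1 : v - ρ t w ∈ flag N k := by
          have := hinvk t htc _ (hc2 w hwm)
          rwa [map_sub, e1, hcan] at this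
        convert sub_mem (hc2 (ρ t w) (hinv t htc w hwm)) a1 using 1
        abel
      · rw [hmul, hmul, hmul]
        set w := ρ c⁻¹ (ρ t⁻¹ v) with hw
        have hwk : w ∈ flag N k := hinvk _ hcz.inv_left _ (hinvk _ htc.inv_left v hv)
        have e1 : ρ c w = ρ t⁻¹ v := hcan c _
        rw [hc3 w hwk] at e1
        have e2 : ρ t w = -v := by rw [← neg_neg w, e1, map_neg, hcan]
        rw [hc3 _ (hinvk t htc w hwk), e2, neg_neg]
    have := mul_mem (hRT hmem) ht
    rwa [inv_mul_cancel_right] at this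
  obtain ⟨hA1, α, hα⟩ := hT _ (hcT u huT)
  set A := ρ (c * u * c⁻¹) - 1 with hA
  have hAc : ∀ v, A (ρ c v) = ρ c (N v) := by
    intro v
    rw [hA, LinearMap.sub_apply, Module.End.one_apply, hmul, hmul, hcancel, ← hu, LinearMap.sub_apply,
      Module.End.one_apply, map_sub]
  have hsign : ∀ j : ℕ, j < d → ∀ v ∈ flag N j,
      ρ c v - (if m ≤ j ∧ j < k then (1 : ZMod p) else -1) • v ∈ flag N (j + 1) := by
    intro j hj v hv
    by_cases h1 : j < m
    · rw [if_neg (by omega), neg_one_smul, sub_neg_eq_add]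
      exact flag_anti N (by omega) (hc1 v)
    · by_cases h2 : j < k
      · rw [if_pos (by omega), one_smul]
        exact flag_anti N (by omega) (hc2 v (flag_anti N (by omega) hv))
      · rw [if_neg (by omega), neg_one_smul, hc3 v (flag_anti N (by omega) hv), sub_self]
        exact zero_mem _
  have hrel : ∀ j : ℕ, j + 2 < d →
      (if m ≤ j ∧ j < k then (1 : ZMod p) else -1) * α =
        (if m ≤ j + 1 ∧ j + 1 < k then (1 : ZMod p) else -1) := by
    intro j hj
    set s := (if m ≤ j ∧ j < k then (1 : ZMod p) else -1)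
    set s' := (if m ≤ j + 1 ∧ j + 1 < k then (1 : ZMod p) else -1)
    set e := h.basis ⟨j, by omega⟩ with he
    have hej : e ∈ flag N j := ⟨h.gen, (h.basis_apply ⟨j, _⟩).symm⟩
    have hNe : N e = h.basis ⟨j + 1, by omega⟩ := by
      have := h.pow_apply_basis 1 ⟨j, by omega⟩
      rw [pow_one, dif_pos (by simp only; omega)] at this
      exact this.trans (congrArg h.basis (Fin.ext (by simp only; omega)))
    have hNej : N e ∈ flag N (j + 1) := by rw [hNe]; exact ⟨h.gen, (h.basis_apply ⟨j + 1, _⟩).symm⟩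
    have b1 : A (ρ c e - s • e) ∈ flag N (j + 2) := by
      have := hA1 (j + 1) _ (hsign j (by omega) e hej)
      exact flag_anti N (by omega) this
    have b2 := Submodule.smul_mem _ s (hα j hj e hej)
    have b3 := hsign (j + 1) (by omega) _ hNej
    have key : (s * α - s') • N e ∈ flag N (j + 2) := by
      convert sub_mem b3 (add_mem b1 b2) using 1
      rw [map_sub, map_smul, hAc, show (A - α • N) e = A e - α • N e from rfl, sub_smul, ← smul_smul,
        smul_sub]
      abel
    by_contra hne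
    rw [Submodule.smul_mem_iff _ (sub_ne_zero.2 hne), hNe] at key
    exact h.basis_notMem_flag (by simp) key
  have h2 : (2 : ZMod p) ≠ 0 := by
    intro h2
    have : ((2 : ℕ) : ZMod p) = 0 := by exact_mod_cast h2
    rw [ZMod.natCast_eq_zero_iff] at this
    exact absurd (Nat.le_of_dvd (by norm_num) this) (by omega)
  rcases Nat.lt_or_ge m 2 with h1 | h1
  · have e0 := hrel 0 (by omega)
    have e1 := hrel 1 (by omega)
    rw [if_neg (by omega), if_pos (by omega)] at e0
    rw [if_pos (by omega), if_pos (by omega)] at e1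
    exact h2 (by linear_combination -e0 - e1)
  · have e0 := hrel 0 (by omega)
    have e1 := hrel (m - 1) (by omega)
    rw [if_neg (by omega), if_neg (by omega)] at e0
    rw [if_neg (by omega), if_pos (by omega)] at e1
    exact h2 (by linear_combination e0 - e1)

end CfsgLib.RegUnip
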