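import Cfsg.Agent.RegUnip.Slots
import Cfsg.Agent.RegUnip.Derivative
import Cfsg.Agent.RegUnip.Quadratic

/-!
A group with a strongly `p`-embedded subgroup has no faithful module of dimension less than `p` in which
a Sylow subgroup of the kind met in groups of maximal class contains a regular unipotent element.
-/

set_option autoImplicit false

namespace CfsgLib.RegUnip

universe v

variable {p : ℕ} [Fact p.Prime] {X : Type*} [Group X] [Finite X] {V : Type v} [AddCommGroup V]
  [Module (ZMod p) V] [Finite V]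

/-- The dimension of a flag term. -/
theorem finrank_flag {N : Module.End (ZMod p) V} {d : ℕ} (h : Regular N d) {l : ℕ} (hl : l ≤ d) :
    Module.finrank (ZMod p) (flag N l) = d - l := by
  have := h.finiteDimensional
  have hlt : ∀ a, a < d → Module.finrank (ZMod p) (flag N (a + 1)) < Module.finrank (ZMod p) (flag N a) :=
    fun a ha => Submodule.finrank_lt_finrank_of_lt (lt_of_le_of_ne (flag_anti N (by omega))
      fun he => by have := h.flag_injective (by omega) (by omega) he; omega)
  have h1 : ∀ a, a ≤ d → Module.finrank (ZMod p) (flag N a) + a ≤ d := by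
    intro a
    induction a with
    | zero => intro _; rw [flag_zero, finrank_top, h.finrank_eq, add_zero]
    | succ a ih =>
      intro ha
      have := ih (by omega)
      have := hlt a (by omega)
      omega
  have h2 : ∀ m, m ≤ d → m ≤ Module.finrank (ZMod p) (flag N (d - m)) := by
    intro m
    induction m with
    | zero => intro _; exact Nat.zero_le _
    | succ m ih =>
      intro hm
      have := ih (by omega)
      have := hlt (d - (m + 1)) (by omega)
      rw [show d - (m + 1) + 1 = d - m by omega] at this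
      omega
  have e1 := h1 l hl
  have e2 := h2 (d - l) (by omega)
  rw [show d - (d - l) = l by omega] at e2
  omega

/-- The degree of the leading term bounds the degree. -/
theorem le_of_lead_mem_fil {N : Module.End (ZMod p) V} {d : ℕ} (h : Regular N d) {k : ℕ} (hk : k < d)
    {c : ZMod p} (hc : c ≠ 0) {U : Module.End (ZMod p) V} (hU : Commute U N) {j : ℕ}
    (hA : c • N ^ k * (1 + N * U) ∈ fil N (j : ℤ)) : j ≤ k := by
  by_contra hlt
  have h1 : c • (N ^ (k + 1) * U) ∈ fil N ((k : ℤ) + 1) :=
    Submodule.smul_mem _ _ (fil_anti (by push_cast; omega)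
      (mul_mem_fil (pow_self_mem_fil N (k + 1)) (fil_zero_of_commute h hU)))
  have h2 := sub_mem (fil_anti (show (k : ℤ) + 1 ≤ j by omega) hA) h1
  rw [show c • N ^ k * (1 + N * U) - c • (N ^ (k + 1) * U) = c • N ^ k by
    rw [mul_add, mul_one, smul_mul_assoc, ← mul_assoc, ← pow_succ]; abel,
    Submodule.smul_mem_iff _ hc] at h2
  exact h.pow_notMem_fil hk h2

/-- A power of a unipotent element of index at most `p` is trivial. -/
theorem pow_eq_one_of_fil {N : Module.End (ZMod p) V} {d : ℕ} (h : Regular N d) (hdp : d ≤ p)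
    (ρ : X →* Module.End (ZMod p) V) (hρ : Function.Injective ρ) {t : X} (ht : ρ t - 1 ∈ fil N 1) :
    t ^ p = 1 := by
  haveI : Nontrivial V := ⟨⟨h.gen, 0, fun h0 => h.gen_spec (by rw [h0, map_zero])⟩⟩
  haveI : CharP (Module.End (ZMod p) V) p :=
    charP_of_injective_algebraMap (algebraMap (ZMod p) _).injective p
  have h1 := pow_mem_fil ht p
  rw [h.fil_eq_bot (by omega), Submodule.mem_bot] at h1
  rw [sub_pow_char_of_commute p (Commute.one_right _), one_pow, sub_eq_zero] at h1
  apply hρ
  rw [map_pow, h1, map_one]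

/-- A conjugate of a strongly `p`-embedded subgroup contains a given Sylow subgroup. -/
theorem exists_strongly_ge {M : Subgroup X} (hM : Cfsg.IsStronglyPEmbedded p M) (T : Sylow p X) :
    ∃ M' : Subgroup X, Cfsg.IsStronglyPEmbedded p M' ∧ (T : Subgroup X) ≤ M' := by
  obtain ⟨P, hPM, hloc⟩ := CfsgLib.LocalCharP.exists_sylow_le hM
  obtain ⟨g, hg⟩ := MulAction.exists_smul_eq X P T
  have hmem : ∀ y, y ∈ (T : Subgroup X) → g⁻¹ * y * g ∈ (P : Subgroup X) := by
    intro y hy
    rw [← hg, Sylow.coe_subgroup_smul] at hy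
    obtain ⟨q, hq, rfl⟩ := hy
    simp [mul_assoc]; exact hq
  have hmem' : ∀ y, y ∈ M → g * y * g⁻¹ ∈ M.map (MulAut.conj g).toMonoidHom := fun y hy =>
    ⟨y, hy, rfl⟩
  refine ⟨M.map (MulAut.conj g).toMonoidHom,
    CfsgLib.LocalCharP.isStronglyPEmbedded_intro hM.1 ?_ T fun Q hQ hne n hn => ?_, fun y hy => ?_⟩
  · intro htop
    refine hM.2.1 ((Subgroup.eq_top_iff' M).2 fun x => ?_)
    obtain ⟨m, hm, he⟩ := (Subgroup.eq_top_iff' _).1 htop (g * x * g⁻¹)
    have he' : g * m * g⁻¹ = g * x * g⁻¹ := he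
    rw [mul_left_inj, mul_right_inj] at he'
    exact he' ▸ hm
  · have hle : Q.map (MulAut.conj g⁻¹).toMonoidHom ≤ (P : Subgroup X) := by
      rintro _ ⟨x, hx, rfl⟩
      simpa using hmem x (hQ hx)
    have h1 := hloc _ hle (by
      rw [Ne, Subgroup.map_eq_bot_iff_of_injective _ (MulAut.conj g⁻¹).injective]
      exact hne)
      (CfsgLib.LocalCharP.conj_mem_normalizer (h := g⁻¹) (n := n) (fun y => by
        simp [Subgroup.mem_map_equiv, mul_assoc]) hn)
    simpa [mul_assoc] using hmem' _ h1
  · simpa [mul_assoc] using hmem' _ (hPM (hmem y hy))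

/-- The abelian case: a linear group with a Sylow subgroup of order `p²` containing a regular unipotent
element has no strongly `p`-embedded subgroup. -/
theorem false_of_abelian {N : Module.End (ZMod p) V} {d k : ℕ} (h : Regular N d) (hdp : d ≤ p - 1)
    (hk2 : 2 ≤ k) (hk : k < d) (ρ : X →* Module.End (ZMod p) V) (hρ : Function.Injective ρ)
    {M : Subgroup X} (hM : Cfsg.IsStronglyPEmbedded p M) (T : Sylow p X) {u z : X}
    (huT : u ∈ (T : Subgroup X)) (hu : ρ u - 1 = N) (hzT : z ∈ (T : Subgroup X)) (hzu : Commute u z)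
    (hup : u ^ p = 1) (hzp : z ^ p = 1) (hz1 : z ≠ 1)
    (hpows : ∀ t ∈ (T : Subgroup X), ∃ a b : ℕ, t = u ^ a * z ^ b)
    {c : ZMod p} (hc : c ≠ 0) {U : Module.End (ZMod p) V} (hU : Commute U N)
    (hzlead : ρ z - 1 = c • N ^ k * (1 + N * U)) : False := by
  have hmul : ∀ a b : X, ∀ v, ρ (a * b) v = ρ a (ρ b v) := fun a b v => by
    rw [map_mul, Module.End.mul_apply]
  have hcan : ∀ (a : X) v, ρ a (ρ a⁻¹ v) = v := fun a v => by
    rw [← hmul, mul_inv_cancel, map_one, Module.End.one_apply]
  let K : Subgroup X :=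
    { carrier := {x | ∀ A B, Covers (fun y => ρ y) A B → ∀ v ∈ B, ρ x v - v ∈ A}
      one_mem' := fun A B _ v _ => by simp
      mul_mem' := fun {a b} ha hb A B hAB v hv => by
        rw [hmul]
        simpa using add_mem (ha A B hAB _ (hAB.inv_high b v hv)) (hb A B hAB v hv)
      inv_mem' := fun {a} ha A B hAB v hv => by
        have := neg_mem (ha A B hAB _ (hAB.inv_high a⁻¹ v hv))
        rwa [hcan, neg_sub] at this }
  by_cases hzK : z ∈ K
  · haveI hKn : K.Normal := ⟨fun x hx g A B hAB v hv => by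
      rw [hmul, hmul]
      have := hAB.inv_low g _ (hx A B hAB _ (hAB.inv_high g⁻¹ v hv))
      rwa [map_sub, hcan] at this⟩
    have hKp : IsPGroup p K := by
      rintro ⟨x, hx⟩
      obtain ⟨n, hn⟩ := covers_induction (fun y => ρ y)
        (fun W => ∃ n : ℕ, ∀ v ∈ W, ((ρ x - 1) ^ n) v = 0) ⊤ (fun _ _ _ => trivial)
        ⟨0, fun v hv => by simpa using hv⟩ (fun A B _ hAB ⟨n, hn⟩ => ⟨n + 1, fun v hv => by
          rw [pow_succ, Module.End.mul_apply, LinearMap.sub_apply, Module.End.one_apply]
          exact hn _ (hx A B hAB v hv)⟩)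
      haveI : Nontrivial V := ⟨⟨h.gen, 0, fun h0 => h.gen_spec (by rw [h0, map_zero])⟩⟩
      haveI : CharP (Module.End (ZMod p) V) p :=
        charP_of_injective_algebraMap (algebraMap (ZMod p) _).injective p
      have h1 : (ρ x - 1) ^ p ^ n = 0 :=
        pow_eq_zero_of_le (Nat.lt_pow_self (Fact.out : p.Prime).one_lt).le
          (LinearMap.ext fun v => hn v trivial)
      rw [sub_pow_char_pow_of_commute p n (Commute.one_right _), one_pow, sub_eq_zero] at h1
      refine ⟨n, Subtype.ext (hρ ?_)⟩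
      show ρ (x ^ p ^ n) = ρ 1
      rw [map_pow, h1, map_one]
    obtain ⟨P, hPM, -⟩ := CfsgLib.LocalCharP.exists_sylow_le hM
    obtain ⟨Q, hQ⟩ := hKp.exists_le_sylow
    obtain ⟨g, hg⟩ := MulAction.exists_smul_eq X Q P
    have hKP : K ≤ (P : Subgroup X) := by
      rw [← hg, Sylow.coe_subgroup_smul]
      intro x hx
      exact ⟨g⁻¹ * x * g, hQ (by simpa using hKn.conj_mem x hx g⁻¹), by simp [mul_assoc]⟩
    have hKne : K ≠ ⊥ := fun hb => hz1 (by rw [hb] at hzK; simpa using hzK)
    have := CfsgLib.LocalCharP.normalizer_le hM (hKP.trans hPM) hKp hKne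
    rw [Subgroup.normalizer_eq_top] at this
    exact hM.2.1 (top_le_iff.1 this)
  · simp only [K, Subgroup.mem_mk, Submonoid.mem_mk, Subsemigroup.mem_mk, Set.mem_setOf_eq] at hzK
    push Not at hzK
    obtain ⟨A, B, hAB, v₀, hv₀, hv₀'⟩ := hzK
    have hNinv : ∀ W : Submodule (ZMod p) V, (∀ x : X, ∀ v ∈ W, ρ x v ∈ W) → ∀ v ∈ W, N v ∈ W := by
      intro W hW v hv
      rw [← hu, LinearMap.sub_apply, Module.End.one_apply]
      exact sub_mem (hW u v hv) hv
    obtain ⟨a, ha, rfl⟩ := h.exists_eq_flag (hNinv B hAB.inv_high)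
    obtain ⟨b, hb, rfl⟩ := h.exists_eq_flag (hNinv A hAB.inv_low)
    have hab : a < b := by
      by_contra hge
      exact hAB.lt.not_ge (flag_anti N (by omega))
    set f := b - a with hf
    set A' := (flag N b).comap (flag N a).subtype with hA'
    have hNB : ∀ v ∈ flag N a, N v ∈ flag N a := hNinv _ hAB.inv_high
    have hUB : ∀ (l : ℕ), ∀ v ∈ flag N l, U v ∈ flag N l := fun l v hv => by
      simpa using fil_zero_of_commute h hU l v hv
    let N' : Module.End (ZMod p) (flag N a ⧸ A') :=
      Submodule.mapQ A' A' (N.restrict hNB) fun v hv => hNinv _ hAB.inv_low _ hv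
    let U' : Module.End (ZMod p) (flag N a ⧸ A') :=
      Submodule.mapQ A' A' (U.restrict (hUB a)) fun v hv => hUB b _ hv
    let τ : X →* Module.End (ZMod p) (flag N a ⧸ A') :=
      { toFun := fun y => Submodule.mapQ A' A' ((ρ y).restrict (hAB.inv_high y))
          fun v hv => hAB.inv_low y _ hv
        map_one' := Submodule.linearMap_qext _ (LinearMap.ext fun v => by
          simp [LinearMap.restrict_apply])
        map_mul' := fun x y => Submodule.linearMap_qext _ (LinearMap.ext fun v => by
          simp [LinearMap.restrict_apply]; rfl) }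
    let mk : flag N a →ₗ[ZMod p] (flag N a ⧸ A') := A'.mkQ
    have hmk : ∀ v : flag N a, mk v = 0 ↔ (v : V) ∈ flag N b := fun v =>
      Submodule.Quotient.mk_eq_zero A'
    have hext : ∀ {F G : Module.End (ZMod p) (flag N a ⧸ A')}, (∀ v, F (mk v) = G (mk v)) → F = G :=
      fun hFG => Submodule.linearMap_qext _ (LinearMap.ext hFG)
    have hpowinv : ∀ (n : ℕ), ∀ v ∈ flag N a, (N ^ n) v ∈ flag N a := fun n v hv =>
      flag_anti N (by omega) (pow_apply_mem_flag N (a := n) hv)
    have hNpow : ∀ (n : ℕ) (v : flag N a), (N' ^ n) (mk v) = mk ⟨(N ^ n) v, hpowinv n v v.2⟩ := by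
      intro n
      induction n with
      | zero => intro v; rfl
      | succ n ih =>
        intro v
        rw [pow_succ', Module.End.mul_apply, ih]
        show mk ⟨N ((N ^ n) (v : V)), _⟩ = mk _
        congr 1
        ext
        show N ((N ^ n) (v : V)) = (N ^ (n + 1)) (v : V)
        rw [pow_succ', Module.End.mul_apply]
    have hτu : τ u - 1 = N' := hext fun v => by
      show mk ⟨ρ u v, _⟩ - mk v = mk ⟨N v, _⟩
      rw [← map_sub]
      congr 1
      ext
      show ρ u (v : V) - (v : V) = N v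
      exact LinearMap.congr_fun hu (v : V)
    have hUN : Commute U' N' := hext fun v => by
      show mk ⟨U (N v), _⟩ = mk ⟨N (U v), _⟩
      congr 1
      ext
      exact LinearMap.congr_fun hU.eq v
    have hτz : τ z - 1 = c • N' ^ k * (1 + N' * U') := hext fun v => by
      show mk ⟨ρ z v, _⟩ - mk v = c • (N' ^ k) (mk v + mk ⟨N (U v), _⟩)
      rw [← map_sub, ← map_add, hNpow, ← map_smul]
      congr 1
      ext
      exact LinearMap.congr_fun hzlead v
    have hreg : Regular N' f := by
      refine ⟨?_, hext fun v => ?_, fun h0 => ?_, by omega⟩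
      · have h1 := Submodule.finrank_quotient_add_finrank A'
        have h2 : Module.finrank (ZMod p) A' = Module.finrank (ZMod p) (flag N b) :=
          (Submodule.comapSubtypeEquivOfLe hAB.lt.le).finrank_eq
        rw [h2, finrank_flag h ha, finrank_flag h hb] at h1
        omega
      · rw [hNpow, LinearMap.zero_apply, hmk]
        exact flag_anti N (by omega) (pow_apply_mem_flag N (a := f) v.2)
      · have h1 := LinearMap.congr_fun h0 (mk ⟨h.basis ⟨a, by omega⟩, h.gen,
          (h.basis_apply ⟨a, by omega⟩).symm⟩)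
        rw [hNpow, LinearMap.zero_apply, hmk] at h1
        simp only at h1
        rw [h.pow_apply_basis, dif_pos (by simp only; omega)] at h1
        exact h.basis_notMem_flag (by simp only; omega) h1
    have hkf : k < f := by
      by_contra hge
      refine hv₀' ?_
      have h1 := LinearMap.congr_fun hτz (mk ⟨v₀, hv₀⟩)
      rw [pow_eq_zero_of_le (not_lt.1 hge) hreg.pow_eq, smul_zero, zero_mul, LinearMap.zero_apply] at h1
      change mk ⟨ρ z v₀, _⟩ - mk ⟨v₀, hv₀⟩ = 0 at h1
      rwa [← map_sub, hmk] at h1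
    -- the group induced on the quotient
    let φ := τ.toHomUnits.rangeRestrict
    have hφ : Function.Surjective φ := τ.toHomUnits.rangeRestrict_surjective
    haveI : Finite τ.toHomUnits.range := Finite.of_surjective φ hφ
    have htwo : TwoRank p τ.toHomUnits.range.subtype N' f k (T.mapSurjective hφ) (φ u) (φ z) :=
      { inj := Subtype.val_injective
        regular := hreg
        le_pred := by omega
        two_le := hk2
        lt_dim := hkf
        hN := hτu
        mem_u := ⟨u, huT, rfl⟩
        mem_z := ⟨z, hzT, rfl⟩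
        exists_pows := by
          rintro _ ⟨t, ht, rfl⟩
          obtain ⟨i, j, rfl⟩ := hpows t ht
          exact ⟨i, j, by rw [map_mul, map_pow, map_pow]⟩
        comm := hzu.map φ
        u_pow := by rw [← map_pow, hup, map_one]
        z_pow := by rw [← map_pow, hzp, map_one]
        z_lead := ⟨c, U', hc, hUN, hτz⟩ }
    obtain ⟨l, hl0, hlf, hl⟩ := htwo.exists_invariant'
    have hinv : ∀ x : X, ∀ v ∈ flag N (a + l), ρ x v ∈ flag N (a + l) := by
      rintro x v hv
      have hva : v ∈ flag N a := flag_anti N (by omega) hv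
      obtain ⟨y, rfl⟩ := hv
      have hy : (N ^ a) y ∈ flag N a := ⟨y, rfl⟩
      have h1 : mk ⟨(N ^ (a + l)) y, hva⟩ ∈ flag N' l := by
        refine ⟨mk ⟨(N ^ a) y, hy⟩, ?_⟩
        rw [hNpow]
        congr 1
        ext
        show (N ^ l) ((N ^ a) y) = _
        rw [← Module.End.mul_apply, ← pow_add, add_comm]
      obtain ⟨q, hq⟩ := hl (φ x) _ h1
      obtain ⟨w, rfl⟩ := Submodule.mkQ_surjective A' q
      change (N' ^ l) (mk w) = mk ⟨ρ x ((N ^ (a + l)) y), hAB.inv_high x _ hva⟩ at hq
      rw [hNpow, eq_comm, ← sub_eq_zero, ← map_sub, hmk] at hq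
      have h2 : (N ^ l) (w : V) ∈ flag N (a + l) := pow_apply_mem_flag N (a := l) w.2
      have h3 := add_mem (flag_anti N (show a + l ≤ b by omega) hq) h2
      simpa using h3
    rcases hAB.eq_or_eq _ hinv (flag_anti N (by omega)) (flag_anti N (by omega)) with he | he
    · have := h.flag_injective (by omega) hb he; omega
    · have := h.flag_injective (by omega) ha he; omega

/-- No group with a strongly `p`-embedded subgroup acts faithfully in dimension less than `p` such that a
Sylow `p`-subgroup consists of elements of degree one with constant leading coefficients, contains a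
regular unipotent element `u`, and either has order `p²` or has an element moving `u` by a central
element. -/
theorem false_of_regular (hp : 5 ≤ p) (ρ : X →* Module.End (ZMod p) V) (hρ : Function.Injective ρ)
    {M : Subgroup X} (hM : Cfsg.IsStronglyPEmbedded p M) (T : Sylow p X) {N : Module.End (ZMod p) V}
    {d : ℕ} (h : Regular N d) (hd2 : 2 ≤ d) (hdp : d ≤ p - 1)
    (hT : ∀ t ∈ (T : Subgroup X), ρ t - 1 ∈ fil N 1 ∧
      ∃ α : ZMod p, ∀ j, j + 2 < d → ∀ v ∈ flag N j, (ρ t - 1 - α • N) v ∈ flag N (j + 2))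
    {u : X} (huT : u ∈ (T : Subgroup X)) (hu : ρ u - 1 = N)
    (hcase : Nat.card T = p ^ 2 ∨ ∃ w ∈ (T : Subgroup X), ∃ z ∈ (T : Subgroup X), z ≠ 1 ∧
      (∀ t ∈ (T : Subgroup X), Commute t z) ∧ w * u * w⁻¹ = z * u) : False := by
  have hpp : p.Prime := Fact.out
  have hN1 : N ∈ fil N 1 := by simpa using pow_self_mem_fil N 1
  have hu1 : u ≠ 1 := fun h1 => by
    refine h.pow_ne ?_
    rw [← hu, h1, map_one, sub_self, zero_pow (by omega)]
  have hcom : ∀ {t : X}, Commute t u → Commute (ρ t - 1) N := fun {t} ht => by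
    rw [← hu]
    exact ((ht.map ρ).sub_left (Commute.one_left _)).sub_right (Commute.one_right _)
  obtain ⟨M', hM', hTM⟩ := exists_strongly_ge hM T
  rcases hcase with hcard | ⟨w, hw, z, hz, hz1, hcent, hwu⟩
  · -- abelian of order `p²`
    have hcomm : ∀ a ∈ (T : Subgroup X), ∀ b ∈ (T : Subgroup X), Commute a b := fun a ha b hb =>
      congrArg Subtype.val (IsPGroup.commutative_of_card_eq_prime_sq hcard ⟨a, ha⟩ ⟨b, hb⟩)
    have hup := pow_eq_one_of_fil h (by omega) ρ hρ (hT u huT).1
    have hu_ord : orderOf u = p := orderOf_eq_prime hup hu1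
    obtain ⟨z0, hz0, hz0u⟩ : ∃ z0 ∈ (T : Subgroup X), z0 ∉ Subgroup.zpowers u := by
      by_contra hall
      push Not at hall
      have := Subgroup.card_le_of_le (H := (T : Subgroup X)) (K := Subgroup.zpowers u) hall
      rw [hcard, Nat.card_zpowers, hu_ord] at this
      nlinarith
    have hun : ∀ n : ℕ, ρ (u ^ n) - 1 - (n : ZMod p) • N ∈ fil N 2 := by
      intro n
      induction n with
      | zero => simp
      | succ n ih =>
        rw [show ρ (u ^ (n + 1)) - 1 - ((n + 1 : ℕ) : ZMod p) • N =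
          (ρ (u ^ n) - 1 - (n : ZMod p) • N) + (ρ (u ^ n) - 1) * N by
          rw [pow_succ, map_mul, sub_eq_iff_eq_add.1 hu, Nat.cast_succ, add_smul, one_smul, mul_add,
            mul_one, sub_mul, one_mul]
          abel]
        exact add_mem ih (fil_anti (by norm_num) (mul_mem_fil (hT _ (pow_mem huT n)).1 hN1))
    obtain ⟨a1, ha1⟩ : ∃ a1 : ZMod p, ρ z0 - 1 - a1 • N ∈ fil N 2 := by
      have hne : ρ z0 - 1 ≠ 0 := fun h0 => hz0u (by
        rw [sub_eq_zero, ← map_one ρ] at h0
        rw [hρ h0]; exact one_mem _)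
      obtain ⟨k, c, U, hk, hc, hU, he⟩ := h.exists_lead (hcom (hcomm z0 hz0 u huT)) hne
      have hk1 : 1 ≤ k := le_of_lead_mem_fil h hk hc hU (j := 1) (by
        rw [← he]; exact_mod_cast (hT z0 hz0).1)
      rcases Nat.lt_or_ge k 2 with hk' | hk'
      · obtain rfl : k = 1 := by omega
        refine ⟨c, ?_⟩
        rw [he, show c • N ^ 1 * (1 + N * U) - c • N = c • (N * N * U) by
          rw [pow_one, mul_add, mul_one, smul_mul_assoc, ← mul_assoc]; abel]
        exact Submodule.smul_mem _ _ (fil_anti (by norm_num)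
          (mul_mem_fil (mul_mem_fil hN1 hN1) (fil_zero_of_commute h hU)))
      · refine ⟨0, ?_⟩
        rw [zero_smul, sub_zero, he, smul_mul_assoc]
        exact Submodule.smul_mem _ _ (fil_anti (by omega) (mul_mem_fil (pow_self_mem_fil N k)
          (fil_zero_of_commute h ((Commute.one_left N).add_left ((Commute.refl N).mul_left hU)))))
    set n := (-a1).val
    have hn : (n : ZMod p) = -a1 := ZMod.natCast_zmod_val _
    set z := z0 * u ^ n with hzdef
    have hzT : z ∈ (T : Subgroup X) := mul_mem hz0 (pow_mem huT n)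
    have hz1 : z ≠ 1 := fun h1 => hz0u (by
      rw [hzdef, mul_eq_one_iff_eq_inv] at h1
      exact h1 ▸ inv_mem (pow_mem (Subgroup.mem_zpowers u) n))
    have hzfil : ρ z - 1 ∈ fil N 2 := by
      rw [show ρ z - 1 = (ρ z0 - 1 - a1 • N) + (ρ (u ^ n) - 1 - (n : ZMod p) • N) +
          (ρ z0 - 1) * (ρ (u ^ n) - 1) by
        rw [hzdef, map_mul, hn, neg_smul, sub_mul, mul_sub, one_mul, mul_one]; abel]
      exact add_mem (add_mem ha1 (hun n))
        (fil_anti (by norm_num) (mul_mem_fil (hT z0 hz0).1 (hT _ (pow_mem huT n)).1))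
    have hzne : ρ z - 1 ≠ 0 := fun h0 => hz1 (hρ (by rw [map_one]; exact sub_eq_zero.1 h0))
    obtain ⟨k, c, U, hk, hc, hU, he⟩ := h.exists_lead (hcom (hcomm z hzT u huT)) hzne
    have hk2 : 2 ≤ k := le_of_lead_mem_fil h hk hc hU (j := 2) (by rw [← he]; exact_mod_cast hzfil)
    have hzp := pow_eq_one_of_fil h (by omega) ρ hρ (hT z hzT).1
    have hz_ord : orderOf z = p := orderOf_eq_prime hzp hz1
    refine false_of_abelian h hdp hk2 hk ρ hρ hM T huT hu hzT (hcomm u huT z hzT) hup hzp hz1
      ?_ hc hU he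
    let F : Fin p × Fin p → (T : Subgroup X) := fun x =>
      ⟨u ^ (x.1 : ℕ) * z ^ (x.2 : ℕ), mul_mem (pow_mem huT _) (pow_mem hzT _)⟩
    have hzn : ∀ m : ℕ, ρ (z ^ m) - 1 ∈ fil N 2 := by
      intro m
      induction m with
      | zero => simp
      | succ m ih =>
        rw [pow_succ, map_mul, show ρ (z ^ m) * ρ z - 1 =
          (ρ (z ^ m) - 1) + (ρ z - 1) + (ρ (z ^ m) - 1) * (ρ z - 1) by
          rw [sub_mul, mul_sub, one_mul, mul_one]; abel]
        exact add_mem (add_mem ih hzfil) (fil_anti (by norm_num) (mul_mem_fil ih hzfil))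
    have hlin : ∀ i j : ℕ, ρ (u ^ i * z ^ j) - 1 - (i : ZMod p) • N ∈ fil N 2 := by
      intro i j
      rw [map_mul, show ρ (u ^ i) * ρ (z ^ j) - 1 - (i : ZMod p) • N =
        (ρ (u ^ i) - 1 - (i : ZMod p) • N) + (ρ (z ^ j) - 1) + (ρ (u ^ i) - 1) * (ρ (z ^ j) - 1) by
        rw [sub_mul, mul_sub, one_mul, mul_one]; abel]
      exact add_mem (add_mem (hun i) (hzn j))
        (fil_anti (by norm_num) (mul_mem_fil (hT _ (pow_mem huT i)).1 (hzn j)))
    have hF : Function.Injective F := by
      rintro ⟨i, j⟩ ⟨i', j'⟩ he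
      have he' : u ^ (i : ℕ) * z ^ (j : ℕ) = u ^ (i' : ℕ) * z ^ (j' : ℕ) := congrArg Subtype.val he
      have h1 := sub_mem (hlin i j) (hlin i' j')
      rw [he', sub_sub_sub_cancel_left, ← sub_smul] at h1
      have hii : ((i' : ℕ) : ZMod p) = ((i : ℕ) : ZMod p) := by
        by_contra hne
        rw [Submodule.smul_mem_iff _ (sub_ne_zero.2 hne)] at h1
        refine h.pow_notMem_fil (a := 1) (by omega) ?_
        simpa using h1
      have hi : i' = i := by
        apply Fin.ext
        rw [ZMod.natCast_eq_natCast_iff, Nat.ModEq, Nat.mod_eq_of_lt i.isLt, Nat.mod_eq_of_lt i'.isLt] at hii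
        exact hii
      subst hi
      rw [mul_right_inj] at he'
      have hj : j = j' := Fin.ext (pow_injOn_Iio_orderOf (x := z)
        (by rw [hz_ord]; exact j.isLt) (by rw [hz_ord]; exact j'.isLt) he')
      rw [hj]
    have hbij := (Nat.bijective_iff_injective_and_card F).2 ⟨hF, by
      rw [hcard, Nat.card_prod, Nat.card_eq_fintype_card, Fintype.card_fin, sq]⟩
    intro t ht
    obtain ⟨⟨i, j⟩, hij⟩ := hbij.2 ⟨t, ht⟩
    exact ⟨i, j, (congrArg Subtype.val hij).symm⟩
  · -- nonabelian
    have hzne : ρ z - 1 ≠ 0 := fun h0 => hz1 (hρ (by rw [map_one]; exact sub_eq_zero.1 h0))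
    obtain ⟨k, c, U, hk, hc, hU, he⟩ := h.exists_lead (hcom (hcent u huT).symm) hzne
    have hk1 : 1 ≤ k := le_of_lead_mem_fil h hk hc hU (j := 1) (by
      rw [← he]; exact_mod_cast (hT z hz).1)
    have hwne : ¬ Commute w u := fun hcw => hz1 (by
      rw [hcw.eq, mul_inv_cancel_right] at hwu
      exact mul_eq_right.1 hwu.symm)
    have hk2 : 2 ≤ k := by
      by_contra hlt
      obtain rfl : k = 1 := by omega
      have hA1 : ρ z - 1 ∈ fil N 1 := (hT z hz).1
      have hreg : Regular (ρ z - 1) d := by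
        refine ⟨h.finrank_eq, ?_, fun h0 => ?_, h.pos⟩
        · have h1 := pow_mem_fil hA1 d
          rwa [h.fil_eq_bot (by simp), Submodule.mem_bot] at h1
        · have h2 : ρ z - 1 - c • N ∈ fil N (1 + 1) := by
            rw [he, show c • N ^ 1 * (1 + N * U) - c • N = c • (N * N * U) by
              rw [pow_one, mul_add, mul_one, smul_mul_assoc, ← mul_assoc]; abel]
            exact Submodule.smul_mem _ _ (fil_anti (by norm_num)
              (mul_mem_fil (mul_mem_fil hN1 hN1) (fil_zero_of_commute h hU)))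
          have h3 := pow_sub_pow_mem_fil hA1 (Submodule.smul_mem _ c hN1) h2 (d - 1)
          rw [h0, zero_sub, h.fil_eq_bot (by omega), Submodule.mem_bot, neg_eq_zero, smul_pow,
            smul_eq_zero] at h3
          exact h3.elim (pow_ne_zero _ hc) h.pow_ne
      have hc' : ∀ {t : X}, t ∈ (T : Subgroup X) → Commute (ρ t) (ρ z - 1) := fun {t} ht =>
        ((hcent t ht).map ρ).sub_right (Commute.one_right _)
      refine hwne (hρ ?_)
      rw [map_mul, map_mul]
      exact (hreg.commute_of_commute (hc' hw) (hc' huT)).eq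
    have hkK : (k : ZMod p) ≠ 0 := by
      rw [Ne, ZMod.natCast_eq_zero_iff]
      intro hdvd
      have := Nat.le_of_dvd (by omega) hdvd
      omega
    set G := ρ.toHomUnits w with hG
    have hGv : (G : Module.End (ZMod p) V) = ρ w := rfl
    have hGi : (↑G⁻¹ : Module.End (ZMod p) V) = ρ w⁻¹ := by rw [hG, ← map_inv]; rfl
    have hρu : ρ u = 1 + N := by rw [← hu, add_sub_cancel]
    have hρz : ρ z = 1 + c • N ^ k * (1 + N * U) := by rw [← he, add_sub_cancel]
    have hdk : d < 2 * k := by
      refine lt_two_mul_of_conj h hk2 hkK hc hU G ?_ ?_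
      · rw [hGv, hGi, ← hρu, ← hρz, ← map_mul, ← map_mul, ← map_mul, hwu]
      · rw [hGv, hGi, ← he, mul_sub, sub_mul, mul_one, ← map_mul, ← map_mul, ← map_mul,
          mul_inv_cancel, map_one, (hcent w hw).eq, mul_inv_cancel_right]
    rcases Nat.lt_or_ge d 4 with hd4 | hd4
    · obtain rfl : d = 3 := by omega
      obtain rfl : k = 2 := by omega
      have hzc : ρ z - 1 = c • N ^ 2 := by
        rw [he, mul_add, mul_one, smul_mul_assoc, ← mul_assoc, ← pow_succ, h.pow_eq, zero_mul, smul_zero,
          add_zero]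
      exact false_of_three h ρ hρ hM' T hTM T.isPGroup'
        (exists_transvection h ρ hρ T (fun t ht => (hT t ht).1) huT hu hz hc hzc hw hwne)
    · exact false_of_quadratic hp h hk hdk hd4 ρ hρ hM' T hT huT hu hz (hTM hz)
        (orderOf_eq_prime (pow_eq_one_of_fil h (by omega) ρ hρ (hT z hz).1) hz1) hcent hc hU he

end CfsgLib.RegUnip
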