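import Cfsg.Agent.RegUnip.TwoRank

/-!
The relative trace of a trace form: a linear group with an abelian Sylow `p`-subgroup of order `p²`
containing a regular unipotent element leaves a term of the flag invariant.
-/

set_option autoImplicit false
set_option maxHeartbeats 800000

namespace CfsgLib.RegUnip.TwoRank

variable {p : ℕ} [Fact p.Prime] {X V : Type*} [Group X] [Finite X] [AddCommGroup V]
    [Module (ZMod p) V] {ρ : X →* (Module.End (ZMod p) V)ˣ} {N : Module.End (ZMod p) V} {d k : ℕ}
    {T : Sylow p X} {u z : X}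

/-- Data of a trace form on which the relative trace works. -/
structure Slots (r : ℕ) (f : Fin (r + 1) → Module.End (ZMod p) V) (e δ : Fin (r + 1) → ℕ)
    (c : Fin (r + 1) → ZMod p) : Prop where
  lead : ∀ l, f l - c l • N ^ (e l) ∈ fil N ((e l : ℤ) + 1)
  c_ne : ∀ l, c l ≠ 0
  lt : ∀ l, e l < d
  pos : 1 ≤ e 0
  sum_eq : ∑ l, e l = p - 1
  comm : ∀ l, Commute (f l) N
  conj : ∀ g ∈ Subgroup.normalizer ((Subgroup.zpowers z : Subgroup X) : Set X), ∀ l,
    (ρ g : Module.End (ZMod p) V) * f l * (↑(ρ g)⁻¹ : Module.End (ZMod p) V) ∈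
      fil N ((e l : ℤ) - δ l)
  delta_zero : δ 0 = 0
  sum_delta : ∑ l, δ l < p - 1
  range : (2 * r + 1) * (d - 1) < (p - 1) * (1 + k)
  degree : (p - 1) + (r + 1) * (d - 1) < (p - 1) * (1 + k)

variable (h : TwoRank p ρ N d k T u z)
include h

/-- The relative trace gives a proper invariant subspace. -/
theorem exists_invariant {r : ℕ} {f : Fin (r + 1) → Module.End (ZMod p) V}
    {e δ : Fin (r + 1) → ℕ} {c : Fin (r + 1) → ZMod p} (hS : Slots (ρ := ρ) (N := N) (d := d) (k := k) (z := z) r f e δ c) :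
    ∃ l, 0 < l ∧ l < d ∧ ∀ x : X, ∀ v ∈ flag N l, (ρ x : Module.End (ZMod p) V) v ∈ flag N l := by
  classical
  have hp : p.Prime := Fact.out
  have hk := h.two_le
  have hd := h.lt_dim
  have hdp := h.le_pred
  have := Fintype.ofFinite (X ⧸ (T : Subgroup X))
  have := Fintype.ofFinite (T : Subgroup X)
  have := Fintype.ofFinite (Subgroup.zpowers u)
  set H := Subgroup.normalizer ((Subgroup.zpowers z : Subgroup X) : Set X) with hH
  set NT := Subgroup.normalizer ((T : Subgroup X) : Set X) with hNT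
  have hTN : (T : Subgroup X) ≤ NT := Subgroup.le_normalizer
  have hNH : NT ≤ H := h.normalizer_le
  set F0 := pureForm r f with hF0
  -- `T` fixes the form
  have hfix : ∀ t ∈ (T : Subgroup X), act r (ρ t) F0 = F0 := by
    intro t ht
    have hct : Commute (ρ t : Module.End (ZMod p) V) N := by
      obtain ⟨a, b, rfl⟩ := h.exists_pows t ht
      rw [← h.hN]
      refine Commute.sub_right ?_ (Commute.one_right _)
      exact ((((Commute.refl u).pow_left a).mul_left (h.comm.symm.pow_left b)).map ρ).units_val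
    rw [hF0, act_pureForm]
    congr 1
    funext l
    rw [(h.regular.commute_of_commute hct (hS.comm l)).eq, mul_assoc, Units.mul_inv, mul_one]
  let F : X ⧸ (T : Subgroup X) → Form (ZMod p) V r := fun q => act r (ρ q.out) F0
  have hF : ∀ x : X, F (QuotientGroup.mk x) = act r (ρ x) F0 := by
    intro x
    obtain ⟨t, ht⟩ := QuotientGroup.mk_out_eq_mul (T : Subgroup X) x
    simp only [F, ht, map_mul, Module.End.mul_apply, hfix t t.2]
  have hFsmul : ∀ (x : X) (q : X ⧸ (T : Subgroup X)), F (x • q) = act r (ρ x) (F q) := by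
    intro x q
    induction q using QuotientGroup.induction_on with
    | _ y => rw [MulAction.Quotient.smul_mk, hF, hF, smul_eq_mul, map_mul, map_mul, Module.End.mul_apply]
  let cA := Finset.univ.filter fun q : X ⧸ (T : Subgroup X) => q.out ∈ NT
  let cB := Finset.univ.filter fun q : X ⧸ (T : Subgroup X) => q.out ∈ H ∧ q.out ∉ NT
  let cC := Finset.univ.filter fun q : X ⧸ (T : Subgroup X) => q.out ∉ H
  have hmkmem : ∀ (K : Subgroup X), (T : Subgroup X) ≤ K → ∀ x : X,
      ((QuotientGroup.mk x : X ⧸ (T : Subgroup X)).out ∈ K ↔ x ∈ K) := by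
    intro K hK x
    obtain ⟨t, ht⟩ := QuotientGroup.mk_out_eq_mul (T : Subgroup X) x
    rw [ht, K.mul_mem_cancel_right (hK t.2)]
  have hsmulmem : ∀ (K : Subgroup X), (T : Subgroup X) ≤ K → ∀ t ∈ (T : Subgroup X),
      ∀ q : X ⧸ (T : Subgroup X), ((t • q).out ∈ K ↔ q.out ∈ K) := by
    intro K hK t ht q
    induction q using QuotientGroup.induction_on with
    | _ y =>
      rw [MulAction.Quotient.smul_mk, hmkmem K hK, hmkmem K hK, smul_eq_mul, K.mul_mem_cancel_left (hK ht)]
  have hTH : (T : Subgroup X) ≤ H := hTN.trans hNH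
  have hfix_mem : ∀ (t : X) (q : X ⧸ (T : Subgroup X)), t • q = q →
      q.out⁻¹ * t * q.out⁻¹⁻¹ ∈ (T : Subgroup X) := by
    intro t q htq
    conv_lhs at htq => rw [← QuotientGroup.out_eq' q]
    rw [MulAction.Quotient.smul_mk, smul_eq_mul] at htq
    have h1 : (QuotientGroup.mk q.out : X ⧸ (T : Subgroup X)) = QuotientGroup.mk (t * q.out) := by
      rw [htq, QuotientGroup.out_eq']
    rw [QuotientGroup.eq] at h1
    simpa [mul_assoc] using h1
  have hord : orderOf z = p := by
    refine orderOf_eq_prime h.z_pow fun h1 => ?_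
    obtain ⟨c', U, hc', hU, he⟩ := h.z_lead
    rw [h1, map_one, Units.val_one, sub_self, smul_mul_assoc, eq_comm, smul_eq_zero] at he
    have he' := he.resolve_left hc'
    have hnil : IsNilpotent (N * U) := ⟨d, by rw [hU.symm.mul_pow, h.regular.pow_eq, zero_mul]⟩
    have := hnil.isUnit_one_add.mul_left_eq_zero.1 he'
    exact h.regular.pow_notMem_fil hd (by rw [this]; exact zero_mem _)
  -- the free actions
  have hfreeB : ∀ g : Subgroup.zpowers u, ∀ q ∈ cB, g • q = q → g = 1 := by
    intro g q hq hgq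
    by_contra hne
    simp only [cB, Finset.mem_filter] at hq
    refine hq.2.2 ?_
    have hgT : (g : X) ∈ (T : Subgroup X) := Subgroup.zpowers_le.2 h.mem_u g.2
    have hgz : (g : X) ∉ Subgroup.zpowers z := by
      intro hz
      have h1 := h.not_regular_of_mem hz
      obtain ⟨a, ha⟩ : ∃ a : ℕ, u ^ a = (g : X) := Submonoid.mem_powers_iff _ _ |>.1
        (mem_powers_iff_mem_zpowers.2 g.2)
      have h2 := pow_sub_pow_mem_fil (a := 1) (h.sub_one_fil hgT)
        (Submodule.smul_mem _ (a : ZMod p) (show N ∈ fil N 1 by simpa using pow_self_mem_fil N 1))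
        (by simpa [← ha] using h.lead a 0) (d - 1)
      rw [h1, zero_sub, neg_mem_iff, smul_pow] at h2
      by_cases ha0 : (a : ZMod p) = 0
      · refine hne (Subtype.ext ?_)
        obtain ⟨e', rfl⟩ := (ZMod.natCast_eq_zero_iff a p).1 ha0
        rw [Subgroup.coe_one, ← ha, pow_mul, h.u_pow, one_pow]
      · have h3 := (Submodule.smul_mem_iff _ (pow_ne_zero _ ha0)).1 h2
        exact h.regular.pow_notMem_fil (show d - 1 < d by omega) (by simpa using h3)
    exact inv_mem_iff.1 (h.mem_normalizer_of_regular hgT hgz (hfix_mem _ q hgq))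
  have hfreeC : ∀ g : (T : Subgroup X), ∀ q ∈ cC, g • q = q → g = 1 := by
    intro g q hq hgq
    simp only [cC, Finset.mem_filter] at hq
    by_cases hgz : (g : X) ∈ Subgroup.zpowers z
    · by_contra hne
      have h1 := h.mem_zpowers_conj hgz (hfix_mem _ q hgq)
      refine hq.2 (inv_mem_iff.1 (Subgroup.mem_normalizer_iff_map_conj_eq.2
        (Subgroup.eq_of_le_of_card_ge ?_ ?_)))
      · have : Fact (Nat.card (Subgroup.zpowers z)).Prime := ⟨by rw [Nat.card_zpowers, hord]; exact hp⟩
        rcases ((Subgroup.zpowers (g : X)).subgroupOf (Subgroup.zpowers z)).eq_bot_or_eq_top_of_prime_card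
          with hb | hb
        · exact absurd (Subtype.ext (congrArg (fun x : Subgroup.zpowers z => (x : X))
            ((Subgroup.mem_bot).1 (hb ▸ Subgroup.mem_subgroupOf.2 (Subgroup.mem_zpowers (g : X)) :
              (⟨g, hgz⟩ : Subgroup.zpowers z) ∈ (⊥ : Subgroup (Subgroup.zpowers z))))))
            (fun he => hne (by simpa using he))
        · rw [Subgroup.subgroupOf_eq_top] at hb
          refine (Subgroup.map_mono hb).trans ?_
          rw [MonoidHom.map_zpowers]
          exact Subgroup.zpowers_le.2 h1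
      · exact (Nat.card_congr ((Subgroup.zpowers z).equivMapOfInjective _
          (MulAut.conj q.out⁻¹).injective).toEquiv).le
    · exfalso
      exact hq.2 (hNH (inv_mem_iff.1 (h.mem_normalizer_of_regular g.2 hgz (hfix_mem _ q hgq))))
  have hinvB : ∀ g : Subgroup.zpowers u, ∀ q ∈ cB, g • q ∈ cB := by
    intro g q hq
    have hgT : (g : X) ∈ (T : Subgroup X) := Subgroup.zpowers_le.2 h.mem_u g.2
    simp only [cB, Finset.mem_filter, Finset.mem_univ, true_and] at hq ⊢
    exact ⟨(hsmulmem H hTH _ hgT q).2 hq.1, fun hh => hq.2 ((hsmulmem NT hTN _ hgT q).1 hh)⟩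
  have hinvC : ∀ g : (T : Subgroup X), ∀ q ∈ cC, g • q ∈ cC := by
    intro g q hq
    simp only [cC, Finset.mem_filter, Finset.mem_univ, true_and] at hq ⊢
    exact fun hh => hq ((hsmulmem H hTH _ g.2 q).1 hh)
  -- the orbit sums
  have hpowu : ∑ i ∈ Finset.range p, (fun Φ : Form (ZMod p) V r => act r (ρ u ^ i) Φ) =
      fun Φ => ∑ i ∈ Finset.range p, act r (ρ u ^ i) Φ := by
    funext Φ; simp
  have hordu : orderOf u = p := by
    refine orderOf_eq_prime h.u_pow fun h1 => ?_
    have h0 := h.hN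
    rw [h1, map_one, Units.val_one, sub_self] at h0
    exact h.regular.pow_notMem_fil (show 1 < d by omega) (by rw [← h0]; simp)
  have hsumu : ∀ Φ : Form (ZMod p) V r, ∑ g : Subgroup.zpowers u, act r (ρ g) Φ =
      ∑ i ∈ Finset.range p, act r (ρ u ^ i) Φ := by
    intro Φ
    rw [← Fin.sum_univ_eq_sum_range (fun i => act r (ρ u ^ i) Φ)]
    refine (Fintype.sum_equiv ((finCongr hordu.symm).trans (finEquivZPowers (isOfFinOrder_of_finite u)))
      _ _ fun i => ?_).symm
    simp [finEquivZPowers_apply]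
  have hsumT : ∀ Φ : Form (ZMod p) V r, ∑ g : (T : Subgroup X), act r (ρ g) Φ =
      ∑ i ∈ Finset.range p, act r (ρ u ^ i) (∑ j ∈ Finset.range p, act r (ρ z ^ j) Φ) := by
    intro Φ
    let φ : Fin p × Fin p → (T : Subgroup X) := fun ab =>
      ⟨u ^ (ab.1 : ℕ) * z ^ (ab.2 : ℕ), mul_mem (pow_mem h.mem_u _) (pow_mem h.mem_z _)⟩
    have hφ : Function.Bijective φ := by
      constructor
      · rintro ⟨a, b⟩ ⟨a', b'⟩ hab
        have hab' : u ^ (a : ℕ) * z ^ (b : ℕ) = u ^ (a' : ℕ) * z ^ (b' : ℕ) := congrArg Subtype.val hab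
        have hl : ((a : ℕ) : ZMod p) = ((a' : ℕ) : ZMod p) := by
          by_contra hne
          have h1 := sub_mem (h.lead a' b') (h.lead a b)
          rw [hab', sub_sub_sub_cancel_left, ← sub_smul] at h1
          exact h.regular.pow_notMem_fil (show 1 < d by omega)
            (by simpa using (Submodule.smul_mem_iff _ (sub_ne_zero.2 hne)).1 h1)
        rw [ZMod.natCast_eq_natCast_iff', Nat.mod_eq_of_lt a.isLt, Nat.mod_eq_of_lt a'.isLt] at hl
        rw [hl] at hab'
        have hb := pow_inj_mod.1 (mul_left_cancel hab')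
        rw [hord, Nat.mod_eq_of_lt b.isLt, Nat.mod_eq_of_lt b'.isLt] at hb
        exact Prod.ext (Fin.ext hl) (Fin.ext hb)
      · rintro ⟨t, ht⟩
        obtain ⟨a, b, rfl⟩ := h.exists_pows t ht
        refine ⟨(⟨a % p, Nat.mod_lt _ hp.pos⟩, ⟨b % p, Nat.mod_lt _ hp.pos⟩), Subtype.ext ?_⟩
        show u ^ (a % p) * z ^ (b % p) = u ^ a * z ^ b
        rw [← pow_eq_pow_mod a h.u_pow, ← pow_eq_pow_mod b h.z_pow]
    rw [← Fin.sum_univ_eq_sum_range (fun i => act r (ρ u ^ i) _)]
    simp only [← Fin.sum_univ_eq_sum_range (fun j => act r (ρ z ^ j) Φ), map_sum]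
    rw [← Fintype.sum_prod_type']
    exact (Fintype.sum_bijective φ hφ _ _ fun ab => by simp [φ]).symm
  -- the three parts
  have hO : (((p - 1 : ℕ) : ℤ)) = (p : ℤ) - 1 := by have := hp.pos; omega
  have hpartB : ∑ q ∈ cB, F q ∈ filForm N r 1 (p : ℤ) := by
    refine sum_mem_of_free (G := Subgroup.zpowers u) (filForm N r 1 (p : ℤ)).toAddSubmonoid F cB hinvB
      hfreeB fun q hq => ?_
    simp only [cB, Finset.mem_filter] at hq
    have h0 : F q ∈ filForm N r 1 ((p : ℤ) - 1 - ∑ l, (δ l : ℤ)) := by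
      simp only [F, hF0, act_pureForm]
      refine pureForm_mem (fun l => (e l : ℤ) - δ l) (fun l => hS.conj _ hq.2.1 l) ?_ (le_of_eq ?_)
      · rw [hS.delta_zero]; have := hS.pos; omega
      · rw [Finset.sum_sub_distrib, ← Nat.cast_sum (s := Finset.univ) (f := e), hS.sum_eq, hO]
    have h1 := act_sum_pow_mem (δ := 1) (by omega) (ρ u)
      (by rw [h.hN]; simpa using pow_self_mem_fil N 1) (h.inv_fil_zero h.mem_u) h0
    rw [← hsumu] at h1
    have h2 : ∑ g : Subgroup.zpowers u, F (g • q) = ∑ g : Subgroup.zpowers u, act r (ρ g) (F q) :=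
      Finset.sum_congr rfl fun g _ => hFsmul g q
    show _ ∈ filForm N r 1 (p : ℤ)
    rw [h2]
    refine filForm_anti le_rfl ?_ h1
    have := hS.sum_delta
    rw [← Nat.cast_sum]
    omega
  have hpartC : ∑ q ∈ cC, F q ∈ filForm N r (-((d : ℤ) - 1))
      (-((r : ℤ) + 1) * ((d : ℤ) - 1) + ((p : ℤ) - 1) * (1 + k)) := by
    refine sum_mem_of_free (G := (T : Subgroup X)) (filForm N r _ _).toAddSubmonoid F cC hinvC
      hfreeC fun q _ => ?_
    have h0 : F q ∈ filForm N r (-((d : ℤ) - 1)) (-((r : ℤ) + 1) * ((d : ℤ) - 1)) := by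
      simp only [F, hF0, act_pureForm]
      refine pureForm_mem (fun _ => -((d : ℤ) - 1)) (fun l => h.regular.mem_fil_neg _) le_rfl
        (le_of_eq ?_)
      simp only [Finset.sum_const, Finset.card_univ, Fintype.card_fin, nsmul_eq_mul]
      push_cast
      ring
    have h1 := act_sum_pow_mem (δ := (k : ℤ)) (by omega) (ρ z) h.z_fil (h.inv_fil_zero h.mem_z) h0
    have h2 := act_sum_pow_mem (δ := 1) (by omega) (ρ u)
      (by rw [h.hN]; simpa using pow_self_mem_fil N 1) (h.inv_fil_zero h.mem_u) h1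
    rw [← hsumT] at h2
    have h3 : ∑ g : (T : Subgroup X), F (g • q) = ∑ g : (T : Subgroup X), act r (ρ g) (F q) :=
      Finset.sum_congr rfl fun g _ => hFsmul g q
    show _ ∈ filForm N r _ _
    rw [h3]
    exact filForm_anti le_rfl (le_of_eq (by ring)) h2
  have hpartA : ∀ q ∈ cA, F q - F0 ∈ filForm N r 1 (p : ℤ) := by
    intro q hq
    simp only [cA, Finset.mem_filter] at hq
    set n := q.out
    set G : Module.End (ZMod p) V := (ρ n : Module.End (ZMod p) V)
    set G' : Module.End (ZMod p) V := (↑(ρ n)⁻¹ : Module.End (ZMod p) V)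
    have hnu : n * u * n⁻¹ ∈ (T : Subgroup X) := (Subgroup.mem_normalizer_iff.1 hq.2 u).1 h.mem_u
    obtain ⟨a, b, hab⟩ := h.exists_pows _ hnu
    have hconjN : G * N * G' = (ρ (u ^ a * z ^ b) : Module.End (ZMod p) V) - 1 := by
      rw [← hab, ← h.hN]
      simp [G, G', mul_sub, sub_mul]
    have ha : (a : ZMod p) ≠ 0 := by
      intro ha
      obtain ⟨a', rfl⟩ := (ZMod.natCast_eq_zero_iff a p).1 ha
      rw [pow_mul, h.u_pow, one_pow, one_mul] at hab
      have h1 := h.mem_zpowers_conj (g := n⁻¹) (t := n * u * n⁻¹) (hab ▸ ⟨b, zpow_natCast z b⟩)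
        (by simpa [mul_assoc] using h.mem_u)
      have h2 := h.not_regular_of_mem h1
      simp only [mul_assoc, inv_inv, inv_mul_cancel_left, inv_mul_cancel, mul_one, h.hN] at h2
      exact h.regular.pow_ne h2
    have hN1 : N ∈ fil N 1 := by simpa using pow_self_mem_fil N 1
    have hlead : G * N * G' - (a : ZMod p) • N ∈ fil N 2 := by rw [hconjN]; exact h.lead a b
    have hfilN : G * N * G' ∈ fil N 1 := by
      rw [hconjN]; exact h.sub_one_fil (mul_mem (pow_mem h.mem_u a) (pow_mem h.mem_z b))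
    have hGfil : ∀ m ∈ NT, (ρ m : Module.End (ZMod p) V) ∈ fil N 0 := by
      intro m hm j v hv
      obtain ⟨w, rfl⟩ := hv
      have hmu : m * u * m⁻¹ ∈ (T : Subgroup X) := (Subgroup.mem_normalizer_iff.1 hm u).1 h.mem_u
      have hc : (ρ m : Module.End (ZMod p) V) * N = ((ρ (m * u * m⁻¹) : Module.End (ZMod p) V) - 1) *
          (ρ m : Module.End (ZMod p) V) := by
        rw [← h.hN]
        simp [mul_sub, sub_mul, mul_assoc]
      have hc' : (ρ m : Module.End (ZMod p) V) * N ^ j =
          ((ρ (m * u * m⁻¹) : Module.End (ZMod p) V) - 1) ^ j * (ρ m : Module.End (ZMod p) V) :=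
        (SemiconjBy.pow_right hc j).eq
      rw [← Module.End.mul_apply, hc', Module.End.mul_apply]
      exact flag_anti N (by omega) (pow_mem_fil (h.sub_one_fil hmu) j 0 _ (by rw [flag_zero]; trivial))
    have hG : G ∈ fil N 0 := hGfil n hq.2
    have hG' : G' ∈ fil N 0 := by have := hGfil n⁻¹ (inv_mem hq.2); rwa [map_inv] at this
    show act r (ρ n) F0 - F0 ∈ filForm N r 1 (p : ℤ)
    rw [hF0, act_pureForm]
    have hfil : ∀ l, f l ∈ fil N (e l : ℤ) := fun l => by
      have := add_mem (fil_anti (show (e l : ℤ) ≤ (e l : ℤ) + 1 by omega) (hS.lead l))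
        (Submodule.smul_mem _ (c l) (pow_self_mem_fil N (e l)))
      rwa [sub_add_cancel] at this
    have hkey : ∀ l, G * f l * G' - ((a : ZMod p) ^ (e l)) • f l ∈ fil N ((e l : ℤ) + 1) := by
      intro l
      have h1 : G * (f l - c l • N ^ e l) * G' ∈ fil N ((e l : ℤ) + 1) := by
        simpa using mul_mem_fil (mul_mem_fil hG (hS.lead l)) hG'
      have h2 : c l • ((G * N * G') ^ e l - ((a : ZMod p) • N) ^ e l) ∈ fil N ((e l : ℤ) + 1) := by
        refine Submodule.smul_mem _ _ ?_
        have := pow_sub_pow_mem_fil (a := 1) hfilN (Submodule.smul_mem _ (a : ZMod p) hN1)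
          hlead (e l)
        rwa [one_mul] at this
      have h3 : ((a : ZMod p) ^ e l) • (f l - c l • N ^ e l) ∈ fil N ((e l : ℤ) + 1) :=
        Submodule.smul_mem _ _ (hS.lead l)
      have h4 := sub_mem (add_mem h1 h2) h3
      rw [show (G * N * G') ^ e l = G * N ^ e l * G' from Units.conj_pow (ρ n) N (e l), smul_pow] at h4
      convert h4 using 1
      simp only [mul_sub, sub_mul, smul_sub, mul_smul_comm, smul_mul_assoc, smul_smul, mul_comm (c l)]
      abel
    have hprod : ∏ l, (a : ZMod p) ^ e l = 1 := by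
      rw [Finset.prod_pow_eq_pow_sum, hS.sum_eq, ZMod.pow_card_sub_one_eq_one ha]
    have h5 := pureForm_sub_mem (δ := (1 : ℤ)) (by omega) (fun l => (e l : ℤ))
      (g := fun l => ((a : ZMod p) ^ (e l)) • f l) (fun l => Submodule.smul_mem _ _ (hfil l))
      (show (1 : ℤ) ≤ (e 0 : ℤ) by exact_mod_cast hS.pos) hkey
    rw [pureForm_smul, hprod, one_smul] at h5
    refine filForm_anti le_rfl (le_of_eq ?_) h5
    rw [← Nat.cast_sum, hS.sum_eq, hO]
    ring
  -- the number of fixed cosets is prime to `p`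
  have hcardA : ((cA.card : ℕ) : ZMod p) ≠ 0 := by
    intro h0
    have hB : ((cB.card : ℕ) : ZMod p) = 0 := by
      have := sum_mem_of_free (G := Subgroup.zpowers u) (⊥ : AddSubmonoid (ZMod p)) (fun _ => (1 : ZMod p))
        cB hinvB hfreeB fun q _ => by
          rw [AddSubmonoid.mem_bot]
          simp [← Nat.card_eq_fintype_card, Nat.card_zpowers, hordu]
      simpa using this
    have hC : ((cC.card : ℕ) : ZMod p) = 0 := by
      have hT : p ∣ Nat.card (T : Subgroup X) := by
        exact (dvd_of_eq hordu.symm).trans (Subgroup.orderOf_dvd_natCard _ h.mem_u)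
      have := sum_mem_of_free (G := (T : Subgroup X)) (⊥ : AddSubmonoid (ZMod p)) (fun _ => (1 : ZMod p))
        cC hinvC hfreeC fun q _ => by
          rw [AddSubmonoid.mem_bot]
          simp [← Nat.card_eq_fintype_card, (ZMod.natCast_eq_zero_iff _ p).2 hT]
      simpa using this
    have htot : Fintype.card (X ⧸ (T : Subgroup X)) = cA.card + cB.card + cC.card := by
      have e1 : (Finset.univ.filter fun q : X ⧸ (T : Subgroup X) => q.out ∈ H).card = cA.card + cB.card := by
        rw [← Finset.card_filter_add_card_filter_not (fun q : X ⧸ (T : Subgroup X) => q.out ∈ NT),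
          Finset.filter_filter, Finset.filter_filter]
        congr 1
        refine congrArg _ (Finset.filter_congr fun q _ => ?_)
        exact ⟨fun hh => hh.2, fun hh => ⟨hNH hh, hh⟩⟩
      rw [← e1, ← Finset.card_univ,
        ← Finset.card_filter_add_card_filter_not (fun q : X ⧸ (T : Subgroup X) => q.out ∈ H)]
    have hidx : ¬ p ∣ (T : Subgroup X).index := T.not_dvd_index
    refine hidx ?_
    rw [← ZMod.natCast_eq_zero_iff, Subgroup.index, Nat.card_eq_fintype_card, htot]
    push_cast
    rw [h0, hB, hC, add_zero, add_zero]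
  -- the relative trace
  set S := ∑ q : X ⧸ (T : Subgroup X), F q with hSdef
  have hsplit : S = (∑ q ∈ cA, F q) + (∑ q ∈ cB, F q) + ∑ q ∈ cC, F q := by
    have e1 : ∑ q ∈ Finset.univ.filter (fun q : X ⧸ (T : Subgroup X) => q.out ∈ H), F q =
        (∑ q ∈ cA, F q) + ∑ q ∈ cB, F q := by
      rw [← Finset.sum_filter_add_sum_filter_not _ (fun q : X ⧸ (T : Subgroup X) => q.out ∈ NT),
        Finset.filter_filter, Finset.filter_filter]
      congr 1
      refine Finset.sum_congr (Finset.filter_congr fun q _ => ?_) fun _ _ => rfl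
      exact ⟨fun hh => hh.2, fun hh => ⟨hNH hh, hh⟩⟩
    rw [hSdef, ← e1, Finset.sum_filter_add_sum_filter_not]
  have hF0mem : F0 ∈ filForm N r 1 ((p : ℤ) - 1) := by
    refine pureForm_mem (fun l => (e l : ℤ)) (fun l => ?_) (by exact_mod_cast hS.pos)
      (le_of_eq (by rw [← Nat.cast_sum, hS.sum_eq, hO]))
    have := add_mem (fil_anti (show (e l : ℤ) ≤ (e l : ℤ) + 1 by omega) (hS.lead l))
      (Submodule.smul_mem _ (c l) (pow_self_mem_fil N (e l)))
    rwa [sub_add_cancel] at this
  have hsA : ∑ q ∈ cA, F q - (cA.card : ℕ) • F0 ∈ filForm N r 1 (p : ℤ) := by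
    rw [← Finset.sum_const, ← Finset.sum_sub_distrib]
    exact Submodule.sum_mem _ hpartA
  have hrange : (2 * (r : ℤ) + 1) * ((d : ℤ) - 1) < ((p : ℤ) - 1) * (1 + k) := by
    have := hS.range
    zify [show 1 ≤ d by omega, hp.one_le] at this
    exact this
  have hdegree : ((p : ℤ) - 1) + ((r : ℤ) + 1) * ((d : ℤ) - 1) < ((p : ℤ) - 1) * (1 + k) := by
    have := hS.degree
    zify [show 1 ≤ d by omega, hp.one_le] at this
    exact this
  have hval : ∀ A, S A ∈ fil N 1 := by
    intro A
    rw [hsplit]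
    have h1 : ∑ q ∈ cA, F q ∈ filForm N r 1 ((p : ℤ) - 1) := by
      have := add_mem (filForm_anti le_rfl (show (p : ℤ) - 1 ≤ (p : ℤ) by omega) hsA)
        (Submodule.smul_mem _ ((cA.card : ℕ) : ZMod p) hF0mem)
      rwa [← Nat.cast_smul_eq_nsmul (ZMod p), sub_add_cancel] at this
    refine add_mem (add_mem ?_ ?_) ?_
    · exact fil_anti (le_max_left _ _) (eval_mem_fil_all h.regular h1 A)
    · exact fil_anti (le_max_left _ _) (eval_mem_fil_all h.regular hpartB A)
    · refine fil_anti ?_ (eval_mem_fil_all h.regular hpartC A)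
      refine le_max_of_le_right ?_
      nlinarith
  have hne : S ≠ 0 := by
    intro h0
    choose B hB hBtr using fun l : Fin r => h.regular.exists_dual (hS.lt l.succ)
    have hR : S - (cA.card : ℕ) • F0 ∈ filForm N r (-((d : ℤ) - 1)) (p : ℤ) := by
      rw [hsplit, show ∀ a b c' w : Form (ZMod p) V r, a + b + c' - w = (a - w) + b + c' from
        fun a b c' w => by abel]
      refine add_mem (add_mem (filForm_anti (by omega) le_rfl hsA) (filForm_anti (by omega) le_rfl hpartB))
        (filForm_anti le_rfl (by nlinarith) hpartC)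
    rw [h0, zero_sub, neg_mem_iff, ← Nat.cast_smul_eq_nsmul (ZMod p),
      Submodule.smul_mem_iff _ hcardA] at hR
    have h1 := eval_mem_fil h.regular hR (A := B) (c := fun l => -((e l.succ : ℕ) : ℤ)) hB
    rw [hF0, pureForm_apply] at h1
    have htr : ∀ l : Fin r, LinearMap.trace (ZMod p) V (B l * f l.succ) = c l.succ := by
      intro l
      have h2 : B l * (f l.succ - c l.succ • N ^ e l.succ) ∈ fil N 1 := by
        simpa using mul_mem_fil (hB l) (hS.lead l.succ)
      have h3 := h.regular.trace_eq_zero le_rfl h2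
      rw [mul_sub, mul_smul_comm, map_sub, map_smul, hBtr, smul_eq_mul, mul_one, sub_eq_zero] at h3
      exact h3
    simp only [htr] at h1
    have hlow : ((e 0 : ℕ) : ℤ) + 1 ≤ max (-((d : ℤ) - 1)) ((p : ℤ) + ∑ l : Fin r, -((e l.succ : ℕ) : ℤ)) := by
      refine le_max_of_le_right ?_
      have := hS.sum_eq
      rw [Fin.sum_univ_succ] at this
      rw [Finset.sum_neg_distrib, ← Nat.cast_sum]
      omega
    have h4 := (Submodule.smul_mem_iff _ (Finset.prod_ne_zero_iff.2 fun l _ => hS.c_ne l.succ)).1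
      (fil_anti hlow h1)
    have h5 := sub_mem h4 (hS.lead 0)
    rw [sub_sub_cancel, Submodule.smul_mem_iff _ (hS.c_ne 0)] at h5
    exact h.regular.pow_notMem_fil (hS.lt 0) h5
  have hequiv : ∀ (x : X), act r (ρ x) S = S := by
    intro x
    rw [hSdef, map_sum]
    exact Fintype.sum_equiv (MulAction.toPerm x) _ _ fun q => (hFsmul x q).symm
  set W : Submodule (ZMod p) V := ⨆ A, LinearMap.range (S A) with hW
  have hWinv : ∀ x : X, ∀ v ∈ W, (ρ x : Module.End (ZMod p) V) v ∈ W := by
    intro x v hv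
    rw [hW] at hv ⊢
    induction hv using Submodule.iSup_induction' with
    | zero => simp
    | add v w _ _ hv hw => rw [map_add]; exact add_mem hv hw
    | mem A v hv =>
      obtain ⟨w, rfl⟩ := hv
      refine Submodule.mem_iSup_of_mem (fun l => (ρ x : Module.End (ZMod p) V) * A l *
        (↑(ρ x)⁻¹ : Module.End (ZMod p) V)) ⟨(ρ x : Module.End (ZMod p) V) w, ?_⟩
      have h1 := congrFun (hequiv x) (fun l => (ρ x : Module.End (ZMod p) V) * A l *
        (↑(ρ x)⁻¹ : Module.End (ZMod p) V))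
      rw [act_apply] at h1
      rw [← h1]
      simp only [mul_assoc, Units.inv_mul, mul_one, Units.inv_mul_cancel_left, Module.End.mul_apply]
      rw [← Module.End.mul_apply (↑(ρ x)⁻¹ : Module.End (ZMod p) V), Units.inv_mul, Module.End.one_apply]
  have hWN : ∀ v ∈ W, N v ∈ W := by
    intro v hv
    rw [← h.hN, LinearMap.sub_apply, Module.End.one_apply]
    exact sub_mem (hWinv u v hv) hv
  have hW1 : W ≤ flag N 1 := iSup_le fun A => by
    rintro _ ⟨v, rfl⟩
    exact hval A 0 v (by rw [flag_zero]; trivial)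
  obtain ⟨l, hl, hWl⟩ := h.regular.exists_eq_flag hWN
  refine ⟨l, ?_, ?_, fun x v hv => ?_⟩
  · by_contra hl0
    obtain rfl : l = 0 := by omega
    have := h.regular.flag_injective (a := 1) (b := 0) (by omega) (by omega)
      (le_antisymm (flag_anti N (by omega)) (hWl ▸ hW1))
    omega
  · refine lt_of_le_of_ne hl fun hld => hne ?_
    funext A
    refine LinearMap.range_eq_bot.1 (eq_bot_iff.2 ?_)
    rw [← h.regular.flag_eq_bot (le_refl d), ← hld, ← hWl, hW]
    exact le_iSup (fun A => LinearMap.range (S A)) A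
  · rw [← hWl] at hv ⊢
    exact hWinv x v hv

end CfsgLib.RegUnip.TwoRank
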