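import Mathlib
import Cfsg.Agent.QdSection.Dickson

/-!
An irreducible module for two quadratically acting generators is the natural module of a two-dimensional
special linear group.
-/

set_option autoImplicit false

namespace CfsgLib.RegUnip

open Matrix
open CfsgLib.GlaubermanZJ (mem_of_closure_pair pow_p_eq_one)

/-- The properties of an irreducible section used later. -/
structure SectionProps (p : ℕ) [Fact p.Prime] {Y U : Type*} [Group Y] [AddCommGroup U] [Module (ZMod p) U]
    (σ : Y →* Module.End (ZMod p) U) (z w : Y) : Prop where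
  neg_ne : (-1 : Module.End (ZMod p) U) ≠ 1
  noncomm : ¬ Commute (σ z) (σ w)
  scalar : ∀ x, Commute (σ x) (σ z) → Commute (σ x) (σ w) → σ x = 1 ∨ σ x = -1
  ker_le : LinearMap.ker (σ z - 1) ≤ LinearMap.range (σ z - 1)
  involution : ∀ x, σ x * σ x = 1 → σ x = 1 ∨ σ x = -1
  exists_four : ∃ y, σ y * σ y = -1
  exists_scaling : ∃ (h : Y) (r : ℕ), (r : ZMod p) ≠ 1 ∧ σ (h * z * h⁻¹) = σ (z ^ r)

section SL

theorem val_mul {n R : Type*} [DecidableEq n] [Fintype n] [CommRing R] (A B : SpecialLinearGroup n R) :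
    (A * B).1 = A.1 * B.1 := rfl

theorem val_one {n R : Type*} [DecidableEq n] [Fintype n] [CommRing R] :
    (1 : SpecialLinearGroup n R).1 = 1 := rfl

theorem val_inv {n R : Type*} [DecidableEq n] [Fintype n] [CommRing R] (A : SpecialLinearGroup n R) :
    (A⁻¹).1 = Matrix.adjugate A.1 := rfl

theorem val_pow {n R : Type*} [DecidableEq n] [Fintype n] [CommRing R] (A : SpecialLinearGroup n R) (m : ℕ) :
    (A ^ m).1 = A.1 ^ m := Matrix.SpecialLinearGroup.coe_pow A m

variable {p : ℕ} [Fact p.Prime] {L : Type*} [Field L] [CharP L p]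

theorem isPGroup_zpowers_of_pow' {G : Type*} [Group G] {p : ℕ} {x : G} (hx : x ^ p = 1) :
    IsPGroup p (Subgroup.zpowers x) := by
  rintro ⟨y, i, rfl⟩
  refine ⟨1, Subtype.ext ?_⟩
  show (x ^ i) ^ p ^ 1 = 1
  rw [pow_one, ← zpow_natCast, zpow_comm, zpow_natCast, hx, _root_.one_zpow]

theorem eq_one_of_pow_eq_one_of_eq_pm {x : L} (hp : p ≠ 2) (hx : x = 1 ∨ x = -1) {k : ℕ}
    (hk : x ^ p ^ k = 1) : x = 1 := by
  rcases hx with h | h
  · exact h
  · rw [h, ((Fact.out : p.Prime).odd_of_ne_two hp).pow.neg_one_pow] at hk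
    exact h.trans hk

/-- A `p`-subgroup containing a nontrivial upper unitriangular element is upper unitriangular. -/
theorem upper_of_isPGroup (hp : p ≠ 2) {G : Subgroup (SpecialLinearGroup (Fin 2) L)} [Finite G]
    {Q : Subgroup G} (hQ : IsPGroup p Q) {t : L} (ht : t ≠ 0) {a : G} (ha : a ∈ Q)
    (hat : (a : SpecialLinearGroup (Fin 2) L).1 = !![1, t; 0, 1]) :
    ∀ q ∈ Q, (q : SpecialLinearGroup (Fin 2) L).1 1 0 = 0 ∧
      (q : SpecialLinearGroup (Fin 2) L).1 0 0 = 1 ∧ (q : SpecialLinearGroup (Fin 2) L).1 1 1 = 1 := by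
  have key : ∀ (x : G) (c : L), c ≠ 0 → ∀ y : G, (y : SpecialLinearGroup (Fin 2) L).1 = !![1, c; 0, 1] →
      Commute x y → ∀ k : ℕ, x ^ p ^ k = 1 →
      (x : SpecialLinearGroup (Fin 2) L).1 1 0 = 0 ∧
      (x : SpecialLinearGroup (Fin 2) L).1 0 0 = 1 ∧ (x : SpecialLinearGroup (Fin 2) L).1 1 1 = 1 := by
    intro x c hc y hy hxy k hk
    have h1 := congrArg (fun g : G => (g : SpecialLinearGroup (Fin 2) L).1) hxy.eq
    simp only [Subgroup.coe_mul, val_mul, hy] at h1
    set M := (x : SpecialLinearGroup (Fin 2) L).1 with hM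
    have h00 := congrFun (congrFun h1 0) 0
    have h01 := congrFun (congrFun h1 0) 1
    simp [Matrix.mul_apply, Fin.sum_univ_two] at h00 h01
    have hc10 : M 1 0 = 0 := h00.resolve_left hc
    have hdiag : M 0 0 = M 1 1 := by
      refine mul_right_cancel₀ hc ?_
      linear_combination h01
    have hdet : M.det = 1 := (x : SpecialLinearGroup (Fin 2) L).2
    rw [Matrix.det_fin_two, hc10, mul_zero, sub_zero, ← hdiag] at hdet
    have hpm : M 0 0 = 1 ∨ M 0 0 = -1 := mul_self_eq_one_iff.1 hdet
    have hpow : ∀ n : ℕ, ((M ^ n) 1 0 = 0) ∧ (M ^ n) 0 0 = M 0 0 ^ n := by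
      intro n
      induction n with
      | zero => simp
      | succ n ih =>
        rw [pow_succ, Matrix.mul_apply, Matrix.mul_apply, Fin.sum_univ_two, Fin.sum_univ_two, ih.1, ih.2, hc10]
        exact ⟨by ring, by ring⟩
    have hk' : M ^ p ^ k = 1 := by
      have := congrArg (fun g : G => (g : SpecialLinearGroup (Fin 2) L).1) hk
      simpa using this
    have h2 := (hpow (p ^ k)).2
    rw [hk', Matrix.one_apply_eq] at h2
    have h3 : M 0 0 = 1 := eq_one_of_pow_eq_one_of_eq_pm hp hpm h2.symm
    exact ⟨hc10, h3, hdiag ▸ h3⟩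
  intro q hq
  haveI : Nontrivial Q := ⟨⟨⟨a, ha⟩, 1, fun h => ht (by
    have h2 := congrArg (fun g : Q => ((g : G) : SpecialLinearGroup (Fin 2) L).1 0 1) h
    simpa [hat] using h2)⟩⟩
  haveI := hQ.center_nontrivial
  obtain ⟨⟨x, hxc⟩, hx1⟩ := exists_ne (1 : Subgroup.center Q)
  obtain ⟨k, hk⟩ := hQ x
  have hk' : (x : G) ^ p ^ k = 1 := congrArg Subtype.val hk
  obtain ⟨h10, h00, h11⟩ := key (x : G) t ht a hat
    (congrArg Subtype.val (Subgroup.mem_center_iff.1 hxc ⟨a, ha⟩)).symm k hk'
  have hxc0 : (((x : G) : SpecialLinearGroup (Fin 2) L)).1 0 1 ≠ 0 := by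
    intro h01
    refine hx1 (Subtype.ext (Subtype.ext (Subtype.ext (Subtype.ext ?_))))
    show ((x : G) : SpecialLinearGroup (Fin 2) L).1 = 1
    ext i j
    fin_cases i <;> fin_cases j <;> simp [h10, h00, h11, h01]
  have hxmat : ((x : G) : SpecialLinearGroup (Fin 2) L).1 =
      !![1, ((x : G) : SpecialLinearGroup (Fin 2) L).1 0 1; 0, 1] := by
    ext i j
    fin_cases i <;> fin_cases j <;> simp [h10, h00, h11]
  obtain ⟨l, hl⟩ := hQ ⟨q, hq⟩
  exact key q _ hxc0 (x : G) hxmat (congrArg Subtype.val (Subgroup.mem_center_iff.1 hxc ⟨q, hq⟩))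
    l (congrArg Subtype.val hl)

/-- The group facts about a finite subgroup generated by two opposite transvections. -/
theorem sl_facts [Finite L] (hp : 5 ≤ p) {θ : L} (hθ : θ ≠ 0) (G : Subgroup (SpecialLinearGroup (Fin 2) L))
    (a b : G) (ha : (a : SpecialLinearGroup (Fin 2) L).1 = !![1, θ; 0, 1])
    (hb : (b : SpecialLinearGroup (Fin 2) L).1 = !![1, 0; 1, 1]) :
    (∃ g : G, ((g : SpecialLinearGroup (Fin 2) L).1) * (g : SpecialLinearGroup (Fin 2) L).1 = -1) ∧
    ∃ (h : G) (r : ℕ), (r : ZMod p) ≠ 1 ∧ h * a * h⁻¹ = a ^ r := by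
  have hpp : p.Prime := Fact.out
  have hp2 : p ≠ 2 := by omega
  have hap : a ^ p = 1 := by
    refine Subtype.ext (Subtype.ext ?_)
    have hpow : ∀ n : ℕ, ((a : SpecialLinearGroup (Fin 2) L).1) ^ n = !![1, (n : L) * θ; 0, 1] := by
      intro n
      induction n with
      | zero => ext i j; fin_cases i <;> fin_cases j <;> simp
      | succ n ih =>
        rw [pow_succ, ih, ha]
        ext i j
        fin_cases i <;> fin_cases j <;> simp [Matrix.mul_apply, Fin.sum_univ_two] <;> ring
    simp only [Subgroup.coe_pow, val_pow, hpow, Subgroup.coe_one, val_one,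
      CharP.cast_eq_zero L p, zero_mul]
    exact (Matrix.one_fin_two).symm
  have hbp : b ^ p = 1 := by
    refine Subtype.ext (Subtype.ext ?_)
    have hpow : ∀ n : ℕ, ((b : SpecialLinearGroup (Fin 2) L).1) ^ n = !![1, 0; (n : L), 1] := by
      intro n
      induction n with
      | zero => ext i j; fin_cases i <;> fin_cases j <;> simp
      | succ n ih =>
        rw [pow_succ, ih, hb]
        ext i j
        fin_cases i <;> fin_cases j <;> simp [Matrix.mul_apply, Fin.sum_univ_two]
    simp only [Subgroup.coe_pow, val_pow, hpow, Subgroup.coe_one, val_one,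
      CharP.cast_eq_zero L p]
    exact (Matrix.one_fin_two).symm
  have hsyl : 1 < Nat.card (Sylow p G) := by
    by_contra hle
    have : Subsingleton (Sylow p G) := Finite.card_le_one_iff_subsingleton.1 (by omega)
    obtain ⟨P, haP⟩ := (isPGroup_zpowers_of_pow' hap).exists_le_sylow
    obtain ⟨P', hbP⟩ := (isPGroup_zpowers_of_pow' hbp).exists_le_sylow
    rw [Subsingleton.elim P' P] at hbP
    have := (upper_of_isPGroup hp2 P.isPGroup' hθ (haP (Subgroup.mem_zpowers a)) ha b
      (hbP (Subgroup.mem_zpowers b))).1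
    simp [hb] at this
  obtain ⟨K, hKG, ⟨e⟩⟩ := CfsgLib.QdSection.exists_equiv_sl2_of_sylow hp2 G hsyl
  let ψ : SpecialLinearGroup (Fin 2) (ZMod p) →* G := (Subgroup.inclusion hKG).comp e.symm.toMonoidHom
  have hψ : Function.Injective ψ := (Subgroup.inclusion_injective hKG).comp e.symm.injective
  constructor
  · let J : SpecialLinearGroup (Fin 2) (ZMod p) := ⟨!![0, 1; -1, 0], by simp [Matrix.det_fin_two]⟩
    have hJm : J.1 = !![0, 1; -1, 0] := rfl
    refine ⟨ψ J, ?_⟩
    have hJ : J * J ≠ 1 := by
      intro h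
      have h1 := congrFun (congrFun (congrArg Subtype.val h) 0) 0
      simp [val_mul, val_one, hJm, Matrix.mul_apply, Fin.sum_univ_two] at h1
      exact hp2 (by
        have h2 : ((2 : ℕ) : ZMod p) = 0 := by push_cast; linear_combination -h1
        rw [ZMod.natCast_eq_zero_iff] at h2
        exact (Nat.prime_dvd_prime_iff_eq hpp Nat.prime_two).1 h2)
    have hJ4 : (J * J) * (J * J) = 1 := by
      apply Subtype.ext
      ext i j
      fin_cases i <;> fin_cases j <;> simp [val_mul, val_one, hJm, Matrix.mul_apply, Fin.sum_univ_two]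
    set g := ((ψ J * ψ J : G) : SpecialLinearGroup (Fin 2) L)
    have hg : g * g = 1 := by
      rw [← Subgroup.coe_mul, ← map_mul, ← map_mul, hJ4, map_one, Subgroup.coe_one]
    have hg1 : g ≠ 1 := fun h => hJ (hψ (by rw [map_mul, map_one]; exact Subtype.ext h))
    have hinv : g⁻¹ = g := inv_eq_of_mul_eq_one_right hg
    have hmat := congrArg Subtype.val hinv
    rw [val_inv, Matrix.adjugate_fin_two] at hmat
    have e00 := congrFun (congrFun hmat 0) 0
    have e01 := congrFun (congrFun hmat 0) 1
    have e10 := congrFun (congrFun hmat 1) 0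
    simp at e00 e01 e10
    have h2 : (2 : L) ≠ 0 := by
      intro h
      have h2' : ((2 : ℕ) : L) = 0 := by exact_mod_cast h
      rw [CharP.cast_eq_zero_iff L p] at h2'
      exact hp2 ((Nat.prime_dvd_prime_iff_eq hpp Nat.prime_two).1 h2')
    have z01 : g.1 0 1 = 0 := by
      have : (2 : L) * g.1 0 1 = 0 := by linear_combination -e01
      exact (mul_eq_zero.1 this).resolve_left h2
    have z10 : g.1 1 0 = 0 := by
      have : (2 : L) * g.1 1 0 = 0 := by linear_combination -e10
      exact (mul_eq_zero.1 this).resolve_left h2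
    have hdet : g.1.det = 1 := g.2
    rw [Matrix.det_fin_two, z01, z10, mul_zero, sub_zero, e00] at hdet
    have hneg : g.1 0 0 = -1 := by
      rcases mul_self_eq_one_iff.1 hdet with h | h
      · refine absurd ?_ hg1
        apply Subtype.ext
        ext i j
        fin_cases i <;> fin_cases j <;> simp [z01, z10, h, e00]
      · exact h
    have : ((ψ J * ψ J : G) : SpecialLinearGroup (Fin 2) L).1 = -1 := by
      show g.1 = -1
      ext i j
      fin_cases i <;> fin_cases j <;> simp [z01, z10, hneg, e00]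
    simpa using this
  · let u0 : SpecialLinearGroup (Fin 2) (ZMod p) := ⟨!![1, 1; 0, 1], by simp [Matrix.det_fin_two]⟩
    have h20 : (2 : ZMod p) ≠ 0 := by
      intro h
      have h2' : ((2 : ℕ) : ZMod p) = 0 := by exact_mod_cast h
      rw [ZMod.natCast_eq_zero_iff] at h2'
      exact hp2 ((Nat.prime_dvd_prime_iff_eq hpp Nat.prime_two).1 h2')
    let D0 : SpecialLinearGroup (Fin 2) (ZMod p) :=
      ⟨!![2, 0; 0, 2⁻¹], by simp [Matrix.det_fin_two, h20]⟩
    have hD0m : D0.1 = !![2, 0; 0, 2⁻¹] := rfl
    have hu0m : u0.1 = !![1, 1; 0, 1] := rfl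
    have hD0 : D0 * u0 = u0 ^ 4 * D0 := by
      apply Subtype.ext
      ext i j
      have h4 : (2 : ZMod p) * 2 * 2⁻¹ = 2 := by rw [mul_assoc, mul_inv_cancel₀ h20, mul_one]
      fin_cases i <;> fin_cases j <;>
        simp [hD0m, hu0m, val_mul, val_pow, pow_succ, Matrix.mul_apply, Fin.sum_univ_two] <;> linear_combination -h4
    have hu0p : u0 ^ p = 1 := by
      apply Subtype.ext
      have hpow : ∀ n : ℕ, (u0.1) ^ n = !![1, (n : ZMod p); 0, 1] := by
        intro n
        induction n with
        | zero => ext i j; fin_cases i <;> fin_cases j <;> simp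
        | succ n ih =>
          rw [pow_succ, ih]
          ext i j
          fin_cases i <;> fin_cases j <;> simp [hu0m, Matrix.mul_apply, Fin.sum_univ_two] <;> ring
      rw [val_pow, hpow, ZMod.natCast_self, val_one]
      exact (Matrix.one_fin_two).symm
    obtain ⟨P, haP⟩ := (isPGroup_zpowers_of_pow' hap).exists_le_sylow
    obtain ⟨P', huP⟩ := (isPGroup_zpowers_of_pow' (G := G) (p := p) (x := ψ u0)
      (by rw [← map_pow, hu0p, map_one])).exists_le_sylow
    obtain ⟨g, hg⟩ := MulAction.exists_smul_eq G P' P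
    have hu1P : g * ψ u0 * g⁻¹ ∈ (P : Subgroup G) := by
      rw [← hg, Sylow.coe_subgroup_smul]
      exact ⟨ψ u0, huP (Subgroup.mem_zpowers _), rfl⟩
    obtain ⟨h10, h00, h11⟩ := upper_of_isPGroup hp2 P.isPGroup' hθ (haP (Subgroup.mem_zpowers a)) ha _ hu1P
    set u1 := g * ψ u0 * g⁻¹ with hu1
    set h := g * ψ D0 * g⁻¹ with hh
    have hrel : h * u1 = u1 ^ 4 * h := by
      have := congrArg ψ hD0
      rw [map_mul, map_mul, map_pow] at this
      rw [hu1, hh, conj_pow]
      simp only [mul_assoc, inv_mul_cancel_left]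
      rw [← mul_assoc (ψ D0), this]
      simp only [mul_assoc]
    have hu1ne : (u1 : SpecialLinearGroup (Fin 2) L).1 0 1 ≠ 0 := by
      intro h01
      have h1 : u1 = 1 := by
        refine Subtype.ext (Subtype.ext ?_)
        ext i j
        fin_cases i <;> fin_cases j <;> simp [h10, h00, h11, h01]
      rw [hu1, conj_eq_one_iff] at h1
      have h2 := congrFun (congrFun (congrArg Subtype.val (hψ (h1.trans (map_one ψ).symm))) 0) 1
      simp [hu0m, val_one] at h2
    refine ⟨h, 4, ?_, ?_⟩
    · intro h4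
      have h3 : ((3 : ℕ) : ZMod p) = 0 := by
        push_cast at h4 ⊢
        linear_combination h4
      rw [ZMod.natCast_eq_zero_iff] at h3
      have := Nat.le_of_dvd (by norm_num) h3
      omega
    · rw [mul_inv_eq_iff_eq_mul]
      set X := (h : SpecialLinearGroup (Fin 2) L).1 with hX
      set t := (u1 : SpecialLinearGroup (Fin 2) L).1 0 1 with ht
      have hu1m : (u1 : SpecialLinearGroup (Fin 2) L).1 = !![1, t; 0, 1] := by
        ext i j
        fin_cases i <;> fin_cases j <;> simp [h10, h00, h11, ht]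
      have h1 := congrArg (fun g : G => (g : SpecialLinearGroup (Fin 2) L).1) hrel
      simp only [Subgroup.coe_mul, Subgroup.coe_pow, val_mul, val_pow,
        hu1m] at h1
      have e00 := congrFun (congrFun h1 0) 0
      have e01 := congrFun (congrFun h1 0) 1
      simp [pow_succ, Matrix.mul_apply, Fin.sum_univ_two] at e00 e01
      have hX10 : X 1 0 = 0 := by
        have h4 : (4 : L) ≠ 0 := by
          rw [show (4 : L) = 2 * 2 by norm_num]
          refine mul_ne_zero ?_ ?_ <;>
          · intro h
            have h2' : ((2 : ℕ) : L) = 0 := by exact_mod_cast h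
            rw [CharP.cast_eq_zero_iff L p] at h2'
            exact hp2 ((Nat.prime_dvd_prime_iff_eq hpp Nat.prime_two).1 h2')
        exact e00.resolve_left fun h0 => mul_ne_zero h4 hu1ne (by linear_combination h0)
      have hX00 : X 0 0 = 4 * X 1 1 := by
        refine mul_right_cancel₀ hu1ne ?_
        linear_combination e01
      refine Subtype.ext (Subtype.ext ?_)
      simp only [Subgroup.coe_mul, Subgroup.coe_pow, val_mul, val_pow, ha]
      ext i j
      fin_cases i <;> fin_cases j <;>
        simp [pow_succ, Matrix.mul_apply, Fin.sum_univ_two, ← hX, hX10, hX00] <;> ring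

end SL

variable {p : ℕ} [Fact p.Prime] {Y U : Type*} [Group Y] [Finite Y] [AddCommGroup U] [Module (ZMod p) U]
  [Finite U] [Nontrivial U]

/-- An irreducible section of two quadratic generators. -/
theorem sectionProps (hp : 5 ≤ p) (σ : Y →* Module.End (ZMod p) U) {z w : Y}
    (hgen : Subgroup.closure ({z, w} : Set Y) = ⊤)
    (hirr : ∀ W : Submodule (ZMod p) U, (∀ y : Y, ∀ v ∈ W, σ y v ∈ W) → W = ⊥ ∨ W = ⊤)
    (hz : (σ z - 1) * (σ z - 1) = 0) (hw : (σ w - 1) * (σ w - 1) = 0)
    (hne : ¬ (σ z = 1 ∧ σ w = 1)) : SectionProps p σ z w := by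
  classical
  set a := σ z - 1 with ha
  set b := σ w - 1 with hb
  have hza : σ z = 1 + a := by rw [ha, add_sub_cancel]
  have hwb : σ w = 1 + b := by rw [hb, add_sub_cancel]
  have hinv : ∀ W : Submodule (ZMod p) U, (∀ v ∈ W, a v ∈ W) → (∀ v ∈ W, b v ∈ W) → W = ⊥ ∨ W = ⊤ :=
    fun W hWa hWb => hirr W fun y => mem_of_closure_pair hgen
      (P := fun y => ∀ v ∈ W, σ y v ∈ W) (fun v hv => by simpa using hv)
      (fun x x' hx hx' v hv => by rw [map_mul]; exact hx _ (hx' v hv))
      (fun v hv => by rw [hza]; exact add_mem hv (hWa v hv))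
      (fun v hv => by rw [hwb]; exact add_mem hv (hWb v hv)) y
  have haa : ∀ v, a (a v) = 0 := fun v => LinearMap.congr_fun hz v
  have hbb : ∀ v, b (b v) = 0 := fun v => LinearMap.congr_fun hw v
  have hkerab : LinearMap.ker a ⊓ LinearMap.ker b = ⊥ := by
    refine (hinv _ (fun v hv => ?_) (fun v hv => ?_)).resolve_right fun h => hne ⟨?_, ?_⟩
    · rw [LinearMap.mem_ker.1 hv.1]; exact zero_mem _
    · rw [LinearMap.mem_ker.1 hv.2]; exact zero_mem _
    · rw [hza, show a = 0 from LinearMap.ext fun v =>
        LinearMap.mem_ker.1 (h ▸ Submodule.mem_top : v ∈ LinearMap.ker a ⊓ LinearMap.ker b).1, add_zero]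
    · rw [hwb, show b = 0 from LinearMap.ext fun v =>
        LinearMap.mem_ker.1 (h ▸ Submodule.mem_top : v ∈ LinearMap.ker a ⊓ LinearMap.ker b).2, add_zero]
  set θ := a * b + b * a with hθdef
  have hθa : Commute θ a := by
    show (a * b + b * a) * a = a * (a * b + b * a)
    rw [add_mul, mul_add, mul_assoc b, hz, mul_zero, add_zero, ← mul_assoc a a, hz, zero_mul, zero_add,
      mul_assoc]
  have hθb : Commute θ b := by
    show (a * b + b * a) * b = b * (a * b + b * a)
    rw [add_mul, mul_add, mul_assoc a b b, hw, mul_zero, zero_add, ← mul_assoc b b, hw, zero_mul, add_zero,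
      mul_assoc]
  have hkerbot : ∀ f : Module.End (ZMod p) U, Commute f a → Commute f b → f ≠ 0 → LinearMap.ker f = ⊥ := by
    intro f hfa hfb hf0
    refine (hinv _ (fun v hv => ?_) (fun v hv => ?_)).resolve_right fun h => hf0 (LinearMap.ker_eq_top.1 h)
    · rw [LinearMap.mem_ker, ← Module.End.mul_apply, hfa.eq, Module.End.mul_apply, LinearMap.mem_ker.1 hv, map_zero]
    · rw [LinearMap.mem_ker, ← Module.End.mul_apply, hfb.eq, Module.End.mul_apply, LinearMap.mem_ker.1 hv, map_zero]
  have hθ0 : θ ≠ 0 := by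
    intro h0
    obtain ⟨v, hv, hv0⟩ : ∃ v, a v = 0 ∧ v ≠ 0 := by
      obtain ⟨x, hx⟩ := exists_ne (0 : U)
      by_cases h : a x = 0
      · exact ⟨x, h, hx⟩
      · exact ⟨a x, haa x, h⟩
    have habv : a (b v) = 0 := by
      have h1 := LinearMap.congr_fun h0 v
      simp only [hθdef, LinearMap.add_apply, Module.End.mul_apply, hv, map_zero, add_zero,
        LinearMap.zero_apply] at h1
      exact h1
    by_cases hbv : b v = 0
    · exact hv0 ((Submodule.eq_bot_iff _).1 hkerab v ⟨hv, hbv⟩)
    · exact hbv ((Submodule.eq_bot_iff _).1 hkerab _ ⟨habv, hbb v⟩)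
  have hθker := hkerbot θ hθa hθb hθ0
  have ha0 : a ≠ 0 := fun h => hθ0 (by rw [hθdef, h, zero_mul, mul_zero, add_zero])
  -- the field of endomorphisms commuting with the generators
  let D : Subring (Module.End (ZMod p) U) := Subring.centralizer {a, b}
  have hD : ∀ f : D, Commute (f : Module.End (ZMod p) U) a ∧ Commute (f : Module.End (ZMod p) U) b := fun f =>
    ⟨((Subring.mem_centralizer_iff.1 f.2) a (Set.mem_insert _ _)).symm,
      ((Subring.mem_centralizer_iff.1 f.2) b (Set.mem_insert_of_mem _ rfl)).symm⟩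
  haveI : Nontrivial D := ⟨⟨0, 1, fun h => zero_ne_one (congrArg Subtype.val h)⟩⟩
  haveI : NoZeroDivisors D := ⟨fun {f g} hfg => by
    by_contra hne'
    push Not at hne'
    refine hne'.2 (Subtype.ext (LinearMap.ext fun v => ?_))
    have h1 := hkerbot f (hD f).1 (hD f).2 fun h => hne'.1 (Subtype.ext h)
    refine (LinearMap.ker_eq_bot'.1 h1) _ ?_
    exact LinearMap.congr_fun (congrArg Subtype.val hfg) v⟩
  haveI : IsDomain D := NoZeroDivisors.to_isDomain D
  haveI : Finite (Module.End (ZMod p) U) :=
    Finite.of_injective (fun f : Module.End (ZMod p) U => (f : U → U)) DFunLike.coe_injective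
  letI : Field D := (Finite.isDomain_to_isField D).toField
  haveI : CharP (Module.End (ZMod p) U) p :=
    charP_of_injective_algebraMap (algebraMap (ZMod p) _).injective p
  haveI : CharP D p := ⟨fun n => by
    rw [← CharP.cast_eq_zero_iff (Module.End (ZMod p) U) p]
    exact ⟨fun h => by simpa using congrArg Subtype.val h, fun h => Subtype.ext (by simpa using h)⟩⟩
  let θD : D := ⟨θ, Subring.mem_centralizer_iff.2 fun g hg => by
    rcases hg with rfl | rfl
    · exact hθa.eq.symm
    · exact hθb.eq.symm⟩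
  obtain ⟨v, hv, hv0⟩ : ∃ v, a v = 0 ∧ v ≠ 0 := by
    obtain ⟨x, hx⟩ := exists_ne (0 : U)
    by_cases h : a x = 0
    · exact ⟨x, h, hx⟩
    · exact ⟨a x, haa x, h⟩
  have habv : a (b v) = θ v := by simp [hθdef, hv]
  have hsmul : ∀ (f : D) (x : U), f • x = (f : Module.End (ZMod p) U) x := fun _ _ => rfl
  have hcomm : ∀ (f : D) (x : U), a ((f : Module.End (ZMod p) U) x) = (f : Module.End (ZMod p) U) (a x) ∧
      b ((f : Module.End (ZMod p) U) x) = (f : Module.End (ZMod p) U) (b x) := fun f x =>
    ⟨(LinearMap.congr_fun (hD f).1.eq x).symm, (LinearMap.congr_fun (hD f).2.eq x).symm⟩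
  have hli : LinearIndependent D ![v, b v] := by
    rw [LinearIndependent.pair_iff]
    intro s t hst
    have ht : t = 0 := by
      by_contra ht
      have h1 := congrArg a hst
      rw [map_add, hsmul, hsmul, (hcomm s v).1, (hcomm t (b v)).1, hv, map_zero, zero_add, map_zero, habv] at h1
      have h2 := (LinearMap.ker_eq_bot'.1 (hkerbot t (hD t).1 (hD t).2 fun h => ht (Subtype.ext h))) _ h1
      exact hv0 ((LinearMap.ker_eq_bot'.1 hθker) _ h2)
    refine ⟨?_, ht⟩
    by_contra hs
    rw [ht, zero_smul, add_zero, hsmul] at hst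
    exact hv0 ((LinearMap.ker_eq_bot'.1 (hkerbot s (hD s).1 (hD s).2 fun h => hs (Subtype.ext h))) _ hst)
  have hspan : Submodule.span D (Set.range ![v, b v]) = ⊤ := by
    let W : Submodule (ZMod p) U :=
      { carrier := (Submodule.span D (Set.range ![v, b v]) : Set U)
        add_mem' := fun hx hy => add_mem hx hy
        zero_mem' := zero_mem _
        smul_mem' := fun c x hx => by
          have hc : algebraMap (ZMod p) (Module.End (ZMod p) U) c ∈ D :=
            Subring.mem_centralizer_iff.2 fun g _ => (Algebra.commutes c g).symm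
          have := Submodule.smul_mem (Submodule.span D (Set.range ![v, b v])) ⟨_, hc⟩ hx
          simpa [hsmul, Module.algebraMap_end_apply] using this }
    have hW : W = ⊤ := by
      refine (hinv W (fun x hx => ?_) (fun x hx => ?_)).resolve_left fun h => hv0 ?_
      · show a x ∈ Submodule.span D (Set.range ![v, b v])
        induction hx using Submodule.span_induction with
        | zero => simp
        | add x y _ _ hx hy => rw [map_add]; exact add_mem hx hy
        | smul c x _ hx => rw [hsmul, (hcomm c x).1]; exact Submodule.smul_mem _ c hx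
        | mem x hx =>
          obtain ⟨i, rfl⟩ := hx
          fin_cases i
          · simp [hv]
          · show a (b v) ∈ _
            rw [habv]
            exact Submodule.smul_mem _ θD (Submodule.subset_span ⟨0, rfl⟩)
      · show b x ∈ Submodule.span D (Set.range ![v, b v])
        induction hx using Submodule.span_induction with
        | zero => simp
        | add x y _ _ hx hy => rw [map_add]; exact add_mem hx hy
        | smul c x _ hx => rw [hsmul, (hcomm c x).2]; exact Submodule.smul_mem _ c hx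
        | mem x hx =>
          obtain ⟨i, rfl⟩ := hx
          fin_cases i
          · exact Submodule.subset_span ⟨1, rfl⟩
          · simp [hbb v]
      have : v ∈ W := Submodule.subset_span ⟨0, rfl⟩
      rwa [h, Submodule.mem_bot] at this
    exact eq_top_iff.2 fun x _ => (hW ▸ Submodule.mem_top : x ∈ W)
  let e : Module.Basis (Fin 2) D U := Module.Basis.mk hli hspan.ge
  have he0 : e 0 = v := by simp [e]
  have he1 : e 1 = b v := by simp [e]
  have hσD : ∀ (y : Y) (f : D) (x : U),
      σ y ((f : Module.End (ZMod p) U) x) = (f : Module.End (ZMod p) U) (σ y x) := by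
    intro y
    refine mem_of_closure_pair hgen (P := fun y => ∀ (f : D) (x : U),
      σ y ((f : Module.End (ZMod p) U) x) = (f : Module.End (ZMod p) U) (σ y x))
      (fun f x => by simp) (fun y y' hy hy' f x => by rw [map_mul]; simp [hy, hy'])
      (fun f x => by simp [hza, (hcomm f x).1]) (fun f x => by simp [hwb, (hcomm f x).2]) y
  let ρ : Y →* Module.End D U :=
    { toFun := fun y => { toFun := σ y, map_add' := map_add _, map_smul' := fun f x => hσD y f x }
      map_one' := LinearMap.ext fun x => by simp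
      map_mul' := fun y y' => LinearMap.ext fun x => by simp }
  have hρσ : ∀ y x, ρ y x = σ y x := fun _ _ => rfl
  have hma : LinearMap.toMatrix e e (ρ z) = !![1, θD; 0, 1] := by
    have e1 : ρ z (e 0) = e 0 := by rw [he0, hρσ, hza]; simp [hv]
    have e2 : ρ z (e 1) = e 1 + θD • e 0 := by
      rw [he1, he0, hρσ, hza, LinearMap.add_apply, Module.End.one_apply, habv]; rfl
    ext i j
    fin_cases j <;> simp [LinearMap.toMatrix_apply, e1, e2] <;> fin_cases i <;> simp
  have hmb : LinearMap.toMatrix e e (ρ w) = !![1, 0; 1, 1] := by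
    have e1 : ρ w (e 0) = e 0 + e 1 := by rw [he1, he0, hρσ, hwb]; simp
    have e2 : ρ w (e 1) = e 1 := by rw [he1, hρσ, hwb]; simp [hbb v]
    ext i j
    fin_cases j <;> simp [LinearMap.toMatrix_apply, e1, e2] <;> fin_cases i <;> simp
  have hdet : ∀ y : Y, (LinearMap.toMatrix e e (ρ y)).det = 1 :=
    mem_of_closure_pair hgen (by simp)
      (fun x y hx hy => by rw [map_mul, LinearMap.toMatrix_mul, det_mul, hx, hy, one_mul])
      (by rw [hma]; simp [Matrix.det_fin_two]) (by rw [hmb]; simp [Matrix.det_fin_two])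
  let φ : Y →* SpecialLinearGroup (Fin 2) D :=
    { toFun := fun y => ⟨LinearMap.toMatrix e e (ρ y), hdet y⟩
      map_one' := Subtype.ext (by simp)
      map_mul' := fun x y => Subtype.ext (by
        show LinearMap.toMatrix e e (ρ (x * y)) = _
        rw [map_mul, LinearMap.toMatrix_mul]
        rfl) }
  have hφσ : ∀ {x y : Y}, φ x = φ y → σ x = σ y := by
    intro x y h
    have := (LinearMap.toMatrix e e).injective (congrArg Subtype.val h : _)
    exact LinearMap.ext fun v => LinearMap.congr_fun this v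
  have hφneg : ∀ {x : Y}, (φ x).1 = -1 → σ x = -1 := by
    intro x h
    have : ρ x = -1 := (LinearMap.toMatrix e e).injective (by
      show (φ x).1 = _
      rw [h, map_neg, LinearMap.toMatrix_one])
    exact LinearMap.ext fun v => LinearMap.congr_fun this v
  have hφone : ∀ {x : Y}, (φ x).1 = 1 → σ x = 1 := by
    intro x h
    have : φ x = φ 1 := by rw [map_one]; exact Subtype.ext h
    rw [hφσ this, map_one]
  have hσφ : ∀ {x y : Y}, σ x = σ y → φ x = φ y := by
    intro x y h
    refine Subtype.ext (congrArg (LinearMap.toMatrix e e) (LinearMap.ext fun v => ?_))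
    exact LinearMap.congr_fun h v
  have h2D : (2 : D) ≠ 0 := by
    intro h
    have h2' : ((2 : ℕ) : D) = 0 := by exact_mod_cast h
    rw [CharP.cast_eq_zero_iff D p] at h2'
    have := Nat.le_of_dvd (by norm_num) h2'
    omega
  haveI : Finite D := Finite.of_injective Subtype.val Subtype.val_injective
  haveI : Finite (SpecialLinearGroup (Fin 2) D) := Finite.of_injective Subtype.val Subtype.val_injective
  obtain ⟨⟨⟨g, hgmem⟩, hg⟩, ⟨⟨h, hhmem⟩, r, hr, hhr⟩⟩ := sl_facts (p := p) hp (θ := θD)
    (fun h => hθ0 (congrArg Subtype.val h)) φ.range ⟨φ z, z, rfl⟩ ⟨φ w, w, rfl⟩ hma hmb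
  refine ⟨?_, ?_, fun x hxz hxw => ?_, ?_, fun x hx => ?_, ?_, ?_⟩
  · intro h
    have h1 := LinearMap.congr_fun h v
    rw [LinearMap.neg_apply, Module.End.one_apply, neg_eq_iff_add_eq_zero, ← two_smul D, smul_eq_zero] at h1
    exact h1.elim h2D hv0
  · intro hc
    have hab : Commute a b := (hc.sub_left (Commute.one_left _)).sub_right (Commute.one_right _)
    refine hθker.not_gt ?_ |>.elim
    refine bot_lt_iff_ne_bot.2 fun hk => ha0 (LinearMap.ext fun x => (LinearMap.ker_eq_bot'.1 hk) _ ?_)
    show (θ * a) x = 0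
    rw [hθdef, add_mul, mul_assoc b, hz, mul_zero, add_zero, mul_assoc, ← hab.eq, ← mul_assoc, hz, zero_mul]
    rfl
  · have hxa : Commute (σ x) a := hxz.sub_right (Commute.one_right _)
    have hxb : Commute (σ x) b := hxw.sub_right (Commute.one_right _)
    have e1 := congrArg (fun g : SpecialLinearGroup (Fin 2) D => g.1)
      (hσφ (x := x * z) (y := z * x) (by rw [map_mul, map_mul]; exact hxz.eq))
    have e2 := congrArg (fun g : SpecialLinearGroup (Fin 2) D => g.1)
      (hσφ (x := x * w) (y := w * x) (by rw [map_mul, map_mul]; exact hxw.eq))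
    simp only [map_mul, val_mul] at e1 e2
    rw [show (φ z).1 = !![1, θD; 0, 1] from hma] at e1
    rw [show (φ w).1 = !![1, 0; 1, 1] from hmb] at e2
    have f00 := congrFun (congrFun e1 0) 0
    have f01 := congrFun (congrFun e1 0) 1
    have g00 := congrFun (congrFun e2 0) 0
    simp [Matrix.mul_apply, Fin.sum_univ_two] at f00 f01 g00
    have hθD : θD ≠ 0 := fun h => hθ0 (congrArg Subtype.val h)
    have x10 : (φ x).1 1 0 = 0 := f00.resolve_left hθD
    have x01 : (φ x).1 0 1 = 0 := g00
    have hdiag : (φ x).1 0 0 = (φ x).1 1 1 := by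
      refine mul_right_cancel₀ hθD ?_
      linear_combination f01
    have hd := (φ x).2
    rw [Matrix.det_fin_two, x10, x01, mul_zero, sub_zero, ← hdiag] at hd
    rcases mul_self_eq_one_iff.1 hd with h1 | h1
    · left
      refine hφone ?_
      ext i j
      fin_cases i <;> fin_cases j <;> simp [x10, x01, ← hdiag, h1]
    · right
      refine hφneg ?_
      ext i j
      fin_cases i <;> fin_cases j <;> simp [x10, x01, ← hdiag, h1]
  · intro x hx
    have hθsurj : Function.Surjective θ :=
      (LinearMap.injective_iff_surjective (f := θ)).1 (LinearMap.ker_eq_bot.1 hθker)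
    obtain ⟨y, rfl⟩ := hθsurj x
    have hy : a y = 0 := by
      refine (LinearMap.ker_eq_bot'.1 hθker) _ ?_
      have := LinearMap.congr_fun hθa.eq y
      simp only [Module.End.mul_apply] at this
      rw [this]
      exact hx
    refine ⟨b y, ?_⟩
    show a (b y) = θ y
    simp [hθdef, hy]
  · have hinv' : (φ x)⁻¹ = φ x := inv_eq_of_mul_eq_one_right (by
      rw [← map_mul, ← map_one φ]
      exact hσφ (by rw [map_mul, map_one]; exact hx))
    have hmat := congrArg Subtype.val hinv'
    rw [val_inv, Matrix.adjugate_fin_two] at hmat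
    have e00 := congrFun (congrFun hmat 0) 0
    have e01 := congrFun (congrFun hmat 0) 1
    have e10 := congrFun (congrFun hmat 1) 0
    simp at e00 e01 e10
    have z01 : (φ x).1 0 1 = 0 := by
      have : (2 : D) * (φ x).1 0 1 = 0 := by linear_combination -e01
      exact (mul_eq_zero.1 this).resolve_left h2D
    have z10 : (φ x).1 1 0 = 0 := by
      have : (2 : D) * (φ x).1 1 0 = 0 := by linear_combination -e10
      exact (mul_eq_zero.1 this).resolve_left h2D
    have hd := (φ x).2
    rw [Matrix.det_fin_two, z01, z10, mul_zero, sub_zero, e00] at hd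
    rcases mul_self_eq_one_iff.1 hd with h1 | h1
    · left
      refine hφone ?_
      ext i j
      fin_cases i <;> fin_cases j <;> simp [z10, z01, e00, h1]
    · right
      refine hφneg ?_
      ext i j
      fin_cases i <;> fin_cases j <;> simp [z10, z01, e00, h1]
  · obtain ⟨y, rfl⟩ := hgmem
    refine ⟨y, ?_⟩
    rw [← map_mul]
    exact hφneg (by rw [map_mul, val_mul]; exact hg)
  · obtain ⟨y, rfl⟩ := hhmem
    refine ⟨y, r, hr, hφσ ?_⟩
    have := congrArg Subtype.val hhr
    simpa using this

end CfsgLib.RegUnip
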