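import Cfsg.Agent.RegUnip.Norm

/-!
Existence of suitable trace forms for every degree of the central element.
-/

set_option autoImplicit false

namespace CfsgLib.RegUnip.TwoRank

theorem sum_min (q b : ℕ) : ∀ n, ∑ l ∈ Finset.range n, min q (b - l * q) = min b (n * q) := by
  intro n
  induction n with
  | zero => simp
  | succ n ih => rw [Finset.sum_range_succ, ih, Nat.succ_mul]; omega

theorem min_split {q b s l : ℕ} (hq : 1 ≤ q) (hs : (b + q - 1) / q = s) (hl : l < s) :
    1 ≤ min q (b - l * q) := by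
  have h1 : (l + 1) * q ≤ b + q - 1 := by
    rw [← Nat.le_div_iff_mul_le (by omega), hs]
    omega
  rw [Nat.succ_mul] at h1
  omega

theorem le_ceil_mul {q b s : ℕ} (hq : 1 ≤ q) (hs : (b + q - 1) / q = s) :
    b ≤ s * q ∧ s * q + 1 ≤ b + q := by
  have h1 := Nat.div_add_mod (b + q - 1) q
  have h2 := Nat.mod_lt (b + q - 1) (show q > 0 by omega)
  rw [hs, mul_comm] at h1
  omega

/-- The numerical conditions when `k` divides `p - 1`. -/
theorem bounds_zero {k q b s D : ℤ} (hk : 2 ≤ k) (hq : 1 ≤ q) (hb : q + 1 ≤ b)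
    (hs : s * q + 1 ≤ b + q) (hD0 : 0 ≤ D) (hD : D ≤ q * k + k - 1) :
    (2 * s - 1) * D < k * b * (1 + k) ∧ k * b + s * D < k * b * (1 + k) := by
  have hk1 : 0 ≤ k - 1 := by omega
  have hB : 0 ≤ b - q - 1 := by omega
  have hqk : 2 ≤ q * k := by nlinarith
  constructor
  · by_contra hlt
    push Not at hlt
    have h2 : (2 * s - 1) * q * D ≤ (2 * b + q - 2) * (q * k + k - 1) := by
      refine le_trans (mul_le_mul_of_nonneg_right (show (2 * s - 1) * q ≤ 2 * b + q - 2 by nlinarith) hD0) ?_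
      exact mul_le_mul_of_nonneg_left hD (by omega)
    have h3 : q * (k * b * (1 + k)) ≤ (2 * s - 1) * q * D := by nlinarith
    nlinarith [mul_nonneg (mul_nonneg hk1 (show 0 ≤ q * k - 2 by omega)) hB, mul_nonneg hk1 hk1,
      mul_nonneg (mul_nonneg hk1 hk1) (show 0 ≤ q by omega), mul_nonneg (show (0:ℤ) ≤ q by omega) hk1,
      mul_nonneg (mul_nonneg (show (0:ℤ) ≤ q by omega) (show (0:ℤ) ≤ q by omega)) (show 0 ≤ k - 2 by omega)]
  · by_contra hlt
    push Not at hlt
    have h2 : s * q * D ≤ (b + q - 1) * (q * k + k - 1) := by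
      refine le_trans (mul_le_mul_of_nonneg_right (show s * q ≤ b + q - 1 by omega) hD0) ?_
      exact mul_le_mul_of_nonneg_left hD (by omega)
    have h3 : q * (k * b * k) ≤ s * q * D := by nlinarith
    nlinarith [mul_nonneg (mul_nonneg hk1 (show 0 ≤ q * k - 1 by omega)) hB, mul_nonneg hk1 hk1,
      mul_nonneg (mul_nonneg hk1 hk1) (show 0 ≤ q by omega), mul_nonneg (show (0:ℤ) ≤ q by omega) hk1,
      mul_nonneg (mul_nonneg (show (0:ℤ) ≤ q by omega) (show (0:ℤ) ≤ q by omega)) (show 0 ≤ k - 2 by omega)]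

/-- The main numerical condition when `k` does not divide `p - 1`. -/
theorem bounds_pos {k q b i s D : ℤ} (hk : 3 ≤ k) (hq : 1 ≤ q) (hb : q + 1 ≤ b) (hi : 1 ≤ i)
    (hs : s * q + 1 ≤ b + q) (hD0 : 0 ≤ D) (hD : D ≤ q * k + k - 1) (hbig : 4 ≤ k ∨ 2 * q + 1 ≤ b) :
    (2 * s + 1) * D < (b * k + i) * (1 + k) := by
  by_contra hlt
  push Not at hlt
  have h2 : (2 * s + 1) * q * D ≤ (2 * b + 3 * q - 2) * (q * k + k - 1) := by
    refine le_trans (mul_le_mul_of_nonneg_right (show (2 * s + 1) * q ≤ 2 * b + 3 * q - 2 by nlinarith) hD0) ?_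
    exact mul_le_mul_of_nonneg_left hD (by omega)
  have h3 : q * ((b * k + i) * (1 + k)) ≤ (2 * s + 1) * q * D := by nlinarith
  have hq0 : (0 : ℤ) ≤ q := by omega
  have hB : 0 ≤ b - q - 1 := by omega
  have hI : 0 ≤ i - 1 := by omega
  rcases hbig with hk4 | hb2
  · have hK : 0 ≤ k - 4 := by omega
    nlinarith [mul_nonneg (mul_nonneg hB hK) (mul_nonneg hq0 hK), mul_nonneg (mul_nonneg hq0 hB) hK,
      mul_nonneg hB hK, mul_nonneg hq0 hB, mul_nonneg (mul_nonneg hq0 hI) (show 0 ≤ k + 1 by omega),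
      mul_nonneg (mul_nonneg hq0 hq0) (mul_nonneg hK hK), mul_nonneg (mul_nonneg hq0 hq0) hK,
      mul_nonneg hq0 hK, mul_nonneg hq0 hq0, mul_nonneg (mul_nonneg hq0 hK) hK,
      mul_nonneg hq0 (show 0 ≤ q - 1 by omega)]
  · have hK : 0 ≤ k - 3 := by omega
    have hB2 : 0 ≤ b - 2 * q - 1 := by omega
    nlinarith [mul_nonneg (mul_nonneg hB2 hK) (mul_nonneg hq0 hK), mul_nonneg (mul_nonneg hq0 hB2) hK,
      mul_nonneg hB2 hK, mul_nonneg hq0 hB2, mul_nonneg (mul_nonneg hq0 hI) (show 0 ≤ k + 1 by omega),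
      mul_nonneg (mul_nonneg hq0 hq0) (mul_nonneg hK hK), mul_nonneg (mul_nonneg hq0 hq0) hK,
      mul_nonneg hq0 hK, mul_nonneg hq0 hq0, mul_nonneg (mul_nonneg hq0 hK) hK,
      mul_nonneg hq0 (show 0 ≤ q - 1 by omega)]

variable {p : ℕ} [Fact p.Prime] {X V : Type*} [Group X] [Finite X] [AddCommGroup V]
    [Module (ZMod p) V] {ρ : X →* (Module.End (ZMod p) V)ˣ} {N : Module.End (ZMod p) V} {d k : ℕ}
    {T : Sylow p X} {u z : X} (h : TwoRank p ρ N d k T u z)
include h

theorem exists_z_powers : ∃ c : ZMod p, c ≠ 0 ∧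
    ∀ j : ℕ, (((ρ z : Module.End (ZMod p) V) - 1) ^ j - c ^ j • N ^ (k * j) ∈ fil N ((k * j : ℕ) + 1) ∧
      Commute (((ρ z : Module.End (ZMod p) V) - 1) ^ j) N) ∧
      (∀ g ∈ Subgroup.normalizer ((Subgroup.zpowers z : Subgroup X) : Set X),
        (ρ g : Module.End (ZMod p) V) * ((ρ z : Module.End (ZMod p) V) - 1) ^ j *
          (↑(ρ g)⁻¹ : Module.End (ZMod p) V) ∈ fil N ((k * j : ℕ) : ℤ)) ∧
      ∀ v ∈ flag N (k * j), ∃ w, (((ρ z : Module.End (ZMod p) V) - 1) ^ j) w = v := by
  obtain ⟨c, U, hc, hU, he⟩ := h.z_lead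
  refine ⟨c, hc, fun j => ?_⟩
  set P := (ρ z : Module.End (ZMod p) V) - 1
  have hP : P - c • N ^ k = c • (N ^ k * (N * U)) := by
    rw [he, smul_mul_assoc, mul_add, mul_one, smul_add, add_sub_cancel_left]
  have hUfil : U ∈ fil N 0 := by
    obtain ⟨cu, hcu⟩ := h.regular.exists_eq_sum hU
    rw [hcu]
    exact Submodule.sum_mem _ fun l _ => Submodule.smul_mem _ _ (fil_anti (by omega) (pow_self_mem_fil N l))
  have hN1 : N ∈ fil N 1 := by simpa using pow_self_mem_fil N 1
  have hlead : P - c • N ^ k ∈ fil N ((k : ℤ) + 1) := by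
    rw [hP]
    refine Submodule.smul_mem _ _ ?_
    have := mul_mem_fil (pow_self_mem_fil N k) (mul_mem_fil hN1 hUfil)
    simpa using this
  refine ⟨⟨?_, ?_⟩, fun g hg => ?_, fun v hv => ?_⟩
  · have := pow_sub_pow_mem_fil h.z_fil (Submodule.smul_mem _ c (pow_self_mem_fil N k)) hlead j
    rw [smul_pow, ← pow_mul] at this
    push_cast
    exact this
  · refine Commute.pow_left ?_ j
    rw [he]
    exact ((Commute.pow_self N k).smul_left c).mul_left
      ((Commute.one_left N).add_left ((Commute.refl N).mul_left hU))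
  · have hz : g * z * g⁻¹ ∈ Subgroup.zpowers z :=
      (Subgroup.mem_normalizer_iff.1 hg z).1 (Subgroup.mem_zpowers z)
    obtain ⟨b, hb⟩ : ∃ b : ℕ, z ^ b = g * z * g⁻¹ := Submonoid.mem_powers_iff _ _ |>.1
      (mem_powers_iff_mem_zpowers.2 hz)
    have h1 : (ρ g : Module.End (ZMod p) V) * P * (↑(ρ g)⁻¹ : Module.End (ZMod p) V) =
        (ρ z : Module.End (ZMod p) V) ^ b - 1 := by
      rw [← Units.val_pow_eq_pow_val, ← map_pow, hb]
      simp [P, mul_sub, sub_mul]
    rw [← Units.conj_pow, h1]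
    push_cast
    exact pow_mem_fil (pow_sub_one_fil (by omega) h.z_fil b) j
  · obtain ⟨w, rfl⟩ := hv
    have hnil : IsNilpotent (N * U) := ⟨d, by rw [hU.symm.mul_pow, h.regular.pow_eq, zero_mul]⟩
    obtain ⟨W, hW⟩ := (hnil.isUnit_one_add).pow j
    refine ⟨(c ^ j)⁻¹ • (↑W⁻¹ : Module.End (ZMod p) V) w, ?_⟩
    have hcom : Commute (c • N ^ k) (1 + N * U) :=
      (((Commute.one_left N).add_left ((Commute.refl N).mul_left hU)).symm.pow_left k).smul_left c
    rw [map_smul, he, hcom.mul_pow, smul_pow, ← pow_mul, ← hW, ← Module.End.mul_apply, mul_assoc,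
      Units.mul_inv, mul_one, LinearMap.smul_apply, smul_smul, inv_mul_cancel₀ (pow_ne_zero _ hc), one_smul]

theorem conj_pow_mem_fil {g : X}
    (hg : g ∈ Subgroup.normalizer ((Subgroup.zpowers z : Subgroup X) : Set X)) (i : ℕ) :
    (ρ g : Module.End (ZMod p) V) * N ^ i * (↑(ρ g)⁻¹ : Module.End (ZMod p) V) ∈
      fil N (-((k : ℤ) - 1)) := by
  obtain ⟨c, -, hP⟩ := h.exists_z_powers
  have hk := h.two_le
  have hinv : ∀ x ∈ Subgroup.normalizer ((Subgroup.zpowers z : Subgroup X) : Set X), ∀ l : ℕ,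
      ∀ v ∈ flag N (k * l), (ρ x : Module.End (ZMod p) V) v ∈ flag N (k * l) := by
    intro x hx l v hv
    obtain ⟨w, rfl⟩ := (hP l).2.2 v hv
    have h1 := (hP l).2.1 x hx 0 ((ρ x : Module.End (ZMod p) V) w) (by rw [flag_zero]; trivial)
    rw [Module.End.mul_apply, Module.End.mul_apply, ← Module.End.mul_apply (↑(ρ x)⁻¹ : Module.End (ZMod p) V),
      Units.inv_mul, Module.End.one_apply] at h1
    exact flag_anti N (by omega) h1
  intro j v hv
  have hj := Nat.div_add_mod j k
  have hmod := Nat.mod_lt j (show k > 0 by omega)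
  have h1 := hinv g⁻¹ (inv_mem hg) (j / k) v (flag_anti N (by omega) hv)
  rw [map_inv] at h1
  have h2 := pow_apply_mem_flag N (a := i) h1
  have h3 := hinv g hg (j / k) _ (flag_anti N (by omega) h2)
  rw [Module.End.mul_apply, Module.End.mul_apply]
  exact flag_anti N (by omega) h3

/-- Forms made of powers of `z - 1` alone. -/
theorem exists_invariant_of_powers {s : ℕ} (j : Fin (s + 1) → ℕ) (hj : ∀ l, 1 ≤ j l)
    (hlt : ∀ l, k * j l < d) (hsum : ∑ l, k * j l = p - 1)
    (h1 : (2 * s + 1) * (d - 1) < (p - 1) * (1 + k))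
    (h2 : (p - 1) + (s + 1) * (d - 1) < (p - 1) * (1 + k)) :
    ∃ l, 0 < l ∧ l < d ∧ ∀ x : X, ∀ v ∈ flag N l, (ρ x : Module.End (ZMod p) V) v ∈ flag N l := by
  have hk := h.two_le
  obtain ⟨c, hc, hP⟩ := h.exists_z_powers
  refine h.exists_invariant (r := s) (f := fun l => ((ρ z : Module.End (ZMod p) V) - 1) ^ j l)
    (e := fun l => k * j l) (δ := fun _ => 0) (c := fun l => c ^ j l)
    ⟨fun l => (hP _).1.1, fun l => pow_ne_zero _ hc, hlt, ?_, hsum, fun l => (hP _).1.2,
      fun g hg l => ?_, rfl, ?_, h1, h2⟩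
  · exact Nat.one_le_iff_ne_zero.2 (Nat.mul_ne_zero (by omega) (by have := hj 0; omega))
  · simpa using (hP _).2.1 g hg
  · simp; have := h.le_pred; have := h.lt_dim; omega

/-- Forms made of powers of `z - 1` and one power of `N`. -/
theorem exists_invariant_of_powers_snoc {s : ℕ} (j : Fin (s + 1) → ℕ) (i : ℕ) (hj : ∀ l, 1 ≤ j l)
    (hlt : ∀ l, k * j l < d) (hi : i < d) (hsum : (∑ l, k * j l) + i = p - 1) (hik : i + k ≤ p - 1)
    (h1 : (2 * (s + 1) + 1) * (d - 1) < (p - 1) * (1 + k))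
    (h2 : (p - 1) + (s + 2) * (d - 1) < (p - 1) * (1 + k)) :
    ∃ l, 0 < l ∧ l < d ∧ ∀ x : X, ∀ v ∈ flag N l, (ρ x : Module.End (ZMod p) V) v ∈ flag N l := by
  have hk := h.two_le
  obtain ⟨c, hc, hP⟩ := h.exists_z_powers
  refine h.exists_invariant (r := s + 1)
    (f := Fin.snoc (fun l => ((ρ z : Module.End (ZMod p) V) - 1) ^ j l) (N ^ i))
    (e := Fin.snoc (fun l => k * j l) i) (δ := Fin.snoc (fun _ => 0) (i + (k - 1)))
    (c := Fin.snoc (fun l => c ^ j l) 1)
    ⟨fun l => ?_, fun l => ?_, fun l => ?_, ?_, ?_, fun l => ?_, fun g hg l => ?_, ?_, ?_, h1, h2⟩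
  · induction l using Fin.lastCases with
    | last => simp
    | cast l => simpa using (hP _).1.1
  · induction l using Fin.lastCases with
    | last => simp
    | cast l => simpa using pow_ne_zero _ hc
  · induction l using Fin.lastCases with
    | last => simpa using hi
    | cast l => simpa using hlt l
  · rw [show (0 : Fin (s + 1 + 1)) = Fin.castSucc 0 from rfl, Fin.snoc_castSucc]
    exact Nat.one_le_iff_ne_zero.2 (Nat.mul_ne_zero (by omega) (by have := hj 0; omega))
  · rw [Fin.sum_univ_castSucc]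
    simpa using hsum
  · induction l using Fin.lastCases with
    | last => simpa using Commute.pow_self N i
    | cast l => simpa using (hP _).1.2
  · induction l using Fin.lastCases with
    | last =>
      simp only [Fin.snoc_last]
      exact fil_anti (by omega) (h.conj_pow_mem_fil hg i)
    | cast l => simpa using (hP _).2.1 g hg
  · rw [show (0 : Fin (s + 1 + 1)) = Fin.castSucc 0 from rfl, Fin.snoc_castSucc]
  · rw [Fin.sum_univ_castSucc]
    simp
    omega

/-- A linear group with such a Sylow subgroup is reducible. -/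
theorem exists_invariant' :
    ∃ l, 0 < l ∧ l < d ∧ ∀ x : X, ∀ v ∈ flag N l, (ρ x : Module.End (ZMod p) V) v ∈ flag N l := by
  have hk := h.two_le
  have hd := h.lt_dim
  have hdp := h.le_pred
  set q := (d - 1) / k with hq
  have hq1 : 1 ≤ q := (Nat.one_le_div_iff (by omega)).2 (by omega)
  have hqmod := Nat.div_add_mod (d - 1) k
  have hqlt := Nat.mod_lt (d - 1) (show k > 0 by omega)
  rw [← hq] at hqmod
  set b := (p - 1) / k with hb
  set i := (p - 1) % k with hi
  have hbi : k * b + i = p - 1 := Nat.div_add_mod (p - 1) k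
  have hik : i < k := Nat.mod_lt _ (by omega)
  have hqb : q ≤ b := Nat.div_le_div_right (by omega)
  obtain ⟨s, hs⟩ : ∃ s, (b + q - 1) / q = s + 1 := by
    refine ⟨(b + q - 1) / q - 1, (Nat.sub_add_cancel ((Nat.one_le_div_iff (by omega)).2 (by omega))).symm⟩
  obtain ⟨hbs, hsb⟩ := le_ceil_mul hq1 hs
  have hsum : ∑ l : Fin (s + 1), k * min q (b - (l : ℕ) * q) = k * b := by
    rw [← Finset.mul_sum, Fin.sum_univ_eq_sum_range (fun l => min q (b - l * q)), sum_min,
      min_eq_left hbs]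
  have hlt : ∀ l : Fin (s + 1), k * min q (b - (l : ℕ) * q) < d := fun l =>
    lt_of_le_of_lt (Nat.mul_le_mul_left k (min_le_left _ _)) (by omega)
  have hj : ∀ l : Fin (s + 1), 1 ≤ min q (b - (l : ℕ) * q) := fun l => min_split hq1 hs l.isLt
  have hdq : d - 1 ≤ q * k + k - 1 := by rw [mul_comm]; omega
  by_cases hi0 : i = 0
  · have hqb' : q + 1 ≤ b := by
      rw [← Nat.lt_iff_add_one_le]
      by_contra hge
      have : k * b ≤ k * q := Nat.mul_le_mul_left k (by omega)
      omega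
    have hp1 : p - 1 = k * b := by omega
    obtain ⟨e1, e2⟩ := bounds_zero (k := (k : ℤ)) (q := (q : ℤ)) (b := (b : ℤ)) (s := ((s + 1 : ℕ) : ℤ))
      (D := ((d - 1 : ℕ) : ℤ)) (by omega) (by omega) (by omega) (by exact_mod_cast hsb) (by omega)
      (by
        have : ((d - 1 : ℕ) : ℤ) + 1 ≤ ((q * k + k : ℕ) : ℤ) := by exact_mod_cast (by omega)
        push_cast at this ⊢
        omega)
    refine h.exists_invariant_of_powers _ hj hlt (by omega) ?_ ?_
    · rw [hp1]; push_cast at e1; zify; nlinarith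
    · rw [hp1]; push_cast at e2; zify; nlinarith
  · have hk3 : 3 ≤ k := by
      by_contra hk3
      obtain rfl : k = 2 := by omega
      obtain ⟨m, hm⟩ := (Fact.out : p.Prime).eq_two_or_odd'.resolve_left (by omega)
      omega
    have h3 : 3 * (p - 1) ≤ (p - 1) * (1 + k) := by
      rw [mul_comm 3]; exact Nat.mul_le_mul_left _ (by omega)
    have hb1 : 1 ≤ b := (Nat.one_le_div_iff (by omega)).2 (by omega)
    have hkb : k ≤ k * b := Nat.le_mul_of_pos_right k hb1
    rcases Nat.lt_or_ge q b with hqb' | hqb'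
    swap
    · have hs0 : s = 0 := by
        by_contra hs0
        have : 2 * q ≤ (s + 1) * q := Nat.mul_le_mul_right q (by omega)
        omega
      subst hs0
      exact h.exists_invariant_of_powers_snoc _ i hj hlt (by omega) (by omega) (by omega)
        (by omega) (by omega)
    have hdeg : (2 * (s + 1) + 1) * (d - 1) < (p - 1) * (1 + k) →
        (p - 1) + (s + 2) * (d - 1) < (p - 1) * (1 + k) := by
      intro hlt'
      have h4 : 3 * ((s + 2) * (d - 1)) ≤ 2 * ((2 * (s + 1) + 1) * (d - 1)) := by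
        rw [← mul_assoc, ← mul_assoc]
        exact Nat.mul_le_mul_right _ (by omega)
      omega
    suffices hmain : (2 * (s + 1) + 1) * (d - 1) < (p - 1) * (1 + k) ∨
        (k = 3 ∧ b ≤ 2 * q ∧ 4 * (p - 1) ≤ 5 * (d - 1)) by
      rcases hmain with hm | ⟨rfl, hb2, h5⟩
      · exact h.exists_invariant_of_powers_snoc _ i hj hlt (by omega) (by omega) (by omega) hm (hdeg hm)
      · exact h.exists_invariant_of_powers_snoc (s := 0) (fun _ => q) (p - 1 - 3 * q) (fun _ => hq1)
          (fun _ => by omega) (by omega) (by simp; omega) (by omega) (by omega) (by omega)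
    by_cases hcase : 4 ≤ k ∨ 2 * q + 1 ≤ b
    · left
      have e1 := bounds_pos (k := (k : ℤ)) (q := (q : ℤ)) (b := (b : ℤ)) (i := (i : ℤ))
        (s := ((s + 1 : ℕ) : ℤ)) (D := ((d - 1 : ℕ) : ℤ)) (by omega) (by omega) (by omega) (by omega)
        (by exact_mod_cast hsb) (by omega)
        (by
          have : ((d - 1 : ℕ) : ℤ) + 1 ≤ ((q * k + k : ℕ) : ℤ) := by exact_mod_cast (by omega)
          push_cast at this ⊢
          omega)
        (by omega)
      rw [← hbi, mul_comm k b]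
      push_cast at e1
      zify
      exact e1
    · push Not at hcase
      obtain rfl : k = 3 := by omega
      have hs1 : s ≤ 1 := by
        by_contra hs1
        have : 3 * q ≤ (s + 1) * q := Nat.mul_le_mul_right q (by omega)
        omega
      rcases Nat.lt_or_ge (5 * (d - 1)) (4 * (p - 1)) with hlt' | hge
      · left
        have : (2 * (s + 1) + 1) * (d - 1) ≤ 5 * (d - 1) := Nat.mul_le_mul_right _ (by omega)
        omega
      · exact Or.inr ⟨rfl, by omega, hge⟩

end CfsgLib.RegUnip.TwoRank
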