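import Cfsg.Agent.RegUnip.Forms

/-!
The relative trace of a trace form: a linear group with an abelian Sylow `p`-subgroup of order `p²`
containing a regular unipotent element leaves a term of the flag invariant.
-/

set_option autoImplicit false
set_option maxHeartbeats 200000

namespace CfsgLib.RegUnip

/-- The sum of an equivariant function over a free invariant set lies in any submodule containing the
orbit sums. -/
theorem sum_mem_of_free {G α M : Type*} [Group G] [Fintype G] [MulAction G α] [AddCommMonoid M]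
    (P : AddSubmonoid M) (F : α → M) (C : Finset α) (hC : ∀ g : G, ∀ a ∈ C, g • a ∈ C)
    (hfree : ∀ g : G, ∀ a ∈ C, g • a = a → g = 1) (hP : ∀ a ∈ C, ∑ g : G, F (g • a) ∈ P) :
    ∑ a ∈ C, F a ∈ P := by
  classical
  induction C using Finset.strongInduction with
  | _ C ih =>
    rcases C.eq_empty_or_nonempty with rfl | ⟨a, ha⟩
    · simp
    set O := Finset.univ.image (fun g : G => g • a)
    have hsub : O ⊆ C := by
      intro b hb
      obtain ⟨g, -, rfl⟩ := Finset.mem_image.1 hb
      exact hC g a ha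
    have haO : a ∈ O := Finset.mem_image.2 ⟨1, Finset.mem_univ _, one_smul G a⟩
    have hO : ∑ b ∈ O, F b = ∑ g : G, F (g • a) := by
      refine Finset.sum_image fun g _ g' _ hgg => ?_
      have h1 : (g'⁻¹ * g) • a = a := by rw [mul_smul]; exact inv_smul_eq_iff.2 hgg
      exact (inv_mul_eq_one.1 (hfree _ a ha h1)).symm
    rw [← Finset.sum_sdiff hsub, hO]
    refine add_mem (ih _ ?_ ?_ ?_ ?_) (hP a ha)
    · exact Finset.sdiff_ssubset hsub ⟨a, haO⟩
    · intro g b hb
      rw [Finset.mem_sdiff] at hb ⊢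
      refine ⟨hC g b hb.1, fun hgb => hb.2 ?_⟩
      obtain ⟨g', -, hg'⟩ := Finset.mem_image.1 hgb
      exact Finset.mem_image.2 ⟨g⁻¹ * g', Finset.mem_univ _, by
        simp only [mul_smul, hg', inv_smul_smul]⟩
    · exact fun g b hb => hfree g b (Finset.mem_sdiff.1 hb).1
    · exact fun b hb => hP b (Finset.mem_sdiff.1 hb).1

/-- A finite group of linear maps with a Sylow `p`-subgroup generated by a regular unipotent element
`u` and a commuting element `z` of higher degree. -/
structure TwoRank (p : ℕ) [Fact p.Prime] {X V : Type*} [Group X] [Finite X] [AddCommGroup V]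
    [Module (ZMod p) V] (ρ : X →* (Module.End (ZMod p) V)ˣ) (N : Module.End (ZMod p) V) (d k : ℕ)
    (T : Sylow p X) (u z : X) : Prop where
  inj : Function.Injective ρ
  regular : Regular N d
  le_pred : d ≤ p - 1
  two_le : 2 ≤ k
  lt_dim : k < d
  hN : (ρ u : Module.End (ZMod p) V) - 1 = N
  mem_u : u ∈ (T : Subgroup X)
  mem_z : z ∈ (T : Subgroup X)
  exists_pows : ∀ t ∈ (T : Subgroup X), ∃ a b : ℕ, t = u ^ a * z ^ b
  comm : Commute u z
  u_pow : u ^ p = 1
  z_pow : z ^ p = 1
  z_lead : ∃ (c : ZMod p) (U : Module.End (ZMod p) V), c ≠ 0 ∧ Commute U N ∧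
    (ρ z : Module.End (ZMod p) V) - 1 = c • N ^ k * (1 + N * U)

namespace TwoRank

variable {p : ℕ} [Fact p.Prime] {X V : Type*} [Group X] [Finite X] [AddCommGroup V]
    [Module (ZMod p) V] {ρ : X →* (Module.End (ZMod p) V)ˣ} {N : Module.End (ZMod p) V} {d k : ℕ}
    {T : Sylow p X} {u z : X} (h : TwoRank p ρ N d k T u z)
include h

theorem rho_u : (ρ u : Module.End (ZMod p) V) = N + 1 := by rw [← h.hN, sub_add_cancel]

theorem z_fil : (ρ z : Module.End (ZMod p) V) - 1 ∈ fil N (k : ℤ) := by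
  obtain ⟨c, U, -, hU, he⟩ := h.z_lead
  rw [he, smul_mul_assoc]
  refine Submodule.smul_mem _ _ ?_
  have h1 : (1 + N * U) ∈ fil N 0 := by
    refine add_mem (one_mem_fil N) (fil_anti (show (0 : ℤ) ≤ 1 + 0 by omega)
      (mul_mem_fil (by simpa using pow_self_mem_fil N 1) ?_))
    obtain ⟨c, rfl⟩ := h.regular.exists_eq_sum hU
    exact Submodule.sum_mem _ fun l _ => Submodule.smul_mem _ _
      (fil_anti (by omega) (pow_self_mem_fil N l))
  simpa using mul_mem_fil (pow_self_mem_fil N k) h1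

omit h in
theorem pow_sub_one_fil {A : Module.End (ZMod p) V} {m : ℤ} (hm : 0 ≤ m) (hA : A - 1 ∈ fil N m)
    (a : ℕ) : A ^ a - 1 ∈ fil N m := by
  induction a with
  | zero => simp
  | succ a ih =>
    rw [show A ^ (a + 1) - 1 = (A ^ a - 1) * (A - 1) + (A ^ a - 1) + (A - 1) by
      rw [pow_succ, sub_mul, one_mul, mul_sub, mul_one]; abel]
    exact add_mem (add_mem (fil_anti (by omega) (mul_mem_fil ih hA)) ih) hA

theorem u_pow_lead (a : ℕ) :
    (ρ u : Module.End (ZMod p) V) ^ a - 1 - (a : ZMod p) • N ∈ fil N 2 := by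
  induction a with
  | zero => simp
  | succ a ih =>
    have hN1 : N ∈ fil N 1 := by simpa using pow_self_mem_fil N 1
    have h1 : (ρ u : Module.End (ZMod p) V) ^ (a + 1) - 1 - ((a + 1 : ℕ) : ZMod p) • N =
        ((ρ u : Module.End (ZMod p) V) ^ a - 1) * N +
          ((ρ u : Module.End (ZMod p) V) ^ a - 1 - (a : ZMod p) • N) := by
      rw [pow_succ, Nat.cast_succ, add_smul, one_smul]
      generalize (ρ u : Module.End (ZMod p) V) ^ a = B
      rw [h.rho_u, mul_add, mul_one, sub_mul, one_mul]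
      abel
    rw [h1]
    have h2 : (ρ u : Module.End (ZMod p) V) ^ a - 1 ∈ fil N 1 :=
      pow_sub_one_fil (by omega) (by rw [h.hN]; exact hN1) a
    exact add_mem (fil_anti (show (2 : ℤ) ≤ 1 + 1 by omega) (mul_mem_fil h2 hN1)) ih

theorem lead (a b : ℕ) :
    (ρ (u ^ a * z ^ b) : Module.End (ZMod p) V) - 1 - (a : ZMod p) • N ∈ fil N 2 := by
  have h1 := h.u_pow_lead a
  have h2 := pow_sub_one_fil (N := N) (by omega) h.z_fil b
  have hk := h.two_le
  rw [map_mul, map_pow, map_pow, Units.val_mul, Units.val_pow_eq_pow_val, Units.val_pow_eq_pow_val,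
    show (ρ u : Module.End (ZMod p) V) ^ a * (ρ z : Module.End (ZMod p) V) ^ b - 1 - (a : ZMod p) • N =
      (ρ u : Module.End (ZMod p) V) ^ a * ((ρ z : Module.End (ZMod p) V) ^ b - 1) +
        ((ρ u : Module.End (ZMod p) V) ^ a - 1 - (a : ZMod p) • N) by
      rw [mul_sub, mul_one]; abel]
  refine add_mem (fil_anti (show (2 : ℤ) ≤ 0 + (k : ℤ) by omega) (mul_mem_fil ?_ h2)) h1
  have hN1 : N ∈ fil N 1 := by simpa using pow_self_mem_fil N 1
  have h3 : (ρ u : Module.End (ZMod p) V) ^ a - 1 ∈ fil N 0 :=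
    pow_sub_one_fil le_rfl (by rw [h.hN]; exact fil_anti (by omega) hN1) a
  have h4 := add_mem h3 (one_mem_fil N)
  rwa [sub_add_cancel] at h4

theorem sub_one_fil {t : X} (ht : t ∈ (T : Subgroup X)) :
    (ρ t : Module.End (ZMod p) V) - 1 ∈ fil N 1 := by
  obtain ⟨a, b, rfl⟩ := h.exists_pows t ht
  have := add_mem (fil_anti (show (1 : ℤ) ≤ 2 by omega) (h.lead a b))
    (Submodule.smul_mem _ (a : ZMod p) (show N ∈ fil N 1 by simpa using pow_self_mem_fil N 1))
  rwa [sub_add_cancel] at this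

theorem fil_zero {t : X} (ht : t ∈ (T : Subgroup X)) : (ρ t : Module.End (ZMod p) V) ∈ fil N 0 := by
  have := add_mem (fil_anti (show (0 : ℤ) ≤ 1 by omega) (h.sub_one_fil ht)) (one_mem_fil N)
  rwa [sub_add_cancel] at this

theorem inv_fil_zero {t : X} (ht : t ∈ (T : Subgroup X)) :
    (↑(ρ t)⁻¹ : Module.End (ZMod p) V) ∈ fil N 0 := by
  have := h.fil_zero (inv_mem ht)
  rwa [map_inv] at this

theorem z_zpowers_of_not_regular {t : X} (ht : t ∈ (T : Subgroup X))
    (hnr : ((ρ t : Module.End (ZMod p) V) - 1) ^ (d - 1) = 0) : t ∈ Subgroup.zpowers z := by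
  obtain ⟨a, b, rfl⟩ := h.exists_pows t ht
  by_cases ha : (a : ZMod p) = 0
  · have hp : (p : ℕ) ∣ a := (ZMod.natCast_eq_zero_iff a p).1 ha
    obtain ⟨c, rfl⟩ := hp
    rw [pow_mul, h.u_pow, one_pow, one_mul]
    exact ⟨b, zpow_natCast z b⟩
  · exfalso
    have h1 := pow_sub_pow_mem_fil (a := 1) (h.sub_one_fil ht)
      (Submodule.smul_mem _ (a : ZMod p) (show N ∈ fil N 1 by simpa using pow_self_mem_fil N 1))
      (h.lead a b) (d - 1)
    rw [hnr, zero_sub, neg_mem_iff, smul_pow] at h1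
    have h2 := (Submodule.smul_mem_iff _ (pow_ne_zero _ ha)).1 h1
    have hd := h.lt_dim
    exact h.regular.pow_notMem_fil (show d - 1 < d by omega) (by simpa using h2)

theorem regular_of_notMem {t : X} (ht : t ∈ (T : Subgroup X)) (htz : t ∉ Subgroup.zpowers z) :
    Regular ((ρ t : Module.End (ZMod p) V) - 1) d := by
  refine ⟨h.regular.finrank_eq, ?_, fun h0 => htz (h.z_zpowers_of_not_regular ht h0), h.regular.pos⟩
  have h1 := pow_mem_fil (h.sub_one_fil ht) d
  rwa [h.regular.fil_eq_bot (by omega), Submodule.mem_bot] at h1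

theorem not_regular_of_mem {t : X} (ht : t ∈ Subgroup.zpowers z) :
    ((ρ t : Module.End (ZMod p) V) - 1) ^ (d - 1) = 0 := by
  obtain ⟨b, rfl⟩ : ∃ b : ℕ, z ^ b = t := Submonoid.mem_powers_iff _ _ |>.1
    (mem_powers_iff_mem_zpowers.2 ht)
  have h2 := pow_sub_one_fil (N := N) (by omega) h.z_fil b
  have h3 := pow_mem_fil h2 (d - 1)
  have hk := h.two_le
  have hd := h.lt_dim
  rw [h.regular.fil_eq_bot ?_, Submodule.mem_bot] at h3
  · simpa using h3
  · have hd2 : 2 ≤ d - 1 := by omega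
    have : (d : ℕ) ≤ k * (d - 1) := le_trans (by omega : d ≤ 2 * (d - 1)) (Nat.mul_le_mul_right _ hk)
    exact_mod_cast this

theorem mem_zpowers_conj {t g : X} (ht : t ∈ Subgroup.zpowers z) (hg : g * t * g⁻¹ ∈ (T : Subgroup X)) :
    g * t * g⁻¹ ∈ Subgroup.zpowers z := by
  refine h.z_zpowers_of_not_regular hg ?_
  have hc : (ρ (g * t * g⁻¹) : Module.End (ZMod p) V) - 1 = (ρ g : Module.End (ZMod p) V) *
      ((ρ t : Module.End (ZMod p) V) - 1) * (↑(ρ g)⁻¹ : Module.End (ZMod p) V) := by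
    simp [mul_sub, sub_mul]
  rw [hc, Units.conj_pow, h.not_regular_of_mem ht, mul_zero, zero_mul]

theorem mem_normalizer_of_regular {y g : X} (hy : y ∈ (T : Subgroup X))
    (hyz : y ∉ Subgroup.zpowers z) (hg : g * y * g⁻¹ ∈ (T : Subgroup X)) :
    g ∈ Subgroup.normalizer ((T : Subgroup X) : Set X) := by
  set y' := g * y * g⁻¹
  have hy' : y' ∉ Subgroup.zpowers z := by
    intro hmem
    have h1 := h.mem_zpowers_conj (g := g⁻¹) hmem (by simpa [y', mul_assoc] using hy)
    exact hyz (by simpa [y', mul_assoc] using h1)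
  have hreg := h.regular_of_notMem hg hy'
  have habel : ∀ t ∈ (T : Subgroup X), ∀ s ∈ (T : Subgroup X), Commute t s := by
    intro t ht s hs
    obtain ⟨a, b, rfl⟩ := h.exists_pows t ht
    obtain ⟨a', b', rfl⟩ := h.exists_pows s hs
    exact ((Commute.pow_pow_self u a a').mul_right (h.comm.pow_pow a b')).mul_left
      ((h.comm.symm.pow_pow b a').mul_right (Commute.pow_pow_self z b b'))
  set P := (T : Subgroup X).map (MulAut.conj g).toMonoidHom
  have hcommy : ∀ s : X, Commute s y' →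
      Commute (ρ s : Module.End (ZMod p) V) ((ρ y' : Module.End (ZMod p) V) - 1) := fun s hs =>
    ((hs.map ρ).units_val).sub_right (Commute.one_right _)
  have hPT : P ≤ Subgroup.normalizer ((T : Subgroup X) : Set X) := by
    rintro _ ⟨s, hs, rfl⟩
    refine Subgroup.mem_normalizer_iff_map_conj_eq.2 ?_
    ext t
    have hconj : Commute (g * s * g⁻¹) y' :=
      (habel s hs y hy).map (MulAut.conj g).toMonoidHom
    have hid : ∀ t ∈ (T : Subgroup X), (g * s * g⁻¹) * t * (g * s * g⁻¹)⁻¹ = t := by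
      intro t ht
      have h1 := hreg.commute_of_commute (hcommy _ hconj) (hcommy _ (habel t ht y' hg))
      have h2 : Commute (g * s * g⁻¹) t := h.inj (Units.ext (by
        rw [map_mul ρ (g * s * g⁻¹) t, map_mul ρ t, Units.val_mul, Units.val_mul]
        exact h1.eq))
      rw [h2.eq, mul_inv_cancel_right]
    constructor
    · rintro ⟨t', ht', rfl⟩
      show (g * s * g⁻¹) * t' * (g * s * g⁻¹)⁻¹ ∈ (T : Subgroup X)
      rw [hid t' ht']
      exact ht'
    · intro ht
      exact ⟨t, ht, hid t ht⟩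
  have hP : IsPGroup p P := T.isPGroup'.map _
  have hsup := IsPGroup.to_sup_of_normal_left' T.isPGroup' hP hPT
  have hle : P ≤ (T : Subgroup X) := le_sup_right.trans (T.3 hsup le_sup_left).le
  refine Subgroup.mem_normalizer_iff_map_conj_eq.2 (Subgroup.eq_of_le_of_card_ge hle ?_)
  exact (Nat.card_congr ((T : Subgroup X).equivMapOfInjective _ (MulAut.conj g).injective).toEquiv).le

theorem normalizer_le :
    Subgroup.normalizer ((T : Subgroup X) : Set X) ≤
      Subgroup.normalizer ((Subgroup.zpowers z : Subgroup X) : Set X) := by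
  intro n hn
  refine Subgroup.mem_normalizer_iff_map_conj_eq.2 (Subgroup.eq_of_le_of_card_ge ?_ ?_)
  · rintro _ ⟨t, ht, rfl⟩
    refine h.mem_zpowers_conj ht ((Subgroup.mem_normalizer_iff.1 hn t).1 ?_)
    exact Subgroup.zpowers_le.2 h.mem_z ht
  · exact (Nat.card_congr ((Subgroup.zpowers z).equivMapOfInjective _
      (MulAut.conj n).injective).toEquiv).le

end TwoRank

end CfsgLib.RegUnip
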